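import Mathlib

/-!
# Element orders of affine groups `M^k ⋊ L`

For a finite abelian group `M` of prime exponent `p` and a group `L` acting on it, the set of element
orders of `M^k ⋊ L` does not depend on `k ≥ 1`; in particular any spectrum realised by such a group is
realised by groups of unbounded order.
-/

set_option autoImplicit false

namespace Cfsg.Agent.GenA.Spec

open Finset

variable {L M : Type} [Group L] [AddCommGroup M]

theorem end_mul_apply (f g : AddMonoid.End M) (v : M) : (f * g) v = f (g v) := rfl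

/-- the coordinatewise action on `M ^ k` -/
def powAct (ρ : L →* AddMonoid.End M) (k : ℕ) : L →* MulAut (Multiplicative (Fin k → M)) where
  toFun g :=
    { toFun := fun v => Multiplicative.ofAdd fun i => ρ g (v.toAdd i)
      invFun := fun v => Multiplicative.ofAdd fun i => ρ g⁻¹ (v.toAdd i)
      left_inv := fun v => by
        apply Multiplicative.toAdd.injective
        funext i
        show ρ g⁻¹ (ρ g (v.toAdd i)) = v.toAdd i
        rw [← end_mul_apply, ← map_mul, inv_mul_cancel, map_one]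
        rfl
      right_inv := fun v => by
        apply Multiplicative.toAdd.injective
        funext i
        show ρ g (ρ g⁻¹ (v.toAdd i)) = v.toAdd i
        rw [← end_mul_apply, ← map_mul, mul_inv_cancel, map_one]
        rfl
      map_mul' := fun v w => by
        apply Multiplicative.toAdd.injective
        funext i
        exact map_add (ρ g) (v.toAdd i) (w.toAdd i) }
  map_one' := by
    ext v : 1
    apply Multiplicative.toAdd.injective
    funext i
    show ρ 1 (v.toAdd i) = v.toAdd i
    rw [map_one]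
    rfl
  map_mul' g h := by
    ext v : 1
    apply Multiplicative.toAdd.injective
    funext i
    show ρ (g * h) (v.toAdd i) = ρ g (ρ h (v.toAdd i))
    rw [map_mul]
    rfl

theorem powAct_toAdd (ρ : L →* AddMonoid.End M) (k : ℕ) (g : L) (v : Multiplicative (Fin k → M)) (i : Fin k) :
    ((powAct ρ k g) v).toAdd i = ρ g (v.toAdd i) := rfl

/-- the affine group -/
abbrev Aff (ρ : L →* AddMonoid.End M) (k : ℕ) := Multiplicative (Fin k → M) ⋊[powAct ρ k] L

theorem aff_pow (ρ : L →* AddMonoid.End M) (k : ℕ) (x : Aff ρ k) (n : ℕ) :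
    (x ^ n).right = x.right ^ n ∧
      ∀ i, (x ^ n).left.toAdd i = ∑ j ∈ range n, ρ (x.right ^ j) (x.left.toAdd i) := by
  induction n with
  | zero => exact ⟨by rw [pow_zero, pow_zero]; rfl, fun i => by simp⟩
  | succ n ih =>
    refine ⟨by rw [pow_succ, SemidirectProduct.mul_right, ih.1, pow_succ], fun i => ?_⟩
    rw [pow_succ, SemidirectProduct.mul_left, toAdd_mul, Pi.add_apply, ih.1, powAct_toAdd, ih.2 i,
      sum_range_succ]

theorem aff_eq_one (ρ : L →* AddMonoid.End M) (k : ℕ) (x : Aff ρ k) :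
    x = 1 ↔ x.right = 1 ∧ ∀ i, x.left.toAdd i = 0 := by
  constructor
  · rintro rfl
    exact ⟨rfl, fun i => rfl⟩
  · rintro ⟨h1, h2⟩
    ext : 1
    · exact Multiplicative.toAdd.injective (funext h2)
    · exact h1

/-- the sum over the cyclic group generated by `g` -/
noncomputable def cycSum (ρ : L →* AddMonoid.End M) (g : L) : AddMonoid.End M := ∑ j ∈ range (orderOf g), ρ (g ^ j)

theorem cycSum_apply (ρ : L →* AddMonoid.End M) (g : L) (v : M) :
    cycSum ρ g v = ∑ j ∈ range (orderOf g), ρ (g ^ j) v := by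
  unfold cycSum
  induction range (orderOf g) using Finset.induction_on with
  | empty => rfl
  | insert a s ha ih => rw [sum_insert ha, sum_insert ha, ← ih]; rfl

/-- a non-zero cyclic sum produces a fixed vector -/
theorem exists_fixed [Finite L] (ρ : L →* AddMonoid.End M) {g : L} (h : cycSum ρ g ≠ 0) :
    ∃ v : M, v ≠ 0 ∧ ρ g v = v := by
  obtain ⟨w, hw⟩ : ∃ w, cycSum ρ g w ≠ 0 := by
    by_contra hh
    push Not at hh
    exact h (DFunLike.ext _ _ hh)
  refine ⟨cycSum ρ g w, hw, ?_⟩
  have h1 : ρ g * cycSum ρ g = cycSum ρ g := by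
    have h2 := sum_range_succ' (fun j => ρ (g ^ j)) (orderOf g)
    rw [sum_range_succ, pow_orderOf_eq_one, pow_zero] at h2
    unfold cycSum
    rw [mul_sum]
    simp_rw [← map_mul, ← pow_succ']
    exact (add_right_cancel h2).symm
  exact DFunLike.congr_fun h1 w

/-- a fixed vector gives a non-zero cyclic sum in coprime order -/
theorem cycSum_ne_zero_of_fixed (ρ : L →* AddMonoid.End M) {p : ℕ} (hp : p.Prime) (hexp : ∀ v : M, p • v = 0)
    {g : L} (ho : ¬ p ∣ orderOf g) {v : M} (hv : v ≠ 0) (hfix : ρ g v = v) : cycSum ρ g ≠ 0 := by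
  intro h
  have hj : ∀ j, ρ (g ^ j) v = v := by
    intro j
    induction j with
    | zero => rw [pow_zero, map_one]; rfl
    | succ j ih => rw [pow_succ, map_mul, end_mul_apply, hfix, ih]
  have h2 : orderOf g • v = 0 := by
    have := cycSum_apply ρ g v
    rw [h, sum_congr rfl (fun j _ => hj j), sum_const, card_range] at this
    exact this.symm
  have : addOrderOf v = p := by
    have hd := addOrderOf_dvd_iff_nsmul_eq_zero.2 (hexp v)
    rcases (Nat.dvd_prime hp).1 hd with e | e
    · exact absurd (AddMonoid.addOrderOf_eq_one_iff.1 e) hv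
    · exact e
  exact ho (this ▸ addOrderOf_dvd_iff_nsmul_eq_zero.2 h2)

theorem dvd_orderOf_mem {G : Type*} [Group G] [Finite G] {x : G} {d : ℕ} (hd : d ∣ orderOf x) :
    d ∈ Set.range (orderOf : G → ℕ) :=
  ⟨x ^ (orderOf x / d), by
    rw [orderOf_pow_orderOf_div (orderOf_pos x).ne' hd]⟩

variable [Finite L] [Finite M]

theorem orderOf_aff (ρ : L →* AddMonoid.End M) (k : ℕ) {p : ℕ} (hp : p.Prime) (hexp : ∀ v : M, p • v = 0)
    (x : Aff ρ k) :
    orderOf x = orderOf x.right ∨ (orderOf x = p * orderOf x.right ∧ cycSum ρ x.right ≠ 0) := by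
  set o := orderOf x.right with ho
  have hr : (x ^ o).right = 1 := by rw [(aff_pow ρ k x o).1, ho, pow_orderOf_eq_one]
  have hod : o ∣ orderOf x := orderOf_map_dvd SemidirectProduct.rightHom x
  by_cases hs : x ^ o = 1
  · exact Or.inl (Nat.dvd_antisymm (orderOf_dvd_of_pow_eq_one hs) hod)
  · right
    have hp1 : (x ^ o) ^ p = 1 := by
      rw [aff_eq_one]
      refine ⟨by rw [(aff_pow ρ k _ p).1, hr, one_pow], fun i => ?_⟩
      rw [(aff_pow ρ k _ p).2 i]
      rw [sum_congr rfl (fun j _ => by rw [hr, one_pow, map_one, AddMonoid.End.coe_one, id]), sum_const, card_range]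
      exact hexp _
    have : Fact p.Prime := ⟨hp⟩
    have hop : orderOf (x ^ o) = p := orderOf_eq_prime hp1 hs
    refine ⟨?_, fun h0 => hs ?_⟩
    · rw [orderOf_pow_of_dvd (orderOf_pos x.right).ne' hod] at hop
      rw [← hop, Nat.div_mul_cancel hod]
    · rw [aff_eq_one]
      refine ⟨hr, fun i => ?_⟩
      rw [(aff_pow ρ k x o).2 i, ho, ← cycSum_apply, h0]
      rfl

theorem exists_orderOf_mul (ρ : L →* AddMonoid.End M) {k : ℕ} (hk : 0 < k) {p : ℕ} (hp : p.Prime)
    (hexp : ∀ v : M, p • v = 0) {g : L} (h : cycSum ρ g ≠ 0) :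
    ∃ x : Aff ρ k, orderOf x = p * orderOf g := by
  obtain ⟨v, hv⟩ : ∃ v, cycSum ρ g v ≠ 0 := by
    by_contra hh
    push Not at hh
    exact h (DFunLike.ext _ _ hh)
  let x : Aff ρ k := ⟨Multiplicative.ofAdd (fun _ => v), g⟩
  refine ⟨x, ?_⟩
  rcases orderOf_aff ρ k hp hexp x with e | e
  · exfalso
    have := pow_orderOf_eq_one x
    rw [e, aff_eq_one] at this
    have h2 := this.2 ⟨0, hk⟩
    rw [(aff_pow ρ k x _).2] at h2
    exact hv (by rw [cycSum_apply]; exact h2)
  · exact e.1

/-- the master lemma: unboundedly large groups with prescribed spectrum -/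
theorem exists_large [Nontrivial M] (ρ : L →* AddMonoid.End M) {p : ℕ} (hp : p.Prime)
    (hexp : ∀ v : M, p • v = 0) (S : Set ℕ) (h1 : ∀ g : L, orderOf g ∈ S)
    (h2 : ∀ g : L, cycSum ρ g ≠ 0 → p * orderOf g ∈ S)
    (h3 : ∀ d ∈ S, ∃ g : L, d ∣ orderOf g ∨ (d ∣ p * orderOf g ∧ cycSum ρ g ≠ 0)) (N : ℕ) :
    ∃ (H : Type) (_ : Group H) (_ : Fintype H), N < Fintype.card H ∧
      Set.range (orderOf : H → ℕ) = S := by
  classical
  let k := N + 1
  have : Finite (Aff ρ k) :=
    Finite.of_equiv _ (SemidirectProduct.equivProd (φ := powAct ρ k)).symm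
  have : Fintype (Aff ρ k) := Fintype.ofFinite _
  refine ⟨Aff ρ k, inferInstance, this, ?_, ?_⟩
  · rw [← Nat.card_eq_fintype_card, Nat.card_congr (SemidirectProduct.equivProd (φ := powAct ρ k)),
      Nat.card_prod, Nat.card_congr Multiplicative.toAdd, Nat.card_fun, Nat.card_fin]
    have hM : 2 ≤ Nat.card M := Finite.one_lt_card
    have : N + 1 < 2 ^ (N + 1) := Nat.lt_two_pow_self
    have h4 : 2 ^ (N + 1) ≤ Nat.card M ^ k := Nat.pow_le_pow_left hM _
    have h5 : 1 ≤ Nat.card L := Nat.card_pos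
    calc N < Nat.card M ^ k * 1 := by omega
      _ ≤ Nat.card M ^ k * Nat.card L := Nat.mul_le_mul_left _ h5
  · ext d
    constructor
    · rintro ⟨x, rfl⟩
      rcases orderOf_aff ρ k hp hexp x with e | ⟨e, e'⟩
      · exact e ▸ h1 _
      · exact e ▸ h2 _ e'
    · intro hd
      obtain ⟨g, hg | ⟨hg, hg'⟩⟩ := h3 d hd
      · refine dvd_orderOf_mem (x := (SemidirectProduct.inr g : Aff ρ k)) ?_
        rwa [orderOf_injective _ SemidirectProduct.inr_injective]
      · obtain ⟨x, hx⟩ := exists_orderOf_mul ρ (k := k) (Nat.succ_pos _) hp hexp hg'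
        exact dvd_orderOf_mem (x := x) (hx ▸ hg)

end Cfsg.Agent.GenA.Spec
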