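import Mathlib
import Cfsg.Agent.S2586

/-!
# Eigenvalue tools for spectra of small classical groups
-/

set_option autoImplicit false

namespace Cfsg.Agent.GenA.Spec

open Polynomial Matrix

universe u v

/-- the common spectrum of `PSp₄(q)`: divisors of the maximal element orders -/
def specSet (p q : ℕ) : Set ℕ :=
  {d | d ∣ (q ^ 2 + 1) / Nat.gcd 2 (q - 1) ∨ d ∣ (q ^ 2 - 1) / Nat.gcd 2 (q - 1) ∨
    d ∣ p * (q + 1) ∨ d ∣ p * (q - 1) ∨ (p ≤ 3 ∧ d ∣ p * p)}

theorem specSet_of_dvd {p q d e : ℕ} (he : e ∈ specSet p q) (h : d ∣ e) : d ∈ specSet p q := by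
  rcases he with h' | h' | h' | h' | ⟨h0, h'⟩
  exacts [Or.inl (h.trans h'), Or.inr (Or.inl (h.trans h')), Or.inr (Or.inr (Or.inl (h.trans h'))),
    Or.inr (Or.inr (Or.inr (Or.inl (h.trans h')))), Or.inr (Or.inr (Or.inr (Or.inr ⟨h0, h.trans h'⟩)))]

section Pow

variable {Ω : Type u} [Field Ω] [IsAlgClosed Ω]

/-- Cayley-Hamilton: roots of bounded multiplicity killing `X ^ n - ε` bound the exponent -/
theorem pow_eq_smul_of_roots {ι : Type} [Fintype ι] [DecidableEq ι] [DecidableEq Ω] (p : ℕ) [Fact p.Prime] [CharP Ω p]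
    (A : Matrix ι ι Ω) (n e : ℕ) (ε : Ω) (hn : 0 < n)
    (h : ∀ a ∈ A.charpoly.roots, a ^ n = ε ∧ A.charpoly.roots.count a ≤ p ^ e) :
    A ^ (n * p ^ e) = ε ^ p ^ e • (1 : Matrix ι ι Ω) := by
  classical
  set g : (Polynomial Ω) := (X ^ n - C ε) with hg
  have hg0 : g ≠ 0 := X_pow_sub_C_ne_zero hn ε
  have hdvd : A.charpoly ∣ g ^ p ^ e := by
    rw [(IsAlgClosed.splits A.charpoly).eq_prod_roots_of_monic A.charpoly_monic,
      Multiset.prod_X_sub_C_dvd_iff_le_roots (pow_ne_zero _ hg0), roots_pow, Multiset.le_iff_count]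
    intro a
    by_cases ha : a ∈ A.charpoly.roots
    · have hm : a ∈ g.roots := by
        rw [mem_roots hg0, IsRoot, hg, eval_sub, eval_pow, eval_X, eval_C, (h a ha).1, sub_self]
      have h1 : 1 ≤ g.roots.count a := Multiset.one_le_count_iff_mem.2 hm
      rw [Multiset.count_nsmul]
      calc A.charpoly.roots.count a ≤ p ^ e * 1 := by rw [mul_one]; exact (h a ha).2
        _ ≤ p ^ e * g.roots.count a := Nat.mul_le_mul_left _ h1
    · rw [Multiset.count_eq_zero_of_notMem ha]
      exact Nat.zero_le _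
  obtain ⟨c, hc⟩ := hdvd
  have h2 : aeval A (g ^ p ^ e) = 0 := by rw [hc, map_mul, A.aeval_self_charpoly, zero_mul]
  rw [hg, sub_pow_char_pow (p := p), ← pow_mul, ← map_pow, map_sub, map_pow, aeval_X, aeval_C,
    sub_eq_zero, Algebra.algebraMap_eq_smul_one] at h2
  exact h2

end Pow

section Roots

variable {F : Type u} [Field F] {Ω : Type v} [Field Ω] [IsAlgClosed Ω] (f : F →+* Ω)

/-- roots of a matrix over the finite field are stable under the relative Frobenius -/
theorem count_roots_frobenius [Fintype F] [DecidableEq Ω] {ι : Type} [Fintype ι] [DecidableEq ι]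
    (p k : ℕ) [Fact p.Prime] [CharP Ω p] (hq : Fintype.card F = p ^ k)
    (A : Matrix ι ι F) (a : Ω) :
    (A.map f).charpoly.roots.count (a ^ Fintype.card F) = (A.map f).charpoly.roots.count a := by
  set σ : Ω →+* Ω := iterateFrobenius Ω p k with hσ
  have hσa : ∀ x, σ x = x ^ Fintype.card F := fun x => by rw [hσ, iterateFrobenius_def, hq]
  have hc : ((A.map f).charpoly).map σ = (A.map f).charpoly := by
    rw [Matrix.charpoly_map, Polynomial.map_map]
    congr 1
    ext x
    rw [RingHom.comp_apply, hσa, ← map_pow, FiniteField.pow_card]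
  have hr : (A.map f).charpoly.roots.map σ = (A.map f).charpoly.roots := by
    conv_rhs => rw [← hc, (IsAlgClosed.splits _).roots_map σ]
  conv_lhs => rw [← hσa, ← hr]
  exact Multiset.count_map_eq_count' σ _ σ.injective a

/-- roots of a symplectic matrix come in inverse pairs -/
theorem count_roots_inv [Finite F] [DecidableEq Ω] {m : ℕ} (A : Matrix.symplecticGroup (Fin m) F) (a : Ω) :
    ((A : Matrix (Fin m ⊕ Fin m) (Fin m ⊕ Fin m) F).map f).charpoly.roots.count a⁻¹ =
      ((A : Matrix (Fin m ⊕ Fin m) (Fin m ⊕ Fin m) F).map f).charpoly.roots.count a := by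
  classical
  set M := (A : Matrix (Fin m ⊕ Fin m) (Fin m ⊕ Fin m) F) with hM
  have hu : IsUnit M := (Matrix.isUnit_iff_isUnit_det M).2 (SymplecticGroup.symplectic_det A.2)
  have hconj : M⁻¹.charpoly = M.charpoly := by
    have h := Cfsg.Agent.S2586.result A
    rw [SymplecticGroup.coe_inv'] at h
    obtain ⟨c, hc⟩ := h
    rw [← Matrix.charpoly_units_conj c M, ← Matrix.coe_units_inv, hc.eq, mul_assoc, Units.mul_inv,
      mul_one]
  set c := (M.map f).charpoly with hc
  have hne : ∀ x ∈ c.roots, x ≠ 0 := by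
    intro x hx h0
    rw [mem_roots (M.map f).charpoly_monic.ne_zero, h0, IsRoot, Matrix.eval_charpoly,
      map_zero, zero_sub, det_neg, mul_eq_zero] at hx
    rcases hx with h | h
    · exact pow_ne_zero _ (neg_ne_zero.2 one_ne_zero) h
    · rw [← RingHom.mapMatrix_apply, ← RingHom.map_det] at h
      exact (SymplecticGroup.symplectic_det A.2).ne_zero ((map_eq_zero f).1 h)
  have h1 : c.roots = c.reverse.roots := by
    rw [hc, Matrix.reverse_charpoly]
    have h2 : (M.map f).charpoly = ((-1) ^ Fintype.card (Fin m ⊕ Fin m) * C (f (Ring.inverse M.det))) * (M.map f).charpolyRev := by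
      conv_lhs => rw [Matrix.charpoly_map, ← hconj, Matrix.charpoly_inv M hu]
      rw [Polynomial.map_mul, Polynomial.map_mul, Polynomial.map_pow, Polynomial.map_neg,
        Polynomial.map_one, Polynomial.map_C]
      congr 1
      rw [← Matrix.reverse_charpoly, ← Matrix.reverse_charpoly, Matrix.charpoly_map, reverse,
        reverse, natDegree_map, reflect_map]
    rw [h2, show ((-1 : (Polynomial Ω)) ^ Fintype.card (Fin m ⊕ Fin m) * C (f (Ring.inverse M.det))) =
        C ((-1 : Ω) ^ Fintype.card (Fin m ⊕ Fin m) * f (Ring.inverse M.det)) by simp]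
    refine roots_C_mul _ (mul_ne_zero (pow_ne_zero _ (neg_ne_zero.2 one_ne_zero)) ?_)
    rw [Ring.inverse_eq_inv', map_inv₀, ne_eq, inv_eq_zero, map_eq_zero]
    exact (SymplecticGroup.symplectic_det A.2).ne_zero
  have h3 : c.reverse.roots = c.roots.map (fun x => x⁻¹) := by
    conv_lhs => rw [(IsAlgClosed.splits c).eq_prod_roots_of_monic (M.map f).charpoly_monic]
    have : ∀ s : Multiset Ω, (∀ x ∈ s, x ≠ 0) →
        ((s.map fun x => X - C x).prod).reverse.roots = s.map (fun x => x⁻¹) := by
      intro s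
      induction s using Multiset.induction with
      | empty => intro _; rw [Multiset.map_zero, Multiset.prod_zero, ← C_1, reverse_C, roots_C, Multiset.map_zero]
      | cons x s ih =>
        intro hs
        have hx := hs x (Multiset.mem_cons_self _ _)
        rw [Multiset.map_cons, Multiset.prod_cons, reverse_mul_of_domain, Multiset.map_cons,
          roots_mul, ih fun y hy => hs y (Multiset.mem_cons_of_mem hy)]
        · have : (X - C x).reverse = C (-x) * (X - C x⁻¹) := by
            rw [mul_sub, ← C_mul, neg_mul, mul_inv_cancel₀ hx, C_neg, C_neg, C_1]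
            rw [reverse, natDegree_X_sub_C, reflect_sub, reflect_C, reflect_one_X]
            ring
          rw [this, roots_C_mul _ (neg_ne_zero.2 hx), roots_X_sub_C, Multiset.singleton_add]
        · refine mul_ne_zero ?_ ?_ <;> rw [ne_eq, reverse_eq_zero]
          · exact X_sub_C_ne_zero x
          · exact (monic_multiset_prod_of_monic s _ fun y _ => monic_X_sub_C y).ne_zero
    exact this _ hne
  conv_lhs => rw [h1, h3]
  exact Multiset.count_map_eq_count' _ _ (fun x y h => inv_injective h) a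

end Roots

section Eigen

variable {F : Type u} [Field F] {Ω : Type v} [Field Ω] (f : F →+* Ω)

/-- eigenvalues of a power -/
theorem eigen_pow {ι : Type} [Fintype ι] [DecidableEq ι] {A : Matrix ι ι Ω} {w : ι → Ω} {l : Ω}
    (hw : A *ᵥ w = l • w) (d : ℕ) : (A ^ d) *ᵥ w = l ^ d • w := by
  induction d with
  | zero => rw [pow_zero, pow_zero, one_mulVec, one_smul]
  | succ d ih => rw [pow_succ, ← mulVec_mulVec, hw, mulVec_smul, ih, smul_smul, pow_succ']

/-- a scalar power of a matrix with an eigenvector determines the power of the eigenvalue -/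
theorem eigen_of_pow_eq_smul {ι : Type} [Fintype ι] [DecidableEq ι] {A : Matrix ι ι F} {w : ι → Ω}
    {l : Ω} (hw0 : w ≠ 0) (hw : A.map f *ᵥ w = l • w) {d : ℕ} {ε : F}
    (h : A ^ d = ε • (1 : Matrix ι ι F)) : l ^ d = f ε := by
  have h1 := eigen_pow hw d
  have h2 : (A.map f) ^ d = f ε • (1 : Matrix ι ι Ω) := by
    rw [← RingHom.mapMatrix_apply, ← map_pow, h]
    ext i j
    by_cases hij : i = j <;> simp [hij]
  rw [h2, Matrix.smul_mulVec, one_mulVec] at h1
  obtain ⟨i, hi⟩ := Function.ne_iff.1 hw0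
  have := congrFun h1 i
  exact (mul_right_cancel₀ hi this).symm

/-- elements fixed by the Frobenius of a finite field come from it -/
theorem mem_range_of_pow_card [Fintype F] {x : Ω} (hx : x ^ Fintype.card F = x) : x ∈ f.range := by
  classical
  have hq : 1 < Fintype.card F := Fintype.one_lt_card
  set g : (Polynomial Ω) := X ^ Fintype.card F - X with hg
  have hg0 : g ≠ 0 := FiniteField.X_pow_card_sub_X_ne_zero Ω hq
  have hdeg : g.natDegree = Fintype.card F := FiniteField.X_pow_card_sub_X_natDegree_eq Ω hq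
  by_contra hne
  have hs : ((Finset.univ : Finset F).image f ∪ {x}) ⊆ g.roots.toFinset := by
    intro y hy
    rw [Multiset.mem_toFinset, mem_roots hg0, IsRoot, hg, eval_sub, eval_pow, eval_X, sub_eq_zero]
    rcases Finset.mem_union.1 hy with hy | hy
    · obtain ⟨z, -, rfl⟩ := Finset.mem_image.1 hy
      rw [← map_pow, FiniteField.pow_card]
    · rw [Finset.mem_singleton.1 hy]; exact hx
  have h1 := (Finset.card_le_card hs).trans ((Multiset.toFinset_card_le _).trans (card_roots' g))
  rw [Finset.card_union_of_disjoint, Finset.card_image_of_injective _ f.injective, Finset.card_univ,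
    Finset.card_singleton, hdeg] at h1
  · omega
  · rw [Finset.disjoint_singleton_right]
    intro h
    obtain ⟨z, -, hz⟩ := Finset.mem_image.1 h
    exact hne ⟨z, hz⟩

/-- a primitive root of unity of order prime to the characteristic -/
theorem exists_prim [IsAlgClosed Ω] (n : ℕ) (hn : (n : Ω) ≠ 0) : ∃ l : Ω, IsPrimitiveRoot l n :=
  haveI : NeZero (n : Ω) := ⟨hn⟩
  HasEnoughRootsOfUnity.exists_primitiveRoot Ω n

/-- a companion matrix of determinant one with prescribed eigenvalue -/
theorem exists_companion [Fintype F] (p k : ℕ) [Fact p.Prime] [CharP Ω p] (hq : Fintype.card F = p ^ k)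
    {l : Ω} (hl0 : l ≠ 0) (hl : l ^ Fintype.card F = l ∨ l ^ Fintype.card F = l⁻¹) :
    ∃ (M : Matrix.SpecialLinearGroup (Fin 2) F) (w : Fin 2 → Ω),
      w ≠ 0 ∧ (M : Matrix (Fin 2) (Fin 2) F).map f *ᵥ w = l • w := by
  obtain ⟨t, ht⟩ : l + l⁻¹ ∈ f.range := by
    refine mem_range_of_pow_card f ?_
    rw [hq, add_pow_char_pow (p := p), ← hq, inv_pow]
    rcases hl with h | h <;> rw [h]
    rw [inv_inv, add_comm]
  refine ⟨⟨!![0, -1; 1, t], by simp [Matrix.det_fin_two]⟩, ![1, -l], fun h => by simpa using congrFun h 0, ?_⟩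
  funext i
  fin_cases i
  · simp [Matrix.mulVec, dotProduct]
  · simp [Matrix.mulVec, dotProduct, ht]
    field_simp
    ring

end Eigen

section SLTwo

variable {K : Type u} [Field K] {Ω : Type v} [Field Ω] [IsAlgClosed Ω] (f : K →+* Ω)

/-- either `M` is `±` unipotent, or it is diagonalisable over the closure with distinct eigenvalues -/
theorem sl_two_cases [Fintype K] (p k : ℕ) [Fact p.Prime] [CharP Ω p] (hQ : Fintype.card K = p ^ k)
    (M : Matrix.SpecialLinearGroup (Fin 2) K) :
    (∃ e : K, e ^ 2 = 1 ∧ ((M : Matrix (Fin 2) (Fin 2) K) - e • 1) * ((M : Matrix (Fin 2) (Fin 2) K) - e • 1) = 0) ∨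
    ∃ (l : Ω) (P : Matrix (Fin 2) (Fin 2) Ω), l ≠ 0 ∧ l ^ 2 ≠ 1 ∧
      (l ^ Fintype.card K = l ∨ l ^ Fintype.card K = l⁻¹) ∧ IsUnit P ∧
      (M : Matrix (Fin 2) (Fin 2) K).map f * P = P * Matrix.diagonal ![l, l⁻¹] := by
  set A := (M : Matrix (Fin 2) (Fin 2) K) with hA
  have hdet : A 0 0 * A 1 1 - A 0 1 * A 1 0 = 1 := by rw [← Matrix.det_fin_two]; exact M.2
  set a := f (A 0 0) with ha
  set b := f (A 0 1) with hb
  set c := f (A 1 0) with hc
  set d := f (A 1 1) with hd
  have hdet' : a * d - b * c = 1 := by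
    rw [ha, hb, hc, hd, ← map_mul, ← map_mul, ← map_sub, hdet, map_one]
  obtain ⟨l, hl⟩ := (IsAlgClosed.splits (X ^ 2 - C (a + d) * X + C 1 : (Polynomial Ω))).exists_eval_eq_zero (by
    rw [show (X ^ 2 - C (a + d) * X + C 1 : (Polynomial Ω)) = X ^ 2 + (C (-(a + d)) * X + C 1) by rw [C_neg]; ring,
      degree_add_eq_left_of_degree_lt] <;> rw [degree_X_pow]
    · decide
    · exact degree_linear_le.trans_lt (by decide))
  simp only [eval_add, eval_sub, eval_mul, eval_pow, eval_X, eval_C] at hl
  have hl0 : l ≠ 0 := by rintro rfl; simp at hl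
  have htr : l + l⁻¹ = a + d := by field_simp; linear_combination hl
  by_cases hl2 : l ^ 2 = 1
  · left
    have hli : l⁻¹ = l := inv_eq_of_mul_eq_one_right (by rw [← sq]; exact hl2)
    have hle : ∃ e : K, f e = l := by
      rcases sq_eq_one_iff.1 hl2 with h | h
      · exact ⟨1, by rw [map_one, h]⟩
      · exact ⟨-1, by rw [map_neg, map_one, h]⟩
    obtain ⟨e, he⟩ := hle
    have he2 : e ^ 2 = 1 := f.injective (by rw [map_pow, he, hl2, map_one])
    have ht : A 0 0 + A 1 1 = e + e := f.injective (by rw [map_add, map_add, ← ha, ← hd, ← htr, he, hli])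
    refine ⟨e, he2, ?_⟩
    ext i j
    fin_cases i <;> fin_cases j <;>
      simp [Matrix.mul_apply, Fin.sum_univ_two, Matrix.sub_apply] <;>
      first
        | linear_combination (A 0 0) * ht - hdet + he2 | linear_combination (A 1 1) * ht - hdet + he2
        | linear_combination (A 0 1) * ht | linear_combination (A 1 0) * ht
  · right
    have hne : l⁻¹ - l ≠ 0 := fun h => hl2 (by rw [sub_eq_zero] at h; rw [sq]; nth_rw 1 [← h]; exact inv_mul_cancel₀ hl0)
    have hfrob : l ^ Fintype.card K = l ∨ l ^ Fintype.card K = l⁻¹ := by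
      have h1 : (l ^ Fintype.card K) + (l ^ Fintype.card K)⁻¹ = l + l⁻¹ := by
        rw [← inv_pow, hQ, ← add_pow_char_pow (p := p), ← hQ, htr, ha, hd, ← map_add, ← map_pow,
          FiniteField.pow_card]
      have h2 : l ^ Fintype.card K ≠ 0 := pow_ne_zero _ hl0
      set x := l ^ Fintype.card K
      have h3 : (x - l) * (x - l⁻¹) = 0 := by
        field_simp at h1 ⊢
        linear_combination h1
      rcases mul_eq_zero.1 h3 with h | h
      · exact Or.inl (sub_eq_zero.1 h)
      · exact Or.inr (sub_eq_zero.1 h)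
    have hinv : l * l⁻¹ = 1 := mul_inv_cancel₀ hl0
    by_cases hb0 : b = 0
    · -- lower triangular
      rw [hb0, zero_mul, sub_zero] at hdet'
      have hla : (l = a ∧ l⁻¹ = d) ∨ (l = d ∧ l⁻¹ = a) := by
        have h3 : (l - a) * (l - d) = 0 := by linear_combination hl + hdet'
        rcases mul_eq_zero.1 h3 with h | h <;> rw [sub_eq_zero] at h
        · exact Or.inl ⟨h, by rw [h]; exact inv_eq_of_mul_eq_one_right hdet'⟩
        · exact Or.inr ⟨h, by rw [h]; exact inv_eq_of_mul_eq_one_left hdet'⟩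
      rcases hla with ⟨h1, h2⟩ | ⟨h1, h2⟩
      · refine ⟨l, !![l⁻¹ - l, 0; -c, 1], hl0, hl2, hfrob, ?_, ?_⟩
        · rw [Matrix.isUnit_iff_isUnit_det, isUnit_iff_ne_zero, Matrix.det_fin_two_of]
          simpa using hne
        · ext i j
          fin_cases i <;> fin_cases j <;>
            simp [Matrix.mul_apply, Fin.sum_univ_two, ← ha, ← hb, ← hc, ← hd, hb0, ← h1, ← h2] <;> ring
      · refine ⟨l, !![0, l⁻¹ - l; 1, c], hl0, hl2, hfrob, ?_, ?_⟩
        · rw [Matrix.isUnit_iff_isUnit_det, isUnit_iff_ne_zero, Matrix.det_fin_two_of]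
          intro h
          apply hne
          linear_combination -h
        · ext i j
          fin_cases i <;> fin_cases j <;>
            simp [Matrix.mul_apply, Fin.sum_univ_two, ← ha, ← hb, ← hc, ← hd, hb0, ← h1, ← h2] <;> ring
    · refine ⟨l, !![b, b; l - a, l⁻¹ - a], hl0, hl2, hfrob, ?_, ?_⟩
      · rw [Matrix.isUnit_iff_isUnit_det, isUnit_iff_ne_zero, Matrix.det_fin_two_of,
          show b * (l⁻¹ - a) - b * (l - a) = b * (l⁻¹ - l) by ring]
        exact mul_ne_zero hb0 hne
      · ext i j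
        fin_cases i <;> fin_cases j <;>
          simp [Matrix.mul_apply, Fin.sum_univ_two, ← ha, ← hb, ← hc, ← hd] <;>
          first
            | ring1
            | linear_combination l * htr - hinv - hdet'
            | linear_combination l⁻¹ * htr - hinv - hdet'
            | linear_combination hinv - l⁻¹ * htr - hdet'
            | linear_combination hinv - l * htr - hdet'

end SLTwo

end Cfsg.Agent.GenA.Spec
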