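import Mathlib

/-!
# Exponents of inverse closed Frobenius stable sets of roots
-/

set_option autoImplicit false

namespace Cfsg.Agent.GenA.Spec.Eight

universe u

/-- exponents for a space of half dimension one -/
def P1 (q n : ℕ) : Prop := n = q + 1 ∨ n = q - 1
/-- exponents for half dimension two -/
def P2 (q n : ℕ) : Prop := n = q ^ 2 + 1 ∨ n = q ^ 2 - 1
/-- exponents for half dimension three -/
def P3 (q n : ℕ) : Prop :=
  n = q ^ 3 + 1 ∨ n = q ^ 3 - 1 ∨ n = (q ^ 2 + 1) * (q + 1) ∨ n = (q ^ 2 + 1) * (q - 1) ∨ n = q ^ 2 - 1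
/-- exponents for half dimension four -/
def P4 (q n : ℕ) : Prop :=
  n = q ^ 4 + 1 ∨ n = q ^ 4 - 1 ∨ n = (q ^ 3 + 1) * (q - 1) ∨ n = (q ^ 3 - 1) * (q + 1)

theorem P1.pos {q n : ℕ} (hq : 2 ≤ q) (h : P1 q n) : 0 < n := by rcases h with h | h <;> omega

theorem P2.pos {q n : ℕ} (hq : 2 ≤ q) (h : P2 q n) : 0 < n := by
  have : 2 ^ 2 ≤ q ^ 2 := Nat.pow_le_pow_left hq 2
  rcases h with h | h <;> omega

theorem P3.pos {q n : ℕ} (hq : 2 ≤ q) (h : P3 q n) : 0 < n := by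
  have h2 : 2 ^ 2 ≤ q ^ 2 := Nat.pow_le_pow_left hq 2
  have h3 : 2 ^ 3 ≤ q ^ 3 := Nat.pow_le_pow_left hq 3
  rcases h with h | h | h | h | h <;> subst h
  exacts [by omega, by omega, Nat.mul_pos (by omega) (by omega), Nat.mul_pos (by omega) (by omega), by omega]

theorem P4.pos {q n : ℕ} (hq : 2 ≤ q) (h : P4 q n) : 0 < n := by
  have h3 : 2 ^ 3 ≤ q ^ 3 := Nat.pow_le_pow_left hq 3
  have h4 : 2 ^ 4 ≤ q ^ 4 := Nat.pow_le_pow_left hq 4
  rcases h with h | h | h | h <;> subst h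
  exacts [by omega, by omega, Nat.mul_pos (by omega) (by omega), Nat.mul_pos (by omega) (by omega)]

variable {Ω : Type u} [Field Ω] [DecidableEq Ω]

/-- a set of roots -/
structure RootSet (q : ℕ) (S : Finset Ω) : Prop where
  inv : ∀ a ∈ S, a⁻¹ ∈ S
  frob : ∀ a ∈ S, a ^ q ∈ S
  ne : ∀ a ∈ S, a ≠ 0
  ninv : ∀ a ∈ S, a⁻¹ ≠ a

variable {q : ℕ}

/-- splitting off one orbit -/
theorem exists_orbit (hinj : ∀ x y : Ω, x ^ q = y ^ q → x = y) (hq : 2 ≤ q) {S : Finset Ω}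
    (hS : RootSet q S) {a : Ω} (ha : a ∈ S) :
    ∃ (d n : ℕ) (T : Finset Ω), 1 ≤ d ∧ T.card = 2 * d ∧ T ⊆ S ∧ RootSet q (S \ T) ∧
      (n = q ^ d + 1 ∨ n = q ^ d - 1) ∧ ∀ x ∈ T, x ^ n = 1 := by
  classical
  have hmem : ∀ i, a ^ q ^ i ∈ S := by
    intro i
    induction i with
    | zero => rwa [pow_zero, pow_one]
    | succ i ih => rw [pow_succ, pow_mul]; exact hS.frob _ ih
  have hcancel : ∀ (i : ℕ) (x y : Ω), x ^ q ^ i = y ^ q ^ i → x = y := by
    intro i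
    induction i with
    | zero => intro x y h; simpa using h
    | succ i ih =>
      intro x y h
      rw [pow_succ', pow_mul, pow_mul] at h
      exact hinj _ _ (ih _ _ h)
  have hex : ∃ d, 1 ≤ d ∧ (a ^ q ^ d = a ∨ a ^ q ^ d = a⁻¹) := by
    obtain ⟨i, hi, j, hj, hne, hij⟩ := Finset.exists_ne_map_eq_of_card_lt_of_maps_to
      (s := Finset.range (S.card + 1)) (t := S) (by rw [Finset.card_range]; omega)
      (fun i _ => hmem i)
    rcases Nat.lt_or_gt_of_ne hne with h | h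
    · refine ⟨j - i, by omega, Or.inl (hcancel i _ _ ?_)⟩
      rw [← pow_mul, ← pow_add, Nat.sub_add_cancel h.le]; exact hij.symm
    · refine ⟨i - j, by omega, Or.inl (hcancel j _ _ ?_)⟩
      rw [← pow_mul, ← pow_add, Nat.sub_add_cancel h.le]; exact hij
  let d := Nat.find hex
  obtain ⟨hd1, hd2⟩ : 1 ≤ d ∧ (a ^ q ^ d = a ∨ a ^ q ^ d = a⁻¹) := Nat.find_spec hex
  have hmin : ∀ i, 1 ≤ i → i < d → a ^ q ^ i ≠ a ∧ a ^ q ^ i ≠ a⁻¹ := fun i h1 h2 => by
    have := Nat.find_min hex h2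
    push Not at this
    exact this h1
  set A := (Finset.range d).image fun i => a ^ q ^ i with hA
  set B := A.image fun x => x⁻¹ with hB
  have key : ∀ i j, i < j → j < d → a ^ q ^ i ≠ a ^ q ^ j ∧ a ^ q ^ i ≠ (a ^ q ^ j)⁻¹ := by
    intro i j hij hj
    have h0 := hmin (j - i) (by omega) (by omega)
    rw [show q ^ j = q ^ (j - i) * q ^ i by rw [← pow_add, Nat.sub_add_cancel hij.le], pow_mul]
    refine ⟨fun h => h0.1 (hcancel i _ _ h).symm, fun h => h0.2 ?_⟩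
    rw [← inv_pow] at h
    exact inv_eq_iff_eq_inv.mp (hcancel i _ _ h).symm
  have hAcard : A.card = d := by
    rw [hA, Finset.card_image_of_injOn, Finset.card_range]
    intro i hi j hj h
    rw [Finset.coe_range, Set.mem_Iio] at hi hj
    by_contra hne
    rcases Nat.lt_or_gt_of_ne hne with hh | hh
    · exact (key i j hh hj).1 h
    · exact (key j i hh hi).1 h.symm
  have hdisj : Disjoint A B := by
    rw [Finset.disjoint_left]
    intro x hx hx'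
    obtain ⟨i, hi, rfl⟩ := Finset.mem_image.1 hx
    obtain ⟨y, hy, he⟩ := Finset.mem_image.1 hx'
    obtain ⟨j, hj, rfl⟩ := Finset.mem_image.1 hy
    rw [Finset.mem_range] at hi hj
    rcases lt_trichotomy i j with hh | hh | hh
    · exact (key i j hh hj).2 he.symm
    · subst hh; exact hS.ninv _ (hmem i) he
    · exact (key j i hh hi).2 (by rw [← he, inv_inv])
  have hTcard : (A ∪ B).card = 2 * d := by
    rw [Finset.card_union_of_disjoint hdisj, hB, Finset.card_image_of_injective _ inv_injective, hAcard]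
    ring
  have hsub : A ∪ B ⊆ S := by
    intro x hx
    rcases Finset.mem_union.1 hx with h | h
    · obtain ⟨i, -, rfl⟩ := Finset.mem_image.1 h
      exact hmem i
    · obtain ⟨y, hy, rfl⟩ := Finset.mem_image.1 h
      obtain ⟨i, -, rfl⟩ := Finset.mem_image.1 hy
      exact hS.inv _ (hmem i)
  have hTinv : ∀ x, x ∈ A ∪ B → x⁻¹ ∈ A ∪ B := by
    intro x hx
    rcases Finset.mem_union.1 hx with h | h
    · exact Finset.mem_union_right _ (Finset.mem_image_of_mem _ h)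
    · obtain ⟨y, hy, rfl⟩ := Finset.mem_image.1 h
      exact Finset.mem_union_left _ (by rwa [inv_inv])
  have hTfrob : ∀ x, x ∈ A ∪ B → x ^ q ∈ A ∪ B := by
    have hAf : ∀ x ∈ A, x ^ q ∈ A ∪ B := by
      intro x hx
      obtain ⟨i, hi, rfl⟩ := Finset.mem_image.1 hx
      rw [Finset.mem_range] at hi
      rw [← pow_mul, ← pow_succ]
      rcases Nat.lt_or_ge (i + 1) d with h | h
      · exact Finset.mem_union_left _ (Finset.mem_image.2 ⟨i + 1, Finset.mem_range.2 h, rfl⟩)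
      · rw [show i + 1 = d by omega]
        have h0 : a ∈ A := Finset.mem_image.2 ⟨0, Finset.mem_range.2 hd1, by rw [pow_zero, pow_one]⟩
        rcases hd2 with h | h <;> rw [h]
        · exact Finset.mem_union_left _ h0
        · exact Finset.mem_union_right _ (Finset.mem_image_of_mem _ h0)
    intro x hx
    rcases Finset.mem_union.1 hx with h | h
    · exact hAf x h
    · obtain ⟨y, hy, rfl⟩ := Finset.mem_image.1 h
      rw [inv_pow]
      exact hTinv _ (hAf y hy)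
  have hTfrob' : ∀ x ∈ S, x ^ q ∈ A ∪ B → x ∈ A ∪ B := by
    intro x hx hxq
    have himg : (A ∪ B).image (fun y => y ^ q) = A ∪ B :=
      Finset.eq_of_subset_of_card_le (fun y hy => by
          obtain ⟨z, hz, rfl⟩ := Finset.mem_image.1 hy; exact hTfrob z hz)
        (by rw [Finset.card_image_of_injective _ (fun u v h => hinj u v h)])
    rw [← himg] at hxq
    obtain ⟨z, hz, hzx⟩ := Finset.mem_image.1 hxq
    exact hinj z x hzx ▸ hz
  have hrest : RootSet q (S \ (A ∪ B)) := by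
    refine ⟨fun x hx => ?_, fun x hx => ?_, fun x hx => hS.ne x (Finset.mem_sdiff.1 hx).1,
      fun x hx => hS.ninv x (Finset.mem_sdiff.1 hx).1⟩
    · obtain ⟨h1, h2⟩ := Finset.mem_sdiff.1 hx
      exact Finset.mem_sdiff.2 ⟨hS.inv x h1, fun h => h2 (by rw [← inv_inv x]; exact hTinv _ h)⟩
    · obtain ⟨h1, h2⟩ := Finset.mem_sdiff.1 hx
      exact Finset.mem_sdiff.2 ⟨hS.frob x h1, fun h => h2 (hTfrob' x h1 h)⟩
  have ha0 := hS.ne a ha
  have hpow : ∀ n, a ^ n = 1 → ∀ x ∈ A ∪ B, x ^ n = 1 := by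
    intro n hn x hx
    have hA1 : ∀ y ∈ A, y ^ n = 1 := fun y hy => by
      obtain ⟨i, -, rfl⟩ := Finset.mem_image.1 hy
      rw [← pow_mul, mul_comm, pow_mul, hn, one_pow]
    rcases Finset.mem_union.1 hx with h | h
    · exact hA1 x h
    · obtain ⟨y, hy, rfl⟩ := Finset.mem_image.1 h
      rw [inv_pow, hA1 y hy, inv_one]
  rcases hd2 with h | h
  · refine ⟨d, q ^ d - 1, A ∪ B, hd1, hTcard, hsub, hrest, Or.inr rfl, hpow _ ?_⟩
    refine mul_right_cancel₀ ha0 ?_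
    rw [← pow_succ, Nat.sub_add_cancel (Nat.one_le_pow _ _ (by omega)), h, one_mul]
  · refine ⟨d, q ^ d + 1, A ∪ B, hd1, hTcard, hsub, hrest, Or.inl rfl, hpow _ ?_⟩
    rw [pow_succ, h, inv_mul_cancel₀ ha0]

theorem pow_of_dvd {x : Ω} {m n : ℕ} (h : x ^ m = 1) (hd : m ∣ n) : x ^ n = 1 := by
  obtain ⟨c, rfl⟩ := hd
  rw [pow_mul, h, one_pow]

theorem pow_union {S T : Finset Ω} {m k n : ℕ} (hT : ∀ x ∈ T, x ^ m = 1) (hR : ∀ x ∈ S \ T, x ^ k = 1)
    (hm : m ∣ n) (hk : k ∣ n) : ∀ x ∈ S, x ^ n = 1 := by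
  intro x hx
  by_cases h : x ∈ T
  · exact pow_of_dvd (hT x h) hm
  · exact pow_of_dvd (hR x (Finset.mem_sdiff.2 ⟨hx, h⟩)) hk

theorem eq_empty_of_card_le_one {S : Finset Ω} (hS : RootSet q S) (h : S.card ≤ 1) : S = ∅ := by
  by_contra hne
  obtain ⟨a, ha⟩ := Finset.nonempty_iff_ne_empty.2 hne
  exact hS.ninv a ha (Finset.card_le_one.1 h _ (hS.inv a ha) a ha)

variable (hinj : ∀ x y : Ω, x ^ q = y ^ q → x = y) (hq : 2 ≤ q)
include hinj hq

theorem bound_one {S : Finset Ω} (hS : RootSet q S) (h : S.card ≤ 3) :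
    ∃ n, P1 q n ∧ ∀ x ∈ S, x ^ n = 1 := by
  rcases S.eq_empty_or_nonempty with h0 | ⟨a, ha⟩
  · exact ⟨q + 1, Or.inl rfl, by simp [h0]⟩
  obtain ⟨d, n, T, hd, hT, hsub, hR, hn, hpow⟩ := exists_orbit hinj hq hS ha
  have hle := Finset.card_le_card hsub
  obtain rfl : d = 1 := by omega
  have h0 : S \ T = ∅ := eq_empty_of_card_le_one hR (by rw [Finset.card_sdiff_of_subset hsub]; omega)
  rw [pow_one] at hn
  exact ⟨n, hn, pow_union hpow (k := 1) (by simp [h0]) dvd_rfl (one_dvd _)⟩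

theorem bound_two {S : Finset Ω} (hS : RootSet q S) (h : S.card ≤ 5) :
    ∃ n, P2 q n ∧ ∀ x ∈ S, x ^ n = 1 := by
  rcases S.eq_empty_or_nonempty with h0 | ⟨a, ha⟩
  · exact ⟨q ^ 2 + 1, Or.inl rfl, by simp [h0]⟩
  obtain ⟨d, n, T, hd, hT, hsub, hR, hn, hpow⟩ := exists_orbit hinj hq hS ha
  have hle := Finset.card_le_card hsub
  have hRc : (S \ T).card = S.card - 2 * d := by rw [Finset.card_sdiff_of_subset hsub, hT]
  have h1 : q + 1 ∣ q ^ 2 - 1 := ⟨q - 1, by rw [← Nat.sq_sub_sq, one_pow]⟩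
  have h2 : q - 1 ∣ q ^ 2 - 1 := ⟨q + 1, by rw [mul_comm, ← Nat.sq_sub_sq, one_pow]⟩
  rcases Nat.lt_or_ge d 2 with hd2 | hd2
  · obtain rfl : d = 1 := by omega
    obtain ⟨k, hk, hkp⟩ := bound_one hinj hq hR (by omega)
    rw [pow_one] at hn
    refine ⟨q ^ 2 - 1, Or.inr rfl, pow_union hpow hkp ?_ ?_⟩
    · rcases hn with rfl | rfl <;> assumption
    · rcases hk with rfl | rfl <;> assumption
  · obtain rfl : d = 2 := by omega
    have h0 : S \ T = ∅ := eq_empty_of_card_le_one hR (by omega)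
    exact ⟨n, hn, pow_union hpow (k := 1) (by simp [h0]) dvd_rfl (one_dvd _)⟩

theorem bound_three {S : Finset Ω} (hS : RootSet q S) (h : S.card ≤ 7) :
    ∃ n, P3 q n ∧ ∀ x ∈ S, x ^ n = 1 := by
  rcases S.eq_empty_or_nonempty with h0 | ⟨a, ha⟩
  · exact ⟨q ^ 3 + 1, Or.inl rfl, by simp [h0]⟩
  obtain ⟨d, n, T, hd, hT, hsub, hR, hn, hpow⟩ := exists_orbit hinj hq hS ha
  have hle := Finset.card_le_card hsub
  have hRc : (S \ T).card = S.card - 2 * d := by rw [Finset.card_sdiff_of_subset hsub, hT]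
  have h1 : q + 1 ∣ q ^ 2 - 1 := ⟨q - 1, by rw [← Nat.sq_sub_sq, one_pow]⟩
  have h2 : q - 1 ∣ q ^ 2 - 1 := ⟨q + 1, by rw [mul_comm, ← Nat.sq_sub_sq, one_pow]⟩
  -- combine an exponent of half dimension two with one of half dimension one
  have hcomb : ∀ m k, P2 q m → P1 q k → ∃ N, P3 q N ∧ m ∣ N ∧ k ∣ N := by
    intro m k hm hk
    rcases hm with rfl | rfl
    · rcases hk with rfl | rfl
      · exact ⟨_, Or.inr (Or.inr (Or.inl rfl)), dvd_mul_right _ _, dvd_mul_left _ _⟩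
      · exact ⟨_, Or.inr (Or.inr (Or.inr (Or.inl rfl))), dvd_mul_right _ _, dvd_mul_left _ _⟩
    · refine ⟨_, Or.inr (Or.inr (Or.inr (Or.inr rfl))), dvd_rfl, ?_⟩
      rcases hk with rfl | rfl <;> assumption
  rcases (show d = 1 ∨ d = 2 ∨ d = 3 by omega) with rfl | rfl | rfl
  · obtain ⟨k, hk, hkp⟩ := bound_two hinj hq hR (by omega)
    rw [pow_one] at hn
    obtain ⟨N, hN, hd1, hd2⟩ := hcomb k n hk hn
    exact ⟨N, hN, pow_union hpow hkp hd2 hd1⟩
  · obtain ⟨k, hk, hkp⟩ := bound_one hinj hq hR (by omega)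
    obtain ⟨N, hN, hd1, hd2⟩ := hcomb n k hn hk
    exact ⟨N, hN, pow_union hpow hkp hd1 hd2⟩
  · have h0 : S \ T = ∅ := eq_empty_of_card_le_one hR (by omega)
    refine ⟨n, ?_, pow_union hpow (k := 1) (by simp [h0]) dvd_rfl (one_dvd _)⟩
    rcases hn with h | h
    exacts [Or.inl h, Or.inr (Or.inl h)]

theorem bound_four {S : Finset Ω} (hS : RootSet q S) (h : S.card ≤ 8) :
    ∃ n, P4 q n ∧ ∀ x ∈ S, x ^ n = 1 := by
  rcases S.eq_empty_or_nonempty with h0 | ⟨a, ha⟩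
  · exact ⟨q ^ 4 + 1, Or.inl rfl, by simp [h0]⟩
  obtain ⟨d, n, T, hd, hT, hsub, hR, hn, hpow⟩ := exists_orbit hinj hq hS ha
  have hle := Finset.card_le_card hsub
  have hRc : (S \ T).card = S.card - 2 * d := by rw [Finset.card_sdiff_of_subset hsub, hT]
  have e4 : q ^ 4 - 1 = (q ^ 2 + 1) * ((q + 1) * (q - 1)) := by
    rw [← Nat.sq_sub_sq, one_pow]
    have := Nat.sq_sub_sq (q ^ 2) 1
    rw [one_pow, ← pow_mul] at this
    exact this
  have d1 : q + 1 ∣ q ^ 4 - 1 := e4 ▸ (dvd_mul_right _ _).trans (dvd_mul_left _ _)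
  have d2 : q - 1 ∣ q ^ 4 - 1 := e4 ▸ (dvd_mul_left _ _).trans (dvd_mul_left _ _)
  have d3 : q ^ 2 + 1 ∣ q ^ 4 - 1 := e4 ▸ dvd_mul_right _ _
  have d4 : q ^ 2 - 1 ∣ q ^ 4 - 1 := by
    rw [e4, show q ^ 2 - 1 = (q + 1) * (q - 1) by rw [← Nat.sq_sub_sq, one_pow]]
    exact dvd_mul_left _ _
  have d5 : (q ^ 2 + 1) * (q + 1) ∣ q ^ 4 - 1 := e4 ▸ mul_dvd_mul_left _ (dvd_mul_right _ _)
  have d6 : (q ^ 2 + 1) * (q - 1) ∣ q ^ 4 - 1 := e4 ▸ mul_dvd_mul_left _ (dvd_mul_left _ _)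
  have d7 : q + 1 ∣ q ^ 3 + 1 := by simpa using (show Odd 3 by decide).nat_add_dvd_pow_add_pow q 1
  have d8 : q - 1 ∣ q ^ 3 - 1 := by simpa using Nat.sub_dvd_pow_sub_pow q 1 3
  -- combine an exponent `q ^ 3 ± 1` with one of half dimension one
  have hcomb : ∀ m k, (m = q ^ 3 + 1 ∨ m = q ^ 3 - 1) → P1 q k → ∃ N, P4 q N ∧ m ∣ N ∧ k ∣ N := by
    intro m k hm hk
    rcases hm with rfl | rfl <;> rcases hk with rfl | rfl
    · exact ⟨_, Or.inr (Or.inr (Or.inl rfl)), dvd_mul_right _ _, d7.trans (dvd_mul_right _ _)⟩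
    · exact ⟨_, Or.inr (Or.inr (Or.inl rfl)), dvd_mul_right _ _, dvd_mul_left _ _⟩
    · exact ⟨_, Or.inr (Or.inr (Or.inr rfl)), dvd_mul_right _ _, dvd_mul_left _ _⟩
    · exact ⟨_, Or.inr (Or.inr (Or.inr rfl)), dvd_mul_right _ _, d8.trans (dvd_mul_right _ _)⟩
  rcases (show d = 1 ∨ d = 2 ∨ d = 3 ∨ d = 4 by omega) with rfl | rfl | rfl | rfl
  · obtain ⟨k, hk, hkp⟩ := bound_three hinj hq hR (by omega)
    rw [pow_one] at hn
    rcases hk with rfl | rfl | rfl | rfl | rfl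
    · obtain ⟨N, hN, hd1, hd2⟩ := hcomb _ _ (Or.inl rfl) hn
      exact ⟨N, hN, pow_union hpow hkp hd2 hd1⟩
    · obtain ⟨N, hN, hd1, hd2⟩ := hcomb _ _ (Or.inr rfl) hn
      exact ⟨N, hN, pow_union hpow hkp hd2 hd1⟩
    all_goals
      refine ⟨q ^ 4 - 1, Or.inr (Or.inl rfl), pow_union hpow hkp ?_ (by assumption)⟩
      rcases hn with rfl | rfl <;> assumption
  · obtain ⟨k, hk, hkp⟩ := bound_two hinj hq hR (by omega)
    refine ⟨q ^ 4 - 1, Or.inr (Or.inl rfl), pow_union hpow hkp ?_ ?_⟩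
    · rcases hn with rfl | rfl <;> assumption
    · rcases hk with rfl | rfl <;> assumption
  · obtain ⟨k, hk, hkp⟩ := bound_one hinj hq hR (by omega)
    obtain ⟨N, hN, hd1, hd2⟩ := hcomb _ _ hn hk
    exact ⟨N, hN, pow_union hpow hkp hd1 hd2⟩
  · have h0 : S \ T = ∅ := eq_empty_of_card_le_one hR (by omega)
    refine ⟨n, ?_, pow_union hpow (k := 1) (by simp [h0]) dvd_rfl (one_dvd _)⟩
    rcases hn with h | h
    exacts [Or.inl h, Or.inr (Or.inl h)]

end Cfsg.Agent.GenA.Spec.Eight
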