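import Mathlib
import Cfsg.Agent.GenA.Spec.RootSets
import Cfsg.Agent.GenA.Spec.MatTools

/-!
# Orders of self-dual elements of `GL₈` in characteristic two
-/

set_option autoImplicit false

namespace Cfsg.Agent.GenA.Spec.Eight

open Polynomial Matrix Finset

universe u v

/-- the spectrum of `Sp₈(q)`, `q` even -/
def spEight (q : ℕ) : Set ℕ :=
  {d | (∃ n, P4 q n ∧ d ∣ n) ∨ (∃ n, P3 q n ∧ d ∣ 2 * n) ∨ (∃ n, P2 q n ∧ d ∣ 4 * n) ∨
    (∃ n, P1 q n ∧ d ∣ 8 * n)}

theorem P1.odd {q n : ℕ} (hq : Even q) (hq2 : 2 ≤ q) (h : P1 q n) : Odd n := by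
  obtain ⟨m, hm⟩ := hq
  rcases h with rfl | rfl
  · exact ⟨m, by omega⟩
  · exact ⟨m - 1, by omega⟩

theorem P2.odd {q n : ℕ} (hq : Even q) (hq2 : 2 ≤ q) (h : P2 q n) : Odd n := by
  have he : Even (q ^ 2) := Nat.even_pow.2 ⟨hq, two_ne_zero⟩
  rcases h with rfl | rfl
  · exact he.add_one
  · exact Nat.Even.sub_odd (Nat.one_le_pow _ _ (by omega)) he odd_one

theorem P3.odd {q n : ℕ} (hq : Even q) (hq2 : 2 ≤ q) (h : P3 q n) : Odd n := by
  have he2 : Even (q ^ 2) := Nat.even_pow.2 ⟨hq, two_ne_zero⟩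
  have he3 : Even (q ^ 3) := Nat.even_pow.2 ⟨hq, three_ne_zero⟩
  rcases h with rfl | rfl | rfl | rfl | rfl
  · exact he3.add_one
  · exact Nat.Even.sub_odd (Nat.one_le_pow _ _ (by omega)) he3 odd_one
  · exact he2.add_one.mul hq.add_one
  · exact he2.add_one.mul (Nat.Even.sub_odd (by omega) hq odd_one)
  · exact Nat.Even.sub_odd (Nat.one_le_pow _ _ (by omega)) he2 odd_one

theorem spEight_of_dvd {q d e : ℕ} (he : e ∈ spEight q) (h : d ∣ e) : d ∈ spEight q := by
  rcases he with ⟨n, hn, h'⟩ | ⟨n, hn, h'⟩ | ⟨n, hn, h'⟩ | ⟨n, hn, h'⟩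
  exacts [Or.inl ⟨n, hn, h.trans h'⟩, Or.inr (Or.inl ⟨n, hn, h.trans h'⟩),
    Or.inr (Or.inr (Or.inl ⟨n, hn, h.trans h'⟩)), Or.inr (Or.inr (Or.inr ⟨n, hn, h.trans h'⟩))]

section Roots

variable {F : Type u} [Field F] {Ω : Type v} [Field Ω] [IsAlgClosed Ω] (f : F →+* Ω)
variable {ι : Type} [Fintype ι] [DecidableEq ι]

/-- roots come in inverse pairs when the inverse has the same characteristic polynomial -/
theorem count_inv [DecidableEq Ω] {M : Matrix ι ι F} (hu : IsUnit M) (hconj : M⁻¹.charpoly = M.charpoly)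
    (a : Ω) : (M.map f).charpoly.roots.count a⁻¹ = (M.map f).charpoly.roots.count a := by
  classical
  have hd : M.det ≠ 0 := ((Matrix.isUnit_iff_isUnit_det M).1 hu).ne_zero
  set c := (M.map f).charpoly with hc
  have hne : ∀ x ∈ c.roots, x ≠ 0 := by
    intro x hx h0
    rw [mem_roots (M.map f).charpoly_monic.ne_zero, h0, IsRoot, Matrix.eval_charpoly,
      map_zero, zero_sub, det_neg, mul_eq_zero] at hx
    rcases hx with h | h
    · exact pow_ne_zero _ (neg_ne_zero.2 one_ne_zero) h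
    · rw [← RingHom.mapMatrix_apply, ← RingHom.map_det] at h
      exact hd ((map_eq_zero f).1 h)
  have h1 : c.roots = c.reverse.roots := by
    rw [hc, Matrix.reverse_charpoly]
    have h2 : (M.map f).charpoly = ((-1) ^ Fintype.card ι * C (f (Ring.inverse M.det))) * (M.map f).charpolyRev := by
      conv_lhs => rw [Matrix.charpoly_map, ← hconj, Matrix.charpoly_inv M hu]
      rw [Polynomial.map_mul, Polynomial.map_mul, Polynomial.map_pow, Polynomial.map_neg,
        Polynomial.map_one, Polynomial.map_C]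
      congr 1
      rw [← Matrix.reverse_charpoly, ← Matrix.reverse_charpoly, Matrix.charpoly_map, reverse,
        reverse, natDegree_map, reflect_map]
    rw [h2, show ((-1 : Polynomial Ω) ^ Fintype.card ι * C (f (Ring.inverse M.det))) =
        C ((-1 : Ω) ^ Fintype.card ι * f (Ring.inverse M.det)) by simp]
    refine roots_C_mul _ (mul_ne_zero (pow_ne_zero _ (neg_ne_zero.2 one_ne_zero)) ?_)
    rw [Ring.inverse_eq_inv', map_inv₀, ne_eq, inv_eq_zero, map_eq_zero]
    exact hd
  have h3 : c.reverse.roots = c.roots.map (fun x => x⁻¹) := by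
    conv_lhs => rw [(IsAlgClosed.splits c).eq_prod_roots_of_monic (M.map f).charpoly_monic]
    have : ∀ s : Multiset Ω, (∀ x ∈ s, x ≠ 0) →
        ((s.map fun x => X - C x).prod).reverse.roots = s.map (fun x => x⁻¹) := by
      intro s
      induction s using Multiset.induction with
      | empty => intro _; rw [Multiset.map_zero, Multiset.prod_zero, ← C_1, reverse_C, roots_C, Multiset.map_zero]
      | cons x s ih =>
        intro hs
        have hx := hs x (Multiset.mem_cons_self _ _)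
        rw [Multiset.map_cons, Multiset.prod_cons, reverse_mul_of_domain, Multiset.map_cons,
          roots_mul, ih fun y hy => hs y (Multiset.mem_cons_of_mem hy)]
        · have : (X - C x).reverse = C (-x) * (X - C x⁻¹) := by
            rw [mul_sub, ← C_mul, neg_mul, mul_inv_cancel₀ hx, C_neg, C_neg, C_1]
            rw [reverse, natDegree_X_sub_C, reflect_sub, reflect_C, reflect_one_X]
            ring
          rw [this, roots_C_mul _ (neg_ne_zero.2 hx), roots_X_sub_C, Multiset.singleton_add]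
        · refine mul_ne_zero ?_ ?_ <;> rw [ne_eq, reverse_eq_zero]
          · exact X_sub_C_ne_zero x
          · exact (monic_multiset_prod_of_monic s _ fun y _ => monic_X_sub_C y).ne_zero
    exact this _ hne
  conv_lhs => rw [h1, h3]
  exact Multiset.count_map_eq_count' _ _ (fun x y h => inv_injective h) a

/-- the data attached to the roots -/
theorem root_data [Fintype F] [DecidableEq Ω] [CharP Ω 2] (k : ℕ) (hq : Fintype.card F = 2 ^ k) {M : Matrix ι ι F}
    (hu : IsUnit M) (hconj : M⁻¹.charpoly = M.charpoly) :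
    RootSet (Fintype.card F) ((M.map f).charpoly.roots.toFinset.erase 1) ∧
      (∀ x y : Ω, x ^ Fintype.card F = y ^ Fintype.card F → x = y) ∧
      ((M.map f).charpoly.roots.toFinset.erase 1).card + (M.map f).charpoly.roots.count 1 ≤ Fintype.card ι ∧
      (∀ a ∈ (M.map f).charpoly.roots.toFinset.erase 1,
        ((M.map f).charpoly.roots.toFinset.erase 1).card + 2 * (M.map f).charpoly.roots.count a ≤ Fintype.card ι + 2) := by
  classical
  have : Fact (Nat.Prime 2) := ⟨Nat.prime_two⟩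
  set R := (M.map f).charpoly.roots with hR
  set S := R.toFinset.erase 1 with hS
  have hmem : ∀ a, a ∈ S ↔ a ≠ 1 ∧ 0 < R.count a := fun a => by
    rw [hS, Finset.mem_erase, Multiset.mem_toFinset, Multiset.count_pos]
  have hinj : ∀ x y : Ω, x ^ Fintype.card F = y ^ Fintype.card F → x = y := fun x y h => by
    rw [hq] at h
    exact iterateFrobenius_inj Ω 2 k (by rwa [iterateFrobenius_def, iterateFrobenius_def])
  have hne : ∀ a ∈ S, a ≠ 0 := by
    intro a ha h0
    obtain ⟨-, hc⟩ := (hmem a).1 ha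
    rw [Multiset.count_pos, hR, mem_roots (Matrix.charpoly_monic _).ne_zero, h0, IsRoot,
      Matrix.eval_charpoly, map_zero, zero_sub, det_neg, mul_eq_zero] at hc
    rcases hc with h | h
    · exact pow_ne_zero _ (neg_ne_zero.2 one_ne_zero) h
    · rw [← RingHom.mapMatrix_apply, ← RingHom.map_det] at h
      exact ((Matrix.isUnit_iff_isUnit_det M).1 hu).ne_zero ((map_eq_zero f).1 h)
  have hinv : ∀ a ∈ S, a⁻¹ ∈ S := fun a ha => by
    obtain ⟨h1, hc⟩ := (hmem a).1 ha
    exact (hmem _).2 ⟨fun h => h1 (inv_eq_one.1 h), by rwa [hR, count_inv f hu hconj]⟩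
  have hninv : ∀ a ∈ S, a⁻¹ ≠ a := fun a ha h => by
    have h2 : a ^ 2 = 1 := by rw [sq]; nth_rw 1 [← h]; exact inv_mul_cancel₀ (hne a ha)
    rcases sq_eq_one_iff.1 h2 with h | h
    · exact ((hmem a).1 ha).1 h
    · exact ((hmem a).1 ha).1 (by rw [h, CharTwo.neg_eq])
  refine ⟨⟨hinv, fun a ha => ?_, hne, hninv⟩, hinj, ?_, fun a ha => ?_⟩
  · obtain ⟨h1, hc⟩ := (hmem a).1 ha
    exact (hmem _).2 ⟨fun h => h1 (hinj a 1 (by rw [h, one_pow])), by rwa [hR, count_roots_frobenius f 2 k hq]⟩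
  all_goals
    have hcard : R.card = Fintype.card ι := by
      rw [hR, ← (IsAlgClosed.splits _).natDegree_eq_card_roots, Matrix.charpoly_natDegree_eq_dim]
    have hle : ∀ T : Finset Ω, ∑ x ∈ T, R.count x ≤ Fintype.card ι := fun T => by
      rw [← hcard, ← Multiset.toFinset_sum_count_eq R]
      refine le_trans (le_of_eq ?_) (Finset.sum_le_sum_of_subset (Finset.inter_subset_right (s₁ := T)))
      refine (Finset.sum_subset Finset.inter_subset_left fun x hx hx' => ?_).symm
      exact Multiset.count_eq_zero.2 fun h => hx' (Finset.mem_inter.2 ⟨hx, Multiset.mem_toFinset.2 h⟩)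
  · refine le_trans ?_ (hle (insert 1 S))
    rw [Finset.sum_insert (Finset.notMem_erase _ _), add_comm]
    refine Nat.add_le_add_left ?_ _
    rw [Finset.card_eq_sum_ones]
    exact Finset.sum_le_sum fun x hx => ((hmem x).1 hx).2
  · have h1 := hle S
    rw [← Finset.add_sum_erase _ _ ha,
      ← Finset.add_sum_erase _ _ (Finset.mem_erase.2 ⟨hninv a ha, hinv a ha⟩), hR, count_inv f hu hconj, ← hR] at h1
    have h2 : ((S.erase a).erase a⁻¹).card ≤ ∑ x ∈ (S.erase a).erase a⁻¹, R.count x := by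
      rw [Finset.card_eq_sum_ones]
      exact Finset.sum_le_sum fun x hx =>
        ((hmem x).1 (Finset.mem_of_mem_erase (Finset.mem_of_mem_erase hx))).2
    have e1 := Finset.card_erase_add_one ha
    have e2 := Finset.card_erase_add_one (Finset.mem_erase.2 ⟨hninv a ha, hinv a ha⟩)
    omega

end Roots

section Bound

variable {F : Type u} [Field F] [Fintype F] [CharP F 2] {ι : Type} [Fintype ι] [DecidableEq ι]

theorem exists_exponent (hι : Fintype.card ι = 8) {M : Matrix ι ι F} (hu : IsUnit M)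
    (hconj : M⁻¹.charpoly = M.charpoly) : ∃ N ∈ spEight (Fintype.card F), M ^ N = 1 := by
  classical
  have : Fact (Nat.Prime 2) := ⟨Nat.prime_two⟩
  have hq2 : 2 ≤ Fintype.card F := Fintype.one_lt_card
  obtain ⟨k, -, hk⟩ := FiniteField.card F 2
  set Ω := AlgebraicClosure F
  set f := algebraMap F Ω
  have : CharP Ω 2 := charP_of_injective_algebraMap f.injective 2
  obtain ⟨hS, hinj, hc1, hca⟩ := root_data f k hk hu hconj
  set R := (M.map f).charpoly.roots with hR
  set S := R.toFinset.erase 1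
  rw [hι] at hc1 hca
  have hfin : ∀ (n e : ℕ), 0 < n → (∀ x ∈ S, x ^ n = 1) → (∀ x ∈ R, R.count x ≤ 2 ^ e) → M ^ (n * 2 ^ e) = 1 := by
    intro n e hn hx hcnt
    have h := pow_eq_smul_of_roots 2 (M.map f) n e 1 hn (fun a ha => ⟨?_, hcnt a ha⟩)
    · rw [one_pow, one_smul, ← RingHom.mapMatrix_apply, ← map_pow] at h
      exact Matrix.map_injective f.injective (h.trans (map_one f.mapMatrix).symm)
    · by_cases h1 : a = 1
      · rw [h1, one_pow]
      · exact hx a (Finset.mem_erase.2 ⟨h1, Multiset.mem_toFinset.2 ha⟩)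
  have hcases : ∀ m, (∃ a ∈ R, m < R.count a) → (S.card + (m + 1) ≤ 8) ∨ (S.card + 2 * (m + 1) ≤ 10) := by
    rintro m ⟨a, ha, ham⟩
    by_cases h1 : a = 1
    · subst h1; left; omega
    · right
      have := hca a (Finset.mem_erase.2 ⟨h1, Multiset.mem_toFinset.2 ha⟩)
      omega
  by_cases h4 : ∃ a ∈ R, 4 < R.count a
  · have hS2 : S.card ≤ 3 := by
      obtain ⟨a, ha, hac⟩ := h4
      by_cases h1 : a = 1
      · subst h1; omega
      · have hm := Finset.mem_erase.2 ⟨h1, Multiset.mem_toFinset.2 ha⟩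
        have := hca a hm
        have h2 : 1 ≤ S.card := Finset.card_pos.2 ⟨a, hm⟩
        omega
    obtain ⟨n, hn, hx⟩ := bound_one hinj hq2 hS hS2
    refine ⟨n * 2 ^ 3, Or.inr (Or.inr (Or.inr ⟨n, hn, by rw [mul_comm]; norm_num⟩)), hfin n 3 (hn.pos hq2) hx fun x _ => ?_⟩
    have := (Multiset.count_le_card x R).trans_eq (by
      rw [hR, ← (IsAlgClosed.splits _).natDegree_eq_card_roots, Matrix.charpoly_natDegree_eq_dim, hι])
    omega
  push Not at h4
  by_cases h2 : ∃ a ∈ R, 2 < R.count a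
  · have hS2 : S.card ≤ 5 := by
      rcases hcases 2 h2 with h | h <;> omega
    obtain ⟨n, hn, hx⟩ := bound_two hinj hq2 hS hS2
    exact ⟨n * 2 ^ 2, Or.inr (Or.inr (Or.inl ⟨n, hn, by rw [mul_comm]; norm_num⟩)),
      hfin n 2 (hn.pos hq2) hx fun x hxR => h4 x hxR⟩
  push Not at h2
  by_cases h1 : ∃ a ∈ R, 1 < R.count a
  · have hS2 : S.card ≤ 7 := by
      rcases hcases 1 h1 with h | h <;> omega
    obtain ⟨n, hn, hx⟩ := bound_three hinj hq2 hS hS2
    exact ⟨n * 2 ^ 1, Or.inr (Or.inl ⟨n, hn, by rw [mul_comm]; norm_num⟩),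
      hfin n 1 (hn.pos hq2) hx fun x hxR => h2 x hxR⟩
  push Not at h1
  obtain ⟨n, hn, hx⟩ := bound_four hinj hq2 hS (by omega)
  exact ⟨n * 2 ^ 0, Or.inl ⟨n, hn, by rw [pow_zero, mul_one]⟩, hfin n 0 (hn.pos hq2) hx fun x hxR => h1 x hxR⟩

omit [Fintype F] [CharP F 2] in
/-- a chain forces a large kernel -/
theorem chain_le {V : Type*} [AddCommGroup V] [Module F V] [FiniteDimensional F V] (g : Module.End F V) (v : V)
    (m : ℕ) (hv : (g ^ m) v ≠ 0) (hv' : (g ^ (m + 1)) v = 0) :
    ∀ j, j ≤ m → Module.finrank F (LinearMap.ker g) + j ≤ Module.finrank F (LinearMap.ker (g ^ (j + 1))) := by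
  intro j
  induction j with
  | zero => intro _; rw [pow_one, add_zero]
  | succ j ih =>
    intro hj
    have h1 := ih (by omega)
    have hlt : LinearMap.ker (g ^ (j + 1)) < LinearMap.ker (g ^ (j + 1 + 1)) := by
      refine SetLike.lt_iff_le_and_exists.2 ⟨fun x hx => ?_, (g ^ (m - (j + 1))) v, ?_, ?_⟩
      · rw [LinearMap.mem_ker] at hx ⊢
        rw [pow_succ', Module.End.mul_apply, hx, map_zero]
      · rw [LinearMap.mem_ker, ← Module.End.mul_apply, ← pow_add, show j + 1 + 1 + (m - (j + 1)) = m + 1 by omega, hv']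
      · rw [LinearMap.mem_ker, ← Module.End.mul_apply, ← pow_add, show j + 1 + (m - (j + 1)) = m by omega]
        exact hv
    have := Submodule.finrank_lt_finrank_of_lt hlt
    omega

/-- doubling is allowed for elements with a non-zero cyclic sum and an even fixed space -/
theorem double_mem (hι : Fintype.card ι = 8) {M : Matrix ι ι F} (hu : IsUnit M)
    (hconj : M⁻¹.charpoly = M.charpoly) (o : ℕ) (ho : o = orderOf M) (ho0 : 0 < o)
    (hs : ∃ v, (∑ i ∈ range o, M ^ i) *ᵥ v ≠ 0)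
    (heven : Even (Module.finrank F (LinearMap.ker (Matrix.toLin' (M - 1))))) :
    2 * o ∈ spEight (Fintype.card F) := by
  classical
  have : Fact (Nat.Prime 2) := ⟨Nat.prime_two⟩
  have hq2 : 2 ≤ Fintype.card F := Fintype.one_lt_card
  obtain ⟨k, hk0, hk⟩ := FiniteField.card F 2
  have hqe : Even (Fintype.card F) := hk ▸ Nat.even_pow.2 ⟨even_two, k.ne_zero⟩
  obtain ⟨t, s, hs2, hts⟩ := Nat.exists_eq_pow_mul_and_not_dvd ho0.ne' 2 (by norm_num)
  set Ω := AlgebraicClosure F
  set f := algebraMap F Ω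
  have : CharP Ω 2 := charP_of_injective_algebraMap f.injective 2
  obtain ⟨hS, hinj, hc1, -⟩ := root_data f k hk hu hconj
  set R := (M.map f).charpoly.roots with hR
  set S := R.toFinset.erase 1
  rw [hι] at hc1
  obtain ⟨v, hv⟩ := hs
  set g := Matrix.toLin' (M - 1) with hg
  -- the chain
  have hid : (∑ i ∈ range o, (X : Polynomial (ZMod 2)) ^ i) =
      (∑ i ∈ range s, (X : Polynomial (ZMod 2)) ^ i) ^ (2 ^ t) * (X - 1) ^ (2 ^ t - 1) := by
    refine mul_right_cancel₀ (Polynomial.X_sub_C_ne_zero (1 : ZMod 2)) ?_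
    rw [C_1, geom_sum_mul, mul_assoc, ← pow_succ, Nat.sub_add_cancel Nat.one_le_two_pow, ← mul_pow,
      geom_sum_mul, sub_pow_char_pow (p := 2), one_pow, ← pow_mul, hts, mul_comm s]
  have : Nonempty ι := Fintype.card_pos_iff.1 (by omega)
  letI := ZMod.algebra F 2
  have hMid : (∑ i ∈ range o, M ^ i) = (∑ i ∈ range s, M ^ i) ^ (2 ^ t) * (M - 1) ^ (2 ^ t - 1) := by
    have := congrArg (Polynomial.aeval M) hid
    simpa using this
  have hcomm : Commute ((∑ i ∈ range s, M ^ i) ^ (2 ^ t)) ((M - 1) ^ (2 ^ t - 1)) := by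
    refine Commute.pow_pow ?_ _ _
    exact Commute.sum_left _ _ _ fun i _ => (Commute.pow_left (Commute.refl M) i).sub_right (Commute.one_right _)
  set v0 := (∑ i ∈ range s, M ^ i) ^ (2 ^ t) *ᵥ v with hv0
  have hgpow : ∀ j (x : ι → F), (g ^ j) x = (M - 1) ^ j *ᵥ x := fun j x => by
    rw [hg, ← Matrix.toLinAlgEquiv'_apply ((M - 1) ^ j) x, map_pow]
    rfl
  have hw : (g ^ (2 ^ t - 1)) v0 ≠ 0 := by
    rw [hgpow, hv0, Matrix.mulVec_mulVec, ← hcomm.eq, ← hMid]
    exact hv
  have hw' : (g ^ (2 ^ t - 1 + 1)) v0 = 0 := by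
    rw [pow_succ', Module.End.mul_apply, hgpow, hv0, Matrix.mulVec_mulVec, ← hcomm.eq, ← hMid, hg,
      Matrix.toLin'_apply, Matrix.mulVec_mulVec, mul_geom_sum, ho, pow_orderOf_eq_one, sub_self, Matrix.zero_mulVec]
  have hker := chain_le g v0 _ hw hw' _ le_rfl
  have hcount : Module.finrank F (LinearMap.ker (g ^ (2 ^ t - 1 + 1))) ≤ R.count 1 := by
    have h1 := LinearMap.finrank_genEigenspace_le (Matrix.toLin' M) 1 (2 ^ t - 1 + 1 : ℕ)
    rw [Module.End.genEigenspace_nat, one_smul, Matrix.charpoly_toLin'] at h1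
    rw [show g = Matrix.toLin' M - 1 by rw [hg, map_sub, Matrix.toLin'_one]; rfl]
    refine h1.trans (le_of_eq ?_)
    rw [hR, Matrix.charpoly_map, count_roots, ← map_one f, ← eq_rootMultiplicity_map f.injective]
  have hkpos : 1 ≤ Module.finrank F (LinearMap.ker g) := by
    refine Submodule.one_le_finrank_iff.2 fun h => hw ?_
    have hm : (g ^ (2 ^ t - 1)) v0 ∈ LinearMap.ker g := by
      rw [LinearMap.mem_ker, ← Module.End.mul_apply, ← pow_succ', hw']
    rwa [h, Submodule.mem_bot] at hm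
  have hker2 : 2 ≤ Module.finrank F (LinearMap.ker g) := by
    obtain ⟨j, hj⟩ := heven
    omega
  have hc : 2 ^ t + 1 ≤ R.count 1 := by
    have := Nat.one_le_two_pow (n := t)
    omega
  -- odd exponents: the odd part of `o` divides `n`
  have hodd : ∀ n, 0 < n → Odd n → (∀ x ∈ S, x ^ n = 1) → s ∣ n := by
    intro n hn hno hx
    have h8 : ∀ x ∈ R, x ^ n = 1 ∧ R.count x ≤ 2 ^ 3 := fun x hxR => by
      refine ⟨?_, ?_⟩
      · by_cases h1 : x = 1
        · rw [h1, one_pow]
        · exact hx x (Finset.mem_erase.2 ⟨h1, Multiset.mem_toFinset.2 hxR⟩)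
      · refine (Multiset.count_le_card x R).trans ?_
        rw [hR, ← (IsAlgClosed.splits _).natDegree_eq_card_roots, Matrix.charpoly_natDegree_eq_dim, hι]
        norm_num
    have h := pow_eq_smul_of_roots 2 (M.map f) n 3 1 hn h8
    rw [one_pow, one_smul, ← RingHom.mapMatrix_apply, ← map_pow] at h
    have h' : M ^ (n * 2 ^ 3) = 1 := Matrix.map_injective f.injective (h.trans (map_one f.mapMatrix).symm)
    have hd : s ∣ n * 2 ^ 3 := (dvd_mul_left s (2 ^ t)).trans (hts ▸ ho ▸ orderOf_dvd_of_pow_eq_one h')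
    exact (Nat.Coprime.dvd_of_dvd_mul_right (Nat.Coprime.pow_right 3 (Nat.coprime_comm.1
      (Nat.prime_two.coprime_iff_not_dvd.2 hs2))) hd)
  have ht : t ≤ 2 := by
    by_contra ht
    have : 2 ^ 3 ≤ 2 ^ t := Nat.pow_le_pow_right two_pos (by omega)
    omega
  rw [hts]
  interval_cases t
  · obtain ⟨n, hn, hx⟩ := bound_three hinj hq2 hS (by omega)
    exact Or.inr (Or.inl ⟨n, hn, by
      simpa using mul_dvd_mul_left 2 (hodd n (hn.pos hq2) (hn.odd hqe hq2) hx)⟩)
  · obtain ⟨n, hn, hx⟩ := bound_two hinj hq2 hS (by omega)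
    exact Or.inr (Or.inr (Or.inl ⟨n, hn, by
      have := mul_dvd_mul_left 4 (hodd n (hn.pos hq2) (hn.odd hqe hq2) hx)
      rwa [show 2 * (2 ^ 1 * s) = 4 * s by ring]⟩))
  · obtain ⟨n, hn, hx⟩ := bound_one hinj hq2 hS (by omega)
    exact Or.inr (Or.inr (Or.inr ⟨n, hn, by
      have := mul_dvd_mul_left 8 (hodd n (hn.pos hq2) (hn.odd hqe hq2) hx)
      rwa [show 2 * (2 ^ 2 * s) = 8 * s by ring]⟩))

end Bound

end Cfsg.Agent.GenA.Spec.Eight
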