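import Mathlib
import Cfsg.Agent.GenA.Spec.MatTools
import Cfsg.Agent.GenA.Spec.Affine

/-!
# The groups `V ⋊ SL₂(q²)` and `V ⋊ ΣL₂(q²)` on the four-dimensional orthogonal module
-/

set_option autoImplicit false

namespace Cfsg.Agent.GenA.Spec

open Matrix Finset
open scoped Kronecker

section Basic

variable {K : Type} [Field K]

/-- the tensor product of the natural module with its twist -/
def twoRep (σ : K →+* K) (A : Matrix (Fin 2) (Fin 2) K) : Matrix (Fin 2 × Fin 2) (Fin 2 × Fin 2) K :=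
  A ⊗ₖ A.map σ

theorem twoRep_mul (σ : K →+* K) (A B : Matrix (Fin 2) (Fin 2) K) :
    twoRep σ (A * B) = twoRep σ A * twoRep σ B := by
  unfold twoRep
  rw [Matrix.map_mul, Matrix.mul_kronecker_mul]

theorem twoRep_one (σ : K →+* K) : twoRep σ (1 : Matrix (Fin 2) (Fin 2) K) = 1 := by
  unfold twoRep
  rw [Matrix.map_one σ (map_zero σ) (map_one σ), Matrix.one_kronecker_one]

theorem twoRep_pow (σ : K →+* K) (A : Matrix (Fin 2) (Fin 2) K) (n : ℕ) :
    twoRep σ (A ^ n) = twoRep σ A ^ n := by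
  induction n with
  | zero => rw [pow_zero, pow_zero, twoRep_one]
  | succ n ih => rw [pow_succ, pow_succ, twoRep_mul, ih]

theorem twoRep_sign (σ : K →+* K) {e : K} (he : e ^ 2 = 1) :
    twoRep σ (e • (1 : Matrix (Fin 2) (Fin 2) K)) = 1 := by
  have hee : e * σ e = 1 := by
    rcases sq_eq_one_iff.1 he with h | h <;> simp [h]
  ext ⟨i, j⟩ ⟨i', j'⟩
  unfold twoRep
  rw [Matrix.kronecker_apply, Matrix.map_apply, Matrix.smul_apply, Matrix.smul_apply, Matrix.one_apply,
    Matrix.one_apply, Matrix.one_apply]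
  by_cases hi : i = i' <;> by_cases hj : j = j' <;> simp [hi, hj, hee]

/-- the linear endomorphisms -/
def linEnd {ι : Type} [Fintype ι] [DecidableEq ι] (M : Matrix ι ι K) : AddMonoid.End (ι → K) :=
  (Matrix.mulVecLin M).toAddMonoidHom

theorem linEnd_apply {ι : Type} [Fintype ι] [DecidableEq ι] (M : Matrix ι ι K) (v : ι → K) :
    linEnd M v = M *ᵥ v := rfl

/-- the semilinear twist -/
def twistEnd {ι : Type} (σ : K →+* K) : AddMonoid.End (ι → K) :=
  { toFun := fun v i => σ (v i)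
    map_zero' := funext fun _ => map_zero σ
    map_add' := fun v w => funext fun i => map_add σ (v i) (w i) }

theorem twistEnd_apply {ι : Type} (σ : K →+* K) (v : ι → K) (i : ι) : twistEnd σ v i = σ (v i) := rfl

theorem twist_sq {ι : Type} (σ : K →+* K) (hσ : ∀ x, σ (σ x) = x) :
    (twistEnd σ : AddMonoid.End (ι → K)) * twistEnd σ = 1 :=
  DFunLike.ext _ _ fun v => funext fun i => hσ (v i)

theorem linEnd_mul {ι : Type} [Fintype ι] [DecidableEq ι] (M N : Matrix ι ι K) :
    linEnd (M * N) = linEnd M * linEnd N :=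
  DFunLike.ext _ _ fun v => (Matrix.mulVec_mulVec v M N).symm

theorem linEnd_one {ι : Type} [Fintype ι] [DecidableEq ι] :
    linEnd (1 : Matrix ι ι K) = 1 := DFunLike.ext _ _ fun v => Matrix.one_mulVec v

theorem linEnd_pow {ι : Type} [Fintype ι] [DecidableEq ι] (M : Matrix ι ι K) (n : ℕ) :
    linEnd (M ^ n) = linEnd M ^ n := by
  induction n with
  | zero => rw [pow_zero, pow_zero, linEnd_one]
  | succ n ih => rw [pow_succ, pow_succ, linEnd_mul, ih]

theorem linEnd_injective {ι : Type} [Fintype ι] [DecidableEq ι] :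
    Function.Injective (linEnd : Matrix ι ι K → AddMonoid.End (ι → K)) := fun M N h =>
  Matrix.ext fun i j => by
    have := congrFun (DFunLike.congr_fun h (Pi.single j 1)) i
    rwa [linEnd_apply, linEnd_apply, Matrix.mulVec_single_one, Matrix.mulVec_single_one] at this

theorem twist_linEnd (σ : K →+* K) {ι : Type} [Fintype ι] [DecidableEq ι] (M : Matrix ι ι K) :
    twistEnd σ * linEnd M = linEnd (M.map σ) * twistEnd σ :=
  DFunLike.ext _ _ fun v => funext fun i => RingHom.map_mulVec σ M v i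

theorem map_twoRep (σ : K →+* K) (A : Matrix (Fin 2) (Fin 2) K) :
    (twoRep σ A).map σ = twoRep σ (A.map σ) := by
  ext ⟨i, j⟩ ⟨i', j'⟩
  simp [twoRep, Matrix.kronecker_apply]

/-- geometric sums in characteristic `p` -/
theorem geom_sum_eq_pow {R : Type*} [Ring R] (p : ℕ) [hp : Fact p.Prime] [CharP R p] (x : R) :
    ∑ i ∈ range p, x ^ i = (x - 1) ^ (p - 1) := by
  have hpoly : ∑ i ∈ range p, (Polynomial.X : Polynomial (ZMod p)) ^ i = (Polynomial.X - 1) ^ (p - 1) := by
    refine mul_right_cancel₀ (Polynomial.X_sub_C_ne_zero (1 : ZMod p)) ?_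
    rw [Polynomial.C_1, geom_sum_mul, ← pow_succ, Nat.sub_add_cancel hp.out.one_le,
      sub_pow_char (p := p), one_pow]
  letI := ZMod.algebra R p
  have h := congrArg (Polynomial.aeval x) hpoly
  simpa using h

end Basic

section Upper

variable {K : Type} [Field K] [Fintype K] {Ω : Type} [Field Ω] [IsAlgClosed Ω] (f : K →+* Ω)

omit [Fintype K] [IsAlgClosed Ω] in
/-- a power of a diagonalisable matrix is scalar as soon as the power of the eigenvalue is -/
theorem pow_scalar_of_eigen {A : Matrix (Fin 2) (Fin 2) K} {l : Ω} {P : Matrix (Fin 2) (Fin 2) Ω}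
    (hP : IsUnit P) (h : A.map f * P = P * Matrix.diagonal ![l, l⁻¹]) {n : ℕ} {e : K} (he : e ^ 2 = 1)
    (hn : l ^ n = f e) : A ^ n = e • (1 : Matrix (Fin 2) (Fin 2) K) := by
  have hei : (f e)⁻¹ = f e := inv_eq_of_mul_eq_one_right (by rw [← sq, ← map_pow, he, map_one])
  have h1 : (A.map f) ^ n * P = P * Matrix.diagonal ![l, l⁻¹] ^ n := by
    induction n generalizing e with
    | zero => simp
    | succ m ih' =>
      clear ih'
      exact (SemiconjBy.pow_right (show SemiconjBy P (Matrix.diagonal ![l, l⁻¹]) (A.map f) from h.symm) _).eq.symm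
  have h2 : Matrix.diagonal ![l, l⁻¹] ^ n = f e • (1 : Matrix (Fin 2) (Fin 2) Ω) := by
    rw [Matrix.diagonal_pow]
    ext i j
    fin_cases i <;> fin_cases j <;> simp [hn, inv_pow, hei]
  rw [h2, Matrix.mul_smul, mul_one, ← smul_one_mul (f e) P] at h1
  have h3 := hP.mul_right_cancel h1
  apply Matrix.map_injective f.injective
  show (A ^ n).map f = (e • (1 : Matrix (Fin 2) (Fin 2) K)).map f
  rw [← RingHom.mapMatrix_apply, map_pow, RingHom.mapMatrix_apply, h3]
  ext i j
  by_cases hij : i = j <;> simp [hij]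

omit [Fintype K] in
theorem sign_of_pow {l : Ω} {n : ℕ} (h : (l ^ n) ^ 2 = 1) : ∃ e : K, e ^ 2 = 1 ∧ l ^ n = f e := by
  rcases sq_eq_one_iff.1 h with h | h
  · exact ⟨1, one_pow 2, by rw [h, map_one]⟩
  · exact ⟨-1, neg_one_sq, by rw [h, map_neg, map_one]⟩

omit [Fintype K] [IsAlgClosed Ω] in
/-- a fixed vector forces one of the weights to vanish -/
theorem fixed_weight (p k : ℕ) [Fact p.Prime] [CharP K p] [CharP Ω p]
    {A : Matrix (Fin 2) (Fin 2) K} {l : Ω} (hl : l ≠ 0) {P : Matrix (Fin 2) (Fin 2) Ω}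
    (hP : IsUnit P) (h : A.map f * P = P * Matrix.diagonal ![l, l⁻¹]) {v : Fin 2 × Fin 2 → K}
    (hv : v ≠ 0) (hfix : twoRep (iterateFrobenius K p k) A *ᵥ v = v) :
    l * l ^ p ^ k = 1 ∨ l ^ p ^ k = l := by
  set σ := iterateFrobenius K p k with hσ
  set τ := iterateFrobenius Ω p k with hτ
  set D := Matrix.diagonal ![l, l⁻¹] with hD
  have hcomm : (A.map f).map τ = (A.map σ).map f := by
    ext i j
    simp [hσ, hτ, iterateFrobenius_def]
  have hPP : IsUnit (P ⊗ₖ P.map τ) := by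
    have hd : IsUnit P.det := (Matrix.isUnit_iff_isUnit_det P).1 hP
    refine IsUnit.of_mul_eq_one (P⁻¹ ⊗ₖ (P⁻¹).map τ) ?_
    rw [← Matrix.mul_kronecker_mul, ← Matrix.map_mul, Matrix.mul_nonsing_inv P hd,
      Matrix.map_one τ (map_zero τ) (map_one τ), Matrix.one_kronecker_one]
  have hconj : (twoRep σ A).map f * (P ⊗ₖ P.map τ) = (P ⊗ₖ P.map τ) * (D ⊗ₖ D.map τ) := by
    have hm : (twoRep σ A).map f = A.map f ⊗ₖ (A.map f).map τ := by
      rw [hcomm]
      ext ⟨i, j⟩ ⟨i', j'⟩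
      simp [twoRep, Matrix.kronecker_apply]
    rw [hm, ← Matrix.mul_kronecker_mul, ← Matrix.map_mul, h, Matrix.map_mul, Matrix.mul_kronecker_mul]
  have hv' : (twoRep σ A).map f *ᵥ (f ∘ v) = f ∘ v := by
    funext i
    rw [← RingHom.map_mulVec, hfix]
    rfl
  obtain ⟨u, hu⟩ := hPP
  set y : Fin 2 × Fin 2 → Ω := (u⁻¹).val *ᵥ (f ∘ v) with hy
  have hy2 : u.val *ᵥ y = f ∘ v := by
    rw [hy, Matrix.mulVec_mulVec, Units.mul_inv, Matrix.one_mulVec]
  have hy0 : y ≠ 0 := by
    intro h0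
    rw [h0, Matrix.mulVec_zero] at hy2
    apply hv
    funext i
    exact f.injective (by rw [Pi.zero_apply, map_zero]; exact (congrFun hy2 i).symm)
  have hyfix : (D ⊗ₖ D.map τ) *ᵥ y = y := by
    have h2 : u.val *ᵥ ((D ⊗ₖ D.map τ) *ᵥ y) = u.val *ᵥ y := by
      rw [Matrix.mulVec_mulVec, hu, ← hconj, ← Matrix.mulVec_mulVec, ← hu, hy2, hv']
    have h3 := congrArg (fun z => (u⁻¹).val *ᵥ z) h2
    simpa [Matrix.mulVec_mulVec] using h3
  obtain ⟨⟨i, j⟩, hij⟩ := Function.ne_iff.1 hy0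
  have hDD : D ⊗ₖ D.map τ = Matrix.diagonal fun x => ![l, l⁻¹] x.1 * τ (![l, l⁻¹] x.2) := by
    rw [hD, Matrix.diagonal_map (map_zero τ), Matrix.diagonal_kronecker_diagonal]
  rw [hDD] at hyfix
  have h4 := congrFun hyfix (i, j)
  rw [Matrix.mulVec_diagonal] at h4
  have h5 : ![l, l⁻¹] i * τ (![l, l⁻¹] j) = 1 := mul_right_cancel₀ hij (by rw [h4, one_mul])
  rw [hτ, iterateFrobenius_def] at h5
  have hx : l ^ p ^ k ≠ 0 := pow_ne_zero _ hl
  fin_cases i <;> fin_cases j <;> simp only [Matrix.cons_val_zero, Matrix.cons_val_one, Matrix.cons_val_fin_one,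
    Fin.zero_eta, Fin.mk_one, Fin.isValue, inv_pow] at h5 <;> field_simp at h5
  · exact Or.inl h5
  · exact Or.inr h5.symm
  · exact Or.inr h5
  · exact Or.inl h5.symm

end Upper

end Cfsg.Agent.GenA.Spec
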