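import Mathlib
import Cfsg.Agent.GenA.Spec.Herm

/-!
# Unboundedly many groups with the spectrum of `PSp₄(q)`, `q` prime to `3`
-/

set_option autoImplicit false

namespace Cfsg.Agent.GenA.Spec

open Matrix Finset
open scoped Kronecker

section Engine

variable {V : Type} [AddCommGroup V] [Finite V] [Nontrivial V]

theorem exists_large_end {p : ℕ} (hp : p.Prime) (hexp : ∀ v : V, p • v = 0)
    (T : Submonoid (AddMonoid.End V)) (hT : ∀ x ∈ T, IsUnit x) (S : Set ℕ)
    (h1 : ∀ x ∈ T, orderOf x ∈ S)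
    (h2 : ∀ x ∈ T, ∑ i ∈ range (orderOf x), x ^ i ≠ 0 → p * orderOf x ∈ S)
    (h3 : ∀ d ∈ S, ∃ x ∈ T, d ∣ orderOf x ∨ (d ∣ p * orderOf x ∧ ∑ i ∈ range (orderOf x), x ^ i ≠ 0))
    (N : ℕ) :
    ∃ (H : Type) (_ : Group H) (_ : Fintype H), N < Fintype.card H ∧
      Set.range (orderOf : H → ℕ) = S := by
  classical
  have : Finite (AddMonoid.End V) := Finite.of_injective _ DFunLike.coe_injective
  let L : Subgroup (AddMonoid.End V)ˣ :=
    { carrier := {u | (u : AddMonoid.End V) ∈ T}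
      one_mem' := T.one_mem
      mul_mem' := fun {a b} ha hb => T.mul_mem ha hb
      inv_mem' := fun {u} hu => by
        have h : u⁻¹ = u ^ (orderOf u - 1) := inv_eq_of_mul_eq_one_left (by
          rw [← pow_succ, Nat.sub_add_cancel (orderOf_pos u), pow_orderOf_eq_one])
        show ((u⁻¹ : (AddMonoid.End V)ˣ) : AddMonoid.End V) ∈ T
        rw [h, Units.val_pow_eq_pow_val]
        exact T.pow_mem hu _ }
  let ρ : L →* AddMonoid.End V := (Units.coeHom _).comp L.subtype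
  have ho : ∀ g : L, orderOf (ρ g) = orderOf g := fun g => by
    rw [← Subgroup.orderOf_coe, ← orderOf_units]; rfl
  have hc : ∀ g : L, cycSum ρ g = ∑ i ∈ range (orderOf (ρ g)), ρ g ^ i := fun g => by
    rw [cycSum, ho]
    exact sum_congr rfl fun i _ => map_pow ρ g i
  refine exists_large ρ hp hexp S (fun g => ho g ▸ h1 _ g.2)
    (fun g hg => ho g ▸ h2 _ g.2 (by rwa [← hc])) (fun d hd => ?_) N
  obtain ⟨x, hx, h⟩ := h3 d hd
  refine ⟨⟨(hT x hx).unit, hx⟩, ?_⟩
  rw [← ho, hc]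
  exact h

/-- a fixed vector gives a non-zero cyclic sum in coprime order -/
theorem sum_ne_zero_of_fixed {p : ℕ} (hp : p.Prime) (hexp : ∀ v : V, p • v = 0) {x : AddMonoid.End V}
    (ho : ¬ p ∣ orderOf x) {v : V} (hv : v ≠ 0) (hfix : x v = v) :
    ∑ i ∈ range (orderOf x), x ^ i ≠ 0 := by
  intro h
  have hj : ∀ j, (x ^ j) v = v := by
    intro j
    induction j with
    | zero => rfl
    | succ j ih => rw [pow_succ, end_mul_apply, hfix, ih]
  have happ : ∀ s : Finset ℕ, (∑ i ∈ s, x ^ i) v = s.card • v := by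
    intro s
    induction s using Finset.induction_on with
    | empty => simp
    | insert a s ha ih =>
      rw [sum_insert ha, card_insert_of_notMem ha, succ_nsmul', ← ih]
      exact congrArg (· + (∑ i ∈ s, x ^ i) v) (hj a)
  have h2 := happ (range (orderOf x))
  rw [h, card_range] at h2
  have : addOrderOf v = p := by
    rcases (Nat.dvd_prime hp).1 (addOrderOf_dvd_iff_nsmul_eq_zero.2 (hexp v)) with e | e
    · exact absurd (AddMonoid.addOrderOf_eq_one_iff.1 e) hv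
    · exact e
  exact ho (this ▸ addOrderOf_dvd_iff_nsmul_eq_zero.2 h2.symm)

omit [Finite V] [Nontrivial V] in
theorem exists_fixed_of_sum {x : AddMonoid.End V} (h : ∑ i ∈ range (orderOf x), x ^ i ≠ 0) :
    ∃ v : V, v ≠ 0 ∧ x v = v := by
  set S := ∑ i ∈ range (orderOf x), x ^ i with hS
  obtain ⟨w, hw⟩ : ∃ w, S w ≠ 0 := by
    by_contra hh
    push Not at hh
    exact h (DFunLike.ext _ _ hh)
  refine ⟨S w, hw, ?_⟩
  have h1 : x * S = S := by
    have h2 := sum_range_succ' (fun j => x ^ j) (orderOf x)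
    rw [sum_range_succ, pow_orderOf_eq_one, pow_zero] at h2
    rw [hS, mul_sum]
    simp_rw [← pow_succ']
    exact (add_right_cancel h2).symm
  exact DFunLike.congr_fun h1 w

end Engine

section Cases

variable {K : Type} [Field K] [Fintype K] {p k : ℕ} [Fact p.Prime] [CharP K p]

omit [Fintype K] in
theorem pi_exp {ι : Type} (v : ι → K) : p • v = 0 := by
  funext i
  rw [Pi.smul_apply, nsmul_eq_mul, CharP.cast_eq_zero, zero_mul, Pi.zero_apply]

theorem sq_card (hK : Fintype.card K = p ^ (2 * k)) (x : K) :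
    iterateFrobenius K p k (iterateFrobenius K p k x) = x := by
  rw [← iterateFrobenius_add_apply, ← two_mul, iterateFrobenius_def, ← hK, FiniteField.pow_card]

/-- the semisimple alternative: an exponent for the image and the trace-field data -/
theorem semisimple_pow {Ω : Type} [Field Ω] [IsAlgClosed Ω] (f : K →+* Ω) (hK : Fintype.card K = p ^ (2 * k))
    {A : Matrix.SpecialLinearGroup (Fin 2) K} {l : Ω} {P : Matrix (Fin 2) (Fin 2) Ω} (hl : l ≠ 0)
    (hlQ : l ^ Fintype.card K = l ∨ l ^ Fintype.card K = l⁻¹) (hP : IsUnit P)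
    (h : (A : Matrix (Fin 2) (Fin 2) K).map f * P = P * Matrix.diagonal ![l, l⁻¹]) :
    ∃ n, n ∈ specSet p (p ^ k) ∧ ∃ e : K, e ^ 2 = 1 ∧
      (A : Matrix (Fin 2) (Fin 2) K) ^ n = e • (1 : Matrix (Fin 2) (Fin 2) K) := by
  set q := p ^ k with hq
  have hQ : Fintype.card K = q ^ 2 := by rw [hK, hq, ← pow_mul, mul_comm]
  have hQ2 : 2 ≤ Fintype.card K := Fintype.one_lt_card
  obtain ⟨δ, hδ, hlδ, hg⟩ : ∃ δ, δ / Nat.gcd 2 (q - 1) ∈ specSet p q ∧ l ^ δ = 1 ∧ Nat.gcd 2 (q - 1) ∣ δ := by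
    have hg2 : Nat.gcd 2 (q - 1) ∣ q ^ 2 - 1 := by
      rw [show q ^ 2 - 1 = (q + 1) * (q - 1) by rw [← Nat.sq_sub_sq, one_pow]]
      exact (Nat.gcd_dvd_right _ _).trans (dvd_mul_left _ _)
    rcases hlQ with h | h
    · refine ⟨q ^ 2 - 1, Or.inr (Or.inl dvd_rfl), mul_right_cancel₀ hl ?_, hg2⟩
      rw [← pow_succ, Nat.sub_add_cancel (by omega : 1 ≤ q ^ 2), ← hQ, h, one_mul]
    · refine ⟨q ^ 2 + 1, Or.inl dvd_rfl, ?_, ?_⟩
      · rw [pow_succ, ← hQ, h, inv_mul_cancel₀ hl]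
      · rw [show q ^ 2 + 1 = q ^ 2 - 1 + 2 by omega]
        exact Nat.dvd_add hg2 (Nat.gcd_dvd_left _ _)
  refine ⟨δ / Nat.gcd 2 (q - 1), hδ, ?_⟩
  have hsq : (l ^ (δ / Nat.gcd 2 (q - 1))) ^ 2 = 1 := by
    obtain ⟨c, hc⟩ := Nat.gcd_dvd_left 2 (q - 1)
    rw [← pow_mul]
    calc l ^ (δ / Nat.gcd 2 (q - 1) * 2) = l ^ (δ / Nat.gcd 2 (q - 1) * (Nat.gcd 2 (q - 1) * c)) := by rw [← hc]
      _ = 1 := by rw [← mul_assoc, Nat.div_mul_cancel hg, pow_mul, hlδ, one_pow]
  obtain ⟨e, he, hle⟩ := sign_of_pow f hsq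
  exact ⟨e, he, pow_scalar_of_eigen f hP h he hle⟩

/-- a unipotent element up to sign has scalar `p`-th power -/
theorem unipotent_pow {A : Matrix (Fin 2) (Fin 2) K} {e : K} (he : e ^ 2 = 1)
    (h : (A - e • 1) * (A - e • 1) = 0) : ∃ e' : K, e' ^ 2 = 1 ∧ A ^ p = e' • (1 : Matrix (Fin 2) (Fin 2) K) := by
  refine ⟨e ^ p, by rw [← pow_mul, mul_comm, pow_mul, he, one_pow], ?_⟩
  have h2 : (A - e • 1) ^ p = 0 := by
    obtain ⟨m, hm⟩ : ∃ m, p = 2 + m := ⟨p - 2, by have := (Fact.out : p.Prime).two_le; omega⟩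
    rw [hm, pow_add, sq, h, zero_mul]
  rw [sub_pow_char_of_commute (p := p) (Commute.smul_right (Commute.one_right A) e), sub_eq_zero,
    smul_pow, one_pow] at h2
  exact h2

omit [Fintype K] [Fact p.Prime] [CharP K p] in
/-- the kernel of the representation -/
theorem twoRep_eq_one (σ : K →+* K) {B : Matrix (Fin 2) (Fin 2) K} (hB : B.det = 1) (h : twoRep σ B = 1) :
    ∃ e : K, e ^ 2 = 1 ∧ B = e • (1 : Matrix (Fin 2) (Fin 2) K) := by
  have he : ∀ i j i' j', B i i' * σ (B j j') = if (i, j) = (i', j') then 1 else 0 := fun i j i' j' => by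
    have := congrFun (congrFun h (i, j)) (i', j')
    rw [twoRep, Matrix.kronecker_apply, Matrix.map_apply, Matrix.one_apply] at this
    exact this
  have h00 : B 0 0 * σ (B 0 0) = 1 := by simpa using he 0 0 0 0
  have hne : σ (B 0 0) ≠ 0 := fun h0 => by rw [h0, mul_zero] at h00; exact zero_ne_one h00
  have hne' : B 0 0 ≠ 0 := fun h0 => hne (by rw [h0, map_zero])
  have h01 : B 0 1 = 0 := by
    have h1 : B 0 1 * σ (B 0 0) = 0 := by simpa using he 0 0 1 0
    exact (mul_eq_zero.1 h1).resolve_right hne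
  have h10 : B 1 0 = 0 := by
    have h1 : B 1 0 * σ (B 0 0) = 0 := by simpa using he 1 0 0 0
    exact (mul_eq_zero.1 h1).resolve_right hne
  have h11 : B 1 1 = B 0 0 := by
    have h1 : B 1 1 * σ (B 0 0) = 1 := by simpa using he 1 0 1 0
    exact mul_right_cancel₀ hne (h1.trans h00.symm)
  refine ⟨B 0 0, ?_, ?_⟩
  · rw [Matrix.det_fin_two, h11, h01, zero_mul, sub_zero, ← sq] at hB
    exact hB
  · ext i j
    fin_cases i <;> fin_cases j <;> simp [h01, h10, h11]

variable (K p k) in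
/-- the representation on `V` -/
noncomputable def innEnd (A : Matrix (Fin 2) (Fin 2) K) : AddMonoid.End (Fin 2 × Fin 2 → K) :=
  linEnd (twoRep (iterateFrobenius K p k) A)

theorem innEnd_mul (A B : Matrix (Fin 2) (Fin 2) K) : innEnd K p k (A * B) = innEnd K p k A * innEnd K p k B := by
  rw [innEnd, innEnd, innEnd, twoRep_mul, linEnd_mul]

theorem innEnd_pow (A : Matrix (Fin 2) (Fin 2) K) (n : ℕ) : innEnd K p k (A ^ n) = innEnd K p k A ^ n := by
  rw [innEnd, innEnd, twoRep_pow, linEnd_pow]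

theorem innEnd_sign {e : K} (he : e ^ 2 = 1) : innEnd K p k (e • (1 : Matrix (Fin 2) (Fin 2) K)) = 1 := by
  rw [innEnd, twoRep_sign _ he, linEnd_one]

theorem innEnd_pow_eq_one {A : Matrix (Fin 2) (Fin 2) K} {n : ℕ} {e : K} (he : e ^ 2 = 1)
    (h : A ^ n = e • (1 : Matrix (Fin 2) (Fin 2) K)) : innEnd K p k A ^ n = 1 := by
  rw [← innEnd_pow, h, innEnd_sign he]

theorem innEnd_isUnit (A : Matrix.SpecialLinearGroup (Fin 2) K) :
    IsUnit (innEnd K p k (A : Matrix (Fin 2) (Fin 2) K)) := by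
  have h1 : innEnd K p k (1 : Matrix (Fin 2) (Fin 2) K) = 1 := by rw [innEnd, twoRep_one, linEnd_one]
  refine ⟨⟨innEnd K p k A, innEnd K p k (A⁻¹ : Matrix.SpecialLinearGroup (Fin 2) K), ?_, ?_⟩, rfl⟩
  · rw [← innEnd_mul, ← Matrix.SpecialLinearGroup.coe_mul, mul_inv_cancel, Matrix.SpecialLinearGroup.coe_one, h1]
  · rw [← innEnd_mul, ← Matrix.SpecialLinearGroup.coe_mul, inv_mul_cancel, Matrix.SpecialLinearGroup.coe_one, h1]

/-- cube of the nilpotent part -/
theorem cube_zero {R : Type*} [Ring R] {x y : R} (hxy : x * y = y * x) (hx : x * x = 0) (hy : y * y = 0) :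
    (x + y + x * y) ^ 3 = 0 := by
  have hc : Commute x y := hxy
  have hu : (x + y + x * y) ^ 2 = (x * y) + (x * y) := by
    have e1 : y * x = x * y := hxy.symm
    simp only [sq, add_mul, mul_add, ← mul_assoc, hx, zero_mul, zero_add, add_zero]
    simp only [mul_assoc, hy, mul_zero, add_zero, e1]
    simp only [← mul_assoc, hx, zero_mul, add_zero, zero_add]
  rw [pow_succ, hu]
  have h1 : x * y * x = 0 := by rw [mul_assoc, ← hxy, ← mul_assoc, hx, zero_mul]
  have h2 : x * y * y = 0 := by rw [mul_assoc, hy, mul_zero]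
  simp only [add_mul, mul_add, h1, h2, ← mul_assoc, zero_mul, add_zero]

theorem unip_cube (σ : K →+* K) {A : Matrix (Fin 2) (Fin 2) K} {e : K} (he : e ^ 2 = 1)
    (h : (A - e • 1) * (A - e • 1) = 0) : (twoRep σ A - 1) ^ 3 = 0 := by
  set Z := e • (A - e • 1) with hZ
  have hA : A = e • (1 + Z) := by
    rw [hZ, smul_add, smul_smul, ← sq, he, one_smul]
    abel
  have hZ2 : Z * Z = 0 := by rw [hZ, Matrix.smul_mul, Matrix.mul_smul, h, smul_zero, smul_zero]
  have hrep : twoRep σ A = twoRep σ (1 + Z) := by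
    rw [hA, ← smul_one_mul e (1 + Z), twoRep_mul, twoRep_sign σ he, one_mul]
  have hm : (1 + Z).map σ = 1 + Z.map σ := by
    rw [← RingHom.mapMatrix_apply, map_add, map_one]; rfl
  rw [hrep, twoRep, hm, Matrix.add_kronecker, Matrix.kronecker_add, Matrix.kronecker_add,
    Matrix.one_kronecker_one,
    show (Z ⊗ₖ Z.map σ) = (Z ⊗ₖ (1 : Matrix (Fin 2) (Fin 2) K)) * ((1 : Matrix (Fin 2) (Fin 2) K) ⊗ₖ Z.map σ) by
      rw [← Matrix.mul_kronecker_mul, mul_one, one_mul],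
    show (1 : Matrix (Fin 2 × Fin 2) (Fin 2 × Fin 2) K) + (1 ⊗ₖ Z.map σ) + (Z ⊗ₖ 1 + (Z ⊗ₖ 1) * (1 ⊗ₖ Z.map σ)) - 1 =
      Z ⊗ₖ 1 + 1 ⊗ₖ Z.map σ + (Z ⊗ₖ 1) * (1 ⊗ₖ Z.map σ) by abel]
  refine cube_zero ?_ ?_ ?_
  · rw [← Matrix.mul_kronecker_mul, ← Matrix.mul_kronecker_mul, mul_one, one_mul, mul_one, one_mul]
  · rw [← Matrix.mul_kronecker_mul, hZ2, mul_one, Matrix.zero_kronecker]
  · rw [← Matrix.mul_kronecker_mul, ← Matrix.map_mul, hZ2, mul_one, Matrix.map_zero σ (map_zero σ),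
      Matrix.kronecker_zero]

end Cases

end Cfsg.Agent.GenA.Spec
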