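import Mathlib
import Cfsg.Prelude.Def_Classical
import Cfsg.Agent.Lib.Classical.Symplectic
import Cfsg.Agent.GenA.Spec.MatTools
import Cfsg.Agent.GenA.Spec.Affine

/-!
# The spectrum of `PSp₄(q)`
-/

set_option autoImplicit false

namespace Cfsg.Agent.GenA.Spec

open Polynomial Matrix

universe u

variable {F : Type u} [Field F] [Fintype F]

local notation "Sp4" => Matrix.symplecticGroup (Fin 2) F
local notation "Mat4" => Matrix (Fin 2 ⊕ Fin 2) (Fin 2 ⊕ Fin 2) F

omit [Fintype F] in
theorem psp_pow_eq_one_of_scalar (g : Sp4) (N : ℕ) (e : F) (h : (g : Mat4) ^ N = e • (1 : Mat4)) :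
    (QuotientGroup.mk g : Cfsg.PSp 2 F) ^ N = 1 := by
  rw [← QuotientGroup.mk_pow, QuotientGroup.eq_one_iff, Classical.Symplectic.mem_center_iff]
  refine ⟨e, fun v => ?_⟩
  rw [SubmonoidClass.coe_pow, h, Matrix.smul_mulVec, one_mulVec]

omit [Fintype F] in
theorem scalar_of_psp_pow_eq_one (g : Sp4) (d : ℕ) (h : (QuotientGroup.mk g : Cfsg.PSp 2 F) ^ d = 1) :
    ∃ c : F, c ^ 2 = 1 ∧ (g : Mat4) ^ d = c • (1 : Mat4) := by
  rw [← QuotientGroup.mk_pow, QuotientGroup.eq_one_iff, Classical.Symplectic.mem_center_iff] at h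
  obtain ⟨c, hc⟩ := h
  have h1 : (g : Mat4) ^ d = c • (1 : Mat4) := by
    refine Matrix.ext fun i j => ?_
    have := congrFun (hc (Pi.single j 1)) i
    rw [Matrix.mulVec_single_one, SubmonoidClass.coe_pow] at this
    rw [Matrix.smul_apply, Matrix.one_apply]
    simpa [Pi.single_apply] using this
  refine ⟨c, ?_, h1⟩
  have h2 := SymplecticGroup.mem_iff.1 (g ^ d).2
  rw [SubmonoidClass.coe_pow, h1, Matrix.transpose_smul, Matrix.transpose_one, Matrix.smul_mul,
    one_mul, Matrix.mul_smul, mul_one, smul_smul] at h2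
  have h3 := congrFun (congrFun h2 (Sum.inl 0)) (Sum.inr 0)
  simp [Matrix.J] at h3
  rw [sq]
  exact h3

section Upper

variable {Ω : Type u} [Field Ω] [IsAlgClosed Ω] (f : F →+* Ω)

omit [Fintype F] in
theorem pow_eq_smul_descend (g : Mat4) (N : ℕ) (e : F) (h : (g.map f) ^ N = f e • (1 : Matrix _ _ Ω)) :
    g ^ N = e • (1 : Mat4) := by
  apply Matrix.map_injective f.injective
  show (g ^ N).map f = (e • (1 : Mat4)).map f
  rw [← RingHom.mapMatrix_apply, map_pow, RingHom.mapMatrix_apply, h]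
  ext i j
  by_cases hij : i = j <;> simp [hij]

omit [IsAlgClosed Ω] in
/-- four values forced into a four element set -/
theorem four_cases [DecidableEq Ω] (S : Finset Ω) (hS : S.card ≤ 4) (hinv : ∀ a ∈ S, a⁻¹ ∈ S)
    {a b : Ω} (ha : a ∈ S) (hb : b ∈ S) (ha2 : a⁻¹ ≠ a) (hb2 : b⁻¹ ≠ b) (h1 : b ≠ a) (h2 : b ≠ a⁻¹) :
    S = {a, a⁻¹, b, b⁻¹} := by
  have h3 : b⁻¹ ≠ a := fun h => h2 (by rw [← h, inv_inv])
  have h4 : b⁻¹ ≠ a⁻¹ := fun h => h1 (inv_injective h)
  symm
  refine Finset.eq_of_subset_of_card_le ?_ ?_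
  · intro x hx
    simp only [Finset.mem_insert, Finset.mem_singleton] at hx
    rcases hx with rfl | rfl | rfl | rfl
    exacts [ha, hinv _ ha, hb, hinv _ hb]
  · refine hS.trans (le_of_eq ?_)
    rw [Finset.card_insert_of_notMem, Finset.card_insert_of_notMem, Finset.card_insert_of_notMem,
      Finset.card_singleton]
    · simp [hb2.symm]
    · simp [h2.symm, h4.symm]
    · simp [ha2.symm, h1.symm, h3.symm]

omit [Fintype F] in
theorem exists_sign {a : Ω} (h : a ^ 2 = 1) : ∃ e : F, f e = a ∧ e ^ 2 = 1 := by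
  rcases sq_eq_one_iff.1 h with h | h
  · exact ⟨1, by rw [map_one, h], one_pow 2⟩
  · exact ⟨-1, by rw [map_neg, map_one, h], neg_one_sq⟩

include f in
theorem upper_core (p k : ℕ) [Fact p.Prime] [CharP F p] [CharP Ω p] (hq : Fintype.card F = p ^ k)
    (hk : 1 ≤ k) (g : Sp4) :
    ∃ N, N ∈ specSet p (Fintype.card F) ∧ ∃ e : F, (g : Mat4) ^ N = e • (1 : Mat4) := by
  classical
  set q := Fintype.card F with hqdef
  have hp : p.Prime := Fact.out
  have hq2 : 2 ≤ q := Fintype.one_lt_card
  set R := ((g : Mat4).map f).charpoly.roots with hR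
  have hcard : R.card = 4 := by
    rw [hR, ← (IsAlgClosed.splits _).natDegree_eq_card_roots, Matrix.charpoly_natDegree_eq_dim]
    rfl
  set S := R.toFinset with hS
  have hcinv : ∀ a, R.count a⁻¹ = R.count a := fun a => count_roots_inv f g a
  have hcfrob : ∀ a, R.count (a ^ q) = R.count a := fun a => count_roots_frobenius f p k hq _ a
  have hinv : ∀ a ∈ S, a⁻¹ ∈ S := fun a ha => by
    rw [hS, Multiset.mem_toFinset, ← Multiset.count_pos] at ha ⊢
    rwa [hcinv]
  have hfrob : ∀ a ∈ S, a ^ q ∈ S := fun a ha => by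
    rw [hS, Multiset.mem_toFinset, ← Multiset.count_pos] at ha ⊢
    rwa [hcfrob]
  have hne : ∀ a ∈ S, a ≠ 0 := by
    intro a ha h0
    rw [hS, Multiset.mem_toFinset, hR, mem_roots (Matrix.charpoly_monic _).ne_zero, h0, IsRoot,
      Matrix.eval_charpoly, map_zero, zero_sub, det_neg, mul_eq_zero] at ha
    rcases ha with h | h
    · exact pow_ne_zero _ (neg_ne_zero.2 one_ne_zero) h
    · rw [← RingHom.mapMatrix_apply, ← RingHom.map_det] at h
      exact (SymplecticGroup.symplectic_det g.2).ne_zero ((map_eq_zero f).1 h)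
  have hfinj : ∀ x y : Ω, x ^ q = y ^ q → x = y := fun x y h => by
    rw [hq] at h
    exact iterateFrobenius_inj Ω p k (by rwa [iterateFrobenius_def, iterateFrobenius_def])
  have hpm : ∀ a : Ω, a ≠ 0 → (a ^ q = a → a ^ (q - 1) = 1) ∧ (a ^ q = a⁻¹ → a ^ (q + 1) = 1) :=
    fun a ha => ⟨fun h => mul_right_cancel₀ ha (by
        rw [← pow_succ, Nat.sub_add_cancel (by omega : 1 ≤ q), h, one_mul]),
      fun h => by rw [pow_succ, h, inv_mul_cancel₀ ha]⟩
  have hunit : ∀ a : Ω, a ^ 2 = 1 → a ^ (q + 1) = 1 ∧ a ^ (q - 1) = 1 := by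
    intro a ha
    rcases Nat.Prime.eq_two_or_odd' hp with rfl | hodd
    · have : a = 1 := by
        rcases sq_eq_one_iff.1 ha with h | h
        · exact h
        · rw [h, CharTwo.neg_eq]
      simp [this]
    · have hqo : Odd q := hq ▸ hodd.pow
      obtain ⟨m, hm⟩ := hqo
      rw [hm, show 2 * m + 1 + 1 = 2 * (m + 1) by omega, show 2 * m + 1 - 1 = 2 * m by omega,
        pow_mul, pow_mul, ha, one_pow, one_pow]
      exact ⟨rfl, rfl⟩
  have hfin : ∀ (n e : ℕ) (ε : F), 0 < n → ε ^ 2 = 1 →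
      (∀ a ∈ S, a ^ n = f ε ∧ R.count a ≤ p ^ e) →
      ∃ e' : F, (g : Mat4) ^ (n * p ^ e) = e' • (1 : Mat4) := by
    intro n e ε hn hε h
    refine ⟨ε ^ p ^ e, pow_eq_smul_descend f _ _ _ ?_⟩
    rw [map_pow]
    exact pow_eq_smul_of_roots p _ n e _ hn fun a ha => h a (Multiset.mem_toFinset.2 ha)
  by_cases hnd : ∀ a ∈ S, R.count a ≤ 1
  · -- four distinct eigenvalues
    have hScard : S.card ≤ 4 := hcard ▸ Multiset.toFinset_card_le R
    by_cases hA : ∀ a ∈ S, a ^ q = a ∨ a ^ q = a⁻¹
    · set n := (q ^ 2 - 1) / Nat.gcd 2 (q - 1) with hn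
      have hmul : (q - 1) ∣ n ∧ (q + 1) ∣ n ∧ 0 < n := by
        rw [hn, show q ^ 2 - 1 = (q + 1) * (q - 1) by rw [← Nat.sq_sub_sq, one_pow]]
        rcases Nat.Prime.eq_two_or_odd' hp with rfl | hodd
        · have : Nat.gcd 2 (q - 1) = 1 := Nat.Coprime.gcd_eq_one (Nat.coprime_two_left.2 (by
            rw [hq]; obtain ⟨j, rfl⟩ : ∃ j, k = j + 1 := ⟨k - 1, by omega⟩
            exact Nat.Even.sub_odd (Nat.one_le_two_pow) ⟨2 ^ j, by rw [pow_succ]; omega⟩ odd_one))
          rw [this, Nat.div_one]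
          exact ⟨dvd_mul_left _ _, dvd_mul_right _ _, Nat.mul_pos (by omega) (by omega)⟩
        · have hqo : Odd q := hq ▸ hodd.pow
          obtain ⟨m, hm⟩ := hqo
          rw [hm, show 2 * m + 1 - 1 = 2 * m by omega, Nat.gcd_mul_right_right,
            show (2 * m + 1 + 1) * (2 * m) / 2 = (2 * m + 2) * m by
              rw [show (2 * m + 1 + 1) * (2 * m) = ((2 * m + 2) * m) * 2 by ring, Nat.mul_div_cancel _ two_pos]]
          exact ⟨⟨m + 1, by ring⟩, ⟨m, by ring⟩, Nat.mul_pos (by omega) (by omega)⟩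
      refine ⟨n, Or.inr (Or.inl dvd_rfl), ?_⟩
      obtain ⟨⟨c1, h1⟩, ⟨c2, h2⟩, hn0⟩ := hmul
      have := hfin n 0 1 hn0 (one_pow 2) fun a ha => ⟨?_, by simpa using hnd a ha⟩
      · simpa using this
      rw [map_one]
      rcases hA a ha with h | h
      · rw [h1, pow_mul, (hpm a (hne a ha)).1 h, one_pow]
      · rw [h2, pow_mul, (hpm a (hne a ha)).2 h, one_pow]
    · push Not at hA
      obtain ⟨a, ha, hq1, hq2'⟩ := hA
      have ha0 := hne a ha
      have hai : a⁻¹ ≠ a := by
        intro h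
        have h2 : a ^ 2 = 1 := by rw [sq]; nth_rw 1 [← h]; exact inv_mul_cancel₀ ha0
        refine hq1 ?_
        conv_rhs => rw [← one_mul a, ← (hunit a h2).2]
        rw [← pow_succ, Nat.sub_add_cancel (by omega : 1 ≤ q)]
      have hbi : (a ^ q)⁻¹ ≠ a ^ q := fun h => hai (hfinj _ _ (by rw [inv_pow]; exact h))
      have hT := four_cases S hScard hinv ha (hfrob a ha) hai hbi hq1 hq2'
      have hb : (a ^ q) ^ q = a ∨ (a ^ q) ^ q = a⁻¹ := by
        have h := hfrob _ (hfrob a ha)
        rw [hT] at h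
        simp only [Finset.mem_insert, Finset.mem_singleton] at h
        rcases h with h | h | h | h
        · exact Or.inl h
        · exact Or.inr h
        · exact absurd (hfinj _ _ h) hq1
        · exact absurd (hfinj _ _ (by rw [inv_pow]; exact h)) hq2'
      obtain ⟨δ, hδ, hN⟩ : ∃ δ, (δ / Nat.gcd 2 (q - 1) ∈ specSet p q) ∧ a ^ δ = 1 ∧ (0 < δ ∧ Nat.gcd 2 (q - 1) ∣ δ) := by
        have hg2 : Nat.gcd 2 (q - 1) ∣ q ^ 2 - 1 :=
          (Nat.gcd_dvd_right _ _).trans (by
            rw [show q ^ 2 - 1 = (q + 1) * (q - 1) by rw [← Nat.sq_sub_sq, one_pow]]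
            exact dvd_mul_left _ _)
        have hq4 : 2 ≤ q ^ 2 - 1 := by
          have : 4 ≤ q ^ 2 := by nlinarith
          omega
        rcases hb with h | h
        · refine ⟨q ^ 2 - 1, Or.inr (Or.inl dvd_rfl), ?_, by omega, hg2⟩
          rw [← pow_mul, ← sq] at h
          refine mul_right_cancel₀ ha0 ?_
          rw [← pow_succ, Nat.sub_add_cancel (by nlinarith : 1 ≤ q ^ 2), h, one_mul]
        · refine ⟨q ^ 2 + 1, Or.inl dvd_rfl, ?_, by omega, ?_⟩
          · rw [← pow_mul, ← sq] at h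
            rw [pow_succ, h, inv_mul_cancel₀ ha0]
          · rw [show q ^ 2 + 1 = q ^ 2 - 1 + 2 by omega]
            exact Nat.dvd_add hg2 (Nat.gcd_dvd_left _ _)
      obtain ⟨hδ1, hδ0, hgd⟩ := hN
      set n := δ / Nat.gcd 2 (q - 1) with hn
      have hsq : (a ^ n) ^ 2 = 1 := by
        obtain ⟨c, hc⟩ := Nat.gcd_dvd_left 2 (q - 1)
        rw [← pow_mul]
        calc a ^ (n * 2) = a ^ (n * (Nat.gcd 2 (q - 1) * c)) := by rw [← hc]
          _ = 1 := by rw [← mul_assoc, hn, Nat.div_mul_cancel hgd, pow_mul, hδ1, one_pow]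
      obtain ⟨ε, hε, hε2⟩ := exists_sign f hsq
      have hn0 : 0 < n := Nat.div_pos (Nat.le_of_dvd hδ0 hgd) (Nat.gcd_pos_of_pos_left _ two_pos)
      refine ⟨n, hδ, ?_⟩
      have := hfin n 0 ε hn0 hε2 fun x hx => ⟨?_, by simpa using hnd x hx⟩
      · simpa using this
      have hεi : (f ε)⁻¹ = f ε := by
        refine inv_eq_of_mul_eq_one_right ?_
        rw [← sq, ← map_pow, hε2, map_one]
      rw [hT] at hx
      simp only [Finset.mem_insert, Finset.mem_singleton] at hx
      rcases hx with rfl | rfl | rfl | rfl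
      · exact hε.symm
      · rw [inv_pow, ← hε, hεi]
      · rw [← pow_mul, mul_comm, pow_mul, ← hε, ← map_pow, FiniteField.pow_card]
      · rw [inv_pow, ← pow_mul, mul_comm, pow_mul, ← hε, ← map_pow, FiniteField.pow_card, hεi]
  · -- a repeated eigenvalue
    push Not at hnd
    obtain ⟨a₀, ha₀, ha₀2⟩ := hnd
    have hsum : ∑ x ∈ S, R.count x = 4 := by
      rw [hS, Multiset.toFinset_sum_count_eq, hcard]
    have hS3 : S.card ≤ 3 := by
      have h1 : S.card + 1 ≤ ∑ x ∈ S, R.count x := by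
        rw [← Finset.add_sum_erase _ _ ha₀, ← Finset.card_erase_add_one ha₀]
        have : (S.erase a₀).card ≤ ∑ x ∈ S.erase a₀, R.count x := by
          rw [Finset.card_eq_sum_ones]
          exact Finset.sum_le_sum fun x hx => Multiset.count_pos.2
            (Multiset.mem_toFinset.1 (Finset.mem_of_mem_erase hx))
        omega
      omega
    have hclass : ∀ a ∈ S, ∀ b ∈ S, a⁻¹ ≠ a → b⁻¹ ≠ b → b = a ∨ b = a⁻¹ := by
      intro a ha b hb ha2 hb2
      by_contra h
      push Not at h
      have hT := four_cases S (hS3.trans (by omega)) hinv ha hb ha2 hb2 h.1 h.2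
      have : S.card = 4 := by
        rw [hT, Finset.card_insert_of_notMem, Finset.card_insert_of_notMem, Finset.card_insert_of_notMem,
          Finset.card_singleton]
        · simp [hb2.symm]
        · have h4 : b⁻¹ ≠ a⁻¹ := fun e => h.1 (inv_injective e)
          simp [h.2.symm, h4.symm]
        · have h3 : b⁻¹ ≠ a := fun e => h.2 (by rw [← e, inv_inv])
          simp [ha2.symm, h.1.symm, h3.symm]
      omega
    have hsq : ∀ a ∈ S, a⁻¹ = a → a ^ 2 = 1 := fun a ha h => by
      rw [sq]; nth_rw 1 [← h]; exact inv_mul_cancel₀ (hne a ha)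
    by_cases hbig : ∃ a ∈ S, p < R.count a
    · -- a single eigenvalue ±1
      obtain ⟨a, ha, hab⟩ := hbig
      have h4 : R.count a ≤ 4 := hcard ▸ Multiset.count_le_card a R
      have hp3 : p ≤ 3 := by omega
      have hp2 := hp.two_le
      have hai : a⁻¹ = a := by
        by_contra h
        have : R.count a + R.count a⁻¹ ≤ ∑ x ∈ S, R.count x := by
          rw [← Finset.sum_pair (f := fun x => R.count x) (Ne.symm h)]
          refine Finset.sum_le_sum_of_subset fun x hx => ?_
          rcases Finset.mem_insert.1 hx with rfl | hx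
          · exact ha
          · rw [Finset.mem_singleton] at hx; exact hx ▸ hinv a ha
        rw [hcinv] at this
        omega
      have hS1 : ∀ x ∈ S, x = a := by
        intro x hx
        by_contra hxa
        have hle : R.count a + R.count x ≤ 4 := by
          rw [← hsum, ← Finset.sum_pair (f := fun x => R.count x) (Ne.symm hxa)]
          exact Finset.sum_le_sum_of_subset (fun y hy => by
            rcases Finset.mem_insert.1 hy with rfl | hy
            · exact ha
            · exact (Finset.mem_singleton.1 hy) ▸ hx)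
        have hx1 : 1 ≤ R.count x := Multiset.count_pos.2 (Multiset.mem_toFinset.1 hx)
        have hxi : x⁻¹ = x := by
          by_contra h
          have hne' : x⁻¹ ≠ a := fun e => hxa (by rw [← inv_inv x, e, hai])
          have : R.count a + (R.count x + R.count x⁻¹) ≤ ∑ y ∈ S, R.count y := by
            rw [← Finset.sum_pair (f := fun y => R.count y) (Ne.symm h),
              ← Finset.sum_insert (f := fun y => R.count y) (by simp [Ne.symm hxa, Ne.symm hne'])]
            refine Finset.sum_le_sum_of_subset fun y hy => ?_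
            simp only [Finset.mem_insert, Finset.mem_singleton] at hy
            rcases hy with rfl | rfl | rfl
            exacts [ha, hx, hinv x hx]
          rw [hcinv] at this
          omega
        -- characteristic two has only one sign
        have hp2' : p = 2 := by omega
        subst hp2'
        have h1 : ∀ y : Ω, y ^ 2 = 1 → y = 1 := fun y hy => by
          rcases sq_eq_one_iff.1 hy with h | h
          · exact h
          · rw [h, CharTwo.neg_eq]
        exact hxa ((h1 x (hsq x hx hxi)).trans (h1 a (hsq a ha hai)).symm)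
      obtain ⟨ε, hε, hε2⟩ := exists_sign f (hsq a ha hai)
      refine ⟨1 * p ^ 2, Or.inr (Or.inr (Or.inr (Or.inr ⟨hp3, by rw [one_mul, sq]⟩))), ?_⟩
      refine hfin 1 2 ε one_pos hε2 fun x hx => ⟨by rw [pow_one, hS1 x hx, hε], ?_⟩
      rw [hS1 x hx]
      exact h4.trans (by nlinarith)
    · push Not at hbig
      obtain ⟨δ, hδ, hδ0, hall⟩ : ∃ δ, δ * p ∈ specSet p q ∧ 0 < δ ∧ ∀ a ∈ S, a ^ δ = 1 := by
        by_cases hb : ∃ b ∈ S, b⁻¹ ≠ b
        · obtain ⟨b, hb, hb2⟩ := hb
          have hbq : (b ^ q)⁻¹ ≠ b ^ q := fun h => hb2 (hfinj _ _ (by rw [inv_pow]; exact h))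
          rcases hclass b hb _ (hfrob b hb) hb2 hbq with h | h
          · refine ⟨q - 1, Or.inr (Or.inr (Or.inr (Or.inl (by rw [mul_comm])))), by omega, fun a ha => ?_⟩
            by_cases ha2 : a⁻¹ = a
            · exact (hunit a (hsq a ha ha2)).2
            · rcases hclass b hb a ha hb2 ha2 with rfl | rfl
              · exact (hpm a (hne a ha)).1 h
              · rw [inv_pow, (hpm b (hne b hb)).1 h, inv_one]
          · refine ⟨q + 1, Or.inr (Or.inr (Or.inl (by rw [mul_comm]))), by omega, fun a ha => ?_⟩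
            by_cases ha2 : a⁻¹ = a
            · exact (hunit a (hsq a ha ha2)).1
            · rcases hclass b hb a ha hb2 ha2 with rfl | rfl
              · exact (hpm a (hne a ha)).2 h
              · rw [inv_pow, (hpm b (hne b hb)).2 h, inv_one]
        · push Not at hb
          exact ⟨q + 1, Or.inr (Or.inr (Or.inl (by rw [mul_comm]))), by omega,
            fun a ha => (hunit a (hsq a ha (hb a ha))).1⟩
      refine ⟨δ * p ^ 1, by rwa [pow_one], hfin δ 1 1 hδ0 (one_pow 2) fun a ha => ⟨?_, ?_⟩⟩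
      · rw [map_one]; exact hall a ha
      · rw [pow_one]; exact hbig a ha

end Upper

theorem psp_four_orders_subset (p k : ℕ) [Fact p.Prime] [CharP F p] (hq : Fintype.card F = p ^ k)
    (hk : 1 ≤ k) (x : Cfsg.PSp 2 F) : orderOf x ∈ specSet p (Fintype.card F) := by
  obtain ⟨g, rfl⟩ := QuotientGroup.mk_surjective x
  have : CharP (AlgebraicClosure F) p :=
    charP_of_injective_algebraMap (algebraMap F (AlgebraicClosure F)).injective p
  obtain ⟨N, hN, e, he⟩ := upper_core (algebraMap F (AlgebraicClosure F)) p k hq hk g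
  exact specSet_of_dvd hN (orderOf_dvd_of_pow_eq_one (psp_pow_eq_one_of_scalar g N e he))

end Cfsg.Agent.GenA.Spec
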