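import Mathlib
import Cfsg.Agent.GenA.Spec.HermGroups
import Cfsg.Agent.GenA.Spec.PSpFour

/-!
# Orders of the inner elements
-/

set_option autoImplicit false

namespace Cfsg.Agent.GenA.Spec

open Matrix Finset
open scoped Kronecker

variable {K : Type} [Field K] [Fintype K] {p k : ℕ} [Fact p.Prime] [CharP K p]

theorem linEnd_sum {ι : Type} [Fintype ι] [DecidableEq ι] (M : Matrix ι ι K) (n : ℕ) :
    linEnd (∑ i ∈ range n, M ^ i) = ∑ i ∈ range n, linEnd M ^ i := by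
  induction n with
  | zero => simp only [range_zero, sum_empty]; exact DFunLike.ext _ _ fun v => Matrix.zero_mulVec v
  | succ n ih =>
    rw [sum_range_succ, sum_range_succ, ← ih, ← linEnd_pow]
    exact DFunLike.ext _ _ fun v => Matrix.add_mulVec _ _ v

theorem geom_zero {ι : Type} [Fintype ι] [DecidableEq ι] [Nonempty ι] (M : Matrix ι ι K) (h : (M - 1) ^ 3 = 0)
    (h5 : 4 ≤ p) : ∑ i ∈ range p, linEnd M ^ i = 0 := by
  rw [← linEnd_sum, geom_sum_eq_pow p M]
  obtain ⟨m, hm⟩ : ∃ m, p - 1 = 3 + m := ⟨p - 4, by omega⟩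
  rw [hm, pow_add, h, zero_mul]
  exact DFunLike.ext _ _ fun v => Matrix.zero_mulVec v

omit [Fintype K] in
theorem add_one_dvd_or : ∀ d : ℕ, d ∣ p → d ∈ specSet p (p ^ k) := fun _ hd =>
  Or.inr (Or.inr (Or.inl (hd.trans (dvd_mul_right _ _))))

theorem inner_upper (hK : Fintype.card K = p ^ (2 * k)) (hp3 : p ≠ 3)
    (A : Matrix.SpecialLinearGroup (Fin 2) K) :
    orderOf (innEnd K p k (A : Matrix (Fin 2) (Fin 2) K)) ∈ specSet p (p ^ k) ∧
      (∑ i ∈ range (orderOf (innEnd K p k (A : Matrix (Fin 2) (Fin 2) K))),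
        innEnd K p k (A : Matrix (Fin 2) (Fin 2) K) ^ i ≠ 0 →
        p * orderOf (innEnd K p k (A : Matrix (Fin 2) (Fin 2) K)) ∈ specSet p (p ^ k)) := by
  have hp : p.Prime := Fact.out
  have hp2 := hp.two_le
  set U := innEnd K p k (A : Matrix (Fin 2) (Fin 2) K) with hU
  have : CharP (AlgebraicClosure K) p :=
    charP_of_injective_algebraMap (algebraMap K (AlgebraicClosure K)).injective p
  rcases sl_two_cases (algebraMap K (AlgebraicClosure K)) p (2 * k) hK A with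
    ⟨e, he, hA⟩ | ⟨l, P, hl, hl2, hlQ, hP, hAP⟩
  · obtain ⟨e', he', hAp⟩ := unipotent_pow (p := p) he hA
    have ho : orderOf U ∣ p := orderOf_dvd_of_pow_eq_one (innEnd_pow_eq_one he' hAp)
    refine ⟨add_one_dvd_or _ ho, fun hs => ?_⟩
    rcases (Nat.dvd_prime hp).1 ho with h1 | h1
    · rw [h1, mul_one]
      exact add_one_dvd_or _ dvd_rfl
    · by_cases h4 : p = 2
      · exact Or.inr (Or.inr (Or.inr (Or.inr ⟨by omega, by rw [h1]⟩)))
      · exfalso
        apply hs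
        rw [h1]
        exact geom_zero _ (unip_cube _ he hA) (by
          have : p ≠ 4 := fun h => by rw [h] at hp; exact absurd hp (by decide)
          omega)
  · obtain ⟨n, hn, e, he, hAn⟩ := semisimple_pow (algebraMap K (AlgebraicClosure K)) hK hl hlQ hP hAP
    refine ⟨specSet_of_dvd hn (orderOf_dvd_of_pow_eq_one (innEnd_pow_eq_one he hAn)), fun hs => ?_⟩
    obtain ⟨v, hv, hfix⟩ := exists_fixed_of_sum hs
    have hq : 1 ≤ p ^ k := Nat.one_le_pow _ _ hp.pos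
    rcases fixed_weight (algebraMap K (AlgebraicClosure K)) p k hl hP hAP hv hfix with h | h
    · have h1 : l ^ (p ^ k + 1) = algebraMap K (AlgebraicClosure K) 1 := by
        rw [map_one, pow_succ', h]
      exact Or.inr (Or.inr (Or.inl (mul_dvd_mul_left _ (orderOf_dvd_of_pow_eq_one
        (innEnd_pow_eq_one (one_pow 2) (pow_scalar_of_eigen _ hP hAP (one_pow 2) h1))))))
    · have h1 : l ^ (p ^ k - 1) = algebraMap K (AlgebraicClosure K) 1 := by
        refine mul_right_cancel₀ hl ?_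
        rw [map_one, one_mul, ← pow_succ, Nat.sub_add_cancel hq, h]
      exact Or.inr (Or.inr (Or.inr (Or.inl (mul_dvd_mul_left _ (orderOf_dvd_of_pow_eq_one
        (innEnd_pow_eq_one (one_pow 2) (pow_scalar_of_eigen _ hP hAP (one_pow 2) h1)))))))

theorem inner_torus (hK : Fintype.card K = p ^ (2 * k)) (hk : 1 ≤ k) (δ : ℕ)
    (hδ : δ = (p ^ k) ^ 2 + 1 ∨ δ = (p ^ k) ^ 2 - 1) :
    ∃ A : Matrix.SpecialLinearGroup (Fin 2) K,
      δ / Nat.gcd 2 (p ^ k - 1) ∣ orderOf (innEnd K p k (A : Matrix (Fin 2) (Fin 2) K)) := by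
  set q := p ^ k with hq
  have hQ : Fintype.card K = q ^ 2 := by rw [hK, hq, ← pow_mul, mul_comm]
  have hQ2 : 2 ≤ q ^ 2 := hQ ▸ Fintype.one_lt_card
  set Ω := AlgebraicClosure K
  have : CharP Ω p := charP_of_injective_algebraMap (algebraMap K Ω).injective p
  have hQ0 : ((q ^ 2 : ℕ) : Ω) = 0 := by
    rw [CharP.cast_eq_zero_iff Ω p, hq, ← pow_mul]
    exact dvd_pow_self p (by omega)
  have hδ0 : (δ : Ω) ≠ 0 := by
    rcases hδ with h | h <;> rw [h]
    · rw [Nat.cast_add, hQ0, zero_add, Nat.cast_one]; exact one_ne_zero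
    · rw [Nat.cast_sub (by omega), hQ0, zero_sub, Nat.cast_one]; exact neg_ne_zero.2 one_ne_zero
  obtain ⟨l, hl⟩ := exists_prim (Ω := Ω) δ hδ0
  have hl0 : l ≠ 0 := hl.ne_zero (fun h => hδ0 (by rw [h, Nat.cast_zero]))
  have hll : l ^ Fintype.card K = l ∨ l ^ Fintype.card K = l⁻¹ := by
    rcases hδ with h | h
    · right
      refine eq_inv_of_mul_eq_one_left ?_
      rw [← pow_succ, hQ, ← h, hl.pow_eq_one]
    · left
      rw [hQ, show q ^ 2 = δ + 1 by omega, pow_succ, hl.pow_eq_one, one_mul]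
  obtain ⟨A, w, hw0, hw⟩ := exists_companion (algebraMap K Ω) p (2 * k) hK hl0 hll
  refine ⟨A, ?_⟩
  set d := orderOf (innEnd K p k (A : Matrix (Fin 2) (Fin 2) K)) with hd
  have h1 : innEnd K p k ((A : Matrix (Fin 2) (Fin 2) K) ^ d) = 1 := by
    rw [innEnd_pow, hd, pow_orderOf_eq_one]
  have h2 : twoRep (iterateFrobenius K p k) ((A : Matrix (Fin 2) (Fin 2) K) ^ d) = 1 :=
    linEnd_injective (h1.trans linEnd_one.symm)
  obtain ⟨e, he, hAd⟩ := twoRep_eq_one _ (by rw [Matrix.det_pow, A.2, one_pow]) h2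
  have hld := eigen_of_pow_eq_smul (algebraMap K Ω) hw0 hw hAd
  have heg : e ^ Nat.gcd 2 (q - 1) = 1 := by
    rw [← orderOf_dvd_iff_pow_eq_one]
    refine Nat.dvd_gcd (orderOf_dvd_of_pow_eq_one he) ?_
    rcases Nat.Prime.eq_two_or_odd' (Fact.out : p.Prime) with h | h
    · subst h
      have : CharP K 2 := inferInstance
      have : e = 1 := by
        rcases sq_eq_one_iff.1 he with h | h
        · exact h
        · rw [h, CharTwo.neg_eq]
      rw [this, orderOf_one]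
      exact one_dvd _
    · obtain ⟨m, hm⟩ : Odd q := hq ▸ h.pow
      exact (orderOf_dvd_of_pow_eq_one he).trans ⟨m, by omega⟩
  have hdvd : δ ∣ d * Nat.gcd 2 (q - 1) :=
    hl.dvd_of_pow_eq_one _ (by rw [pow_mul, hld, ← map_pow, heg, map_one])
  have hg2 : Nat.gcd 2 (q - 1) ∣ δ := by
    have hg : Nat.gcd 2 (q - 1) ∣ q ^ 2 - 1 := by
      rw [show q ^ 2 - 1 = (q + 1) * (q - 1) by rw [← Nat.sq_sub_sq, one_pow]]
      exact (Nat.gcd_dvd_right _ _).trans (dvd_mul_left _ _)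
    rcases hδ with h | h <;> rw [h]
    · rw [show q ^ 2 + 1 = q ^ 2 - 1 + 2 by omega]
      exact Nat.dvd_add hg (Nat.gcd_dvd_left _ _)
    · exact hg
  exact (Nat.div_dvd_iff_dvd_mul hg2 (Nat.gcd_pos_of_pos_left _ two_pos)).2 (by rwa [mul_comm] at hdvd)

theorem sign_elim (hK : Fintype.card K = p ^ (2 * k)) (hk : 1 ≤ k) {d : ℕ}
    (hd : d ∣ ((p ^ k) ^ 2 + 1) / Nat.gcd 2 (p ^ k - 1) ∨ d ∣ ((p ^ k) ^ 2 - 1) / Nat.gcd 2 (p ^ k - 1)) :
    ∃ A : Matrix.SpecialLinearGroup (Fin 2) K, d ∣ orderOf (innEnd K p k (A : Matrix (Fin 2) (Fin 2) K)) := by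
  rcases hd with h | h
  · obtain ⟨A, hA⟩ := inner_torus (K := K) hK hk _ (Or.inl rfl)
    exact ⟨A, h.trans hA⟩
  · obtain ⟨A, hA⟩ := inner_torus (K := K) hK hk _ (Or.inr rfl)
    exact ⟨A, h.trans hA⟩

end Cfsg.Agent.GenA.Spec
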