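import Mathlib
import Cfsg.Agent.GenA.Spec.HermInner

/-!
# Even `q`
-/

set_option autoImplicit false

namespace Cfsg.Agent.GenA.Spec

open Matrix Finset
open scoped Kronecker

variable {K : Type} [Field K] [Fintype K] {k : ℕ} [CharP K 2]

theorem exists_large_even (hK : Fintype.card K = 2 ^ (2 * k)) (hk : 1 ≤ k) (N : ℕ) :
    ∃ (H : Type) (_ : Group H) (_ : Fintype H), N < Fintype.card H ∧
      Set.range (orderOf : H → ℕ) = specSet 2 (2 ^ k) := by
  have : Fact (Nat.Prime 2) := ⟨Nat.prime_two⟩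
  let T : Submonoid (AddMonoid.End (Fin 2 × Fin 2 → K)) :=
    { carrier := {x | ∃ A : Matrix.SpecialLinearGroup (Fin 2) K, x = innEnd K 2 k (A : Matrix (Fin 2) (Fin 2) K)}
      one_mem' := ⟨1, by rw [Matrix.SpecialLinearGroup.coe_one, innEnd, twoRep_one, linEnd_one]⟩
      mul_mem' := by
        rintro _ _ ⟨A, rfl⟩ ⟨B, rfl⟩
        exact ⟨A * B, by rw [Matrix.SpecialLinearGroup.coe_mul, innEnd_mul]⟩ }
  refine exists_large_end Nat.prime_two pi_exp T ?_ _ ?_ ?_ ?_ N
  · rintro _ ⟨A, rfl⟩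
    exact innEnd_isUnit A
  · rintro _ ⟨A, rfl⟩
    exact (inner_upper hK (by decide) A).1
  · rintro _ ⟨A, rfl⟩
    exact (inner_upper hK (by decide) A).2
  set q := 2 ^ k with hq
  have hq2 : 2 ≤ q := hq ▸ Nat.le_self_pow (by omega) 2
  have hqe : Even q := hq ▸ Nat.even_pow.2 ⟨even_two, by omega⟩
  have hQ : Fintype.card K = q ^ 2 := by rw [hK, hq, ← pow_mul, mul_comm]
  have hblock : ∀ δ, (δ = q + 1 ∨ δ = q - 1) → ∃ A : Matrix.SpecialLinearGroup (Fin 2) K,
      2 * δ ∣ 2 * orderOf (innEnd K 2 k (A : Matrix (Fin 2) (Fin 2) K)) ∧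
      ∑ i ∈ range (orderOf (innEnd K 2 k (A : Matrix (Fin 2) (Fin 2) K))),
        innEnd K 2 k (A : Matrix (Fin 2) (Fin 2) K) ^ i ≠ 0 := by
    intro δ hδ
    have hδQ : δ ∣ Fintype.card K - 1 := by
      rw [hQ, show q ^ 2 - 1 = (q + 1) * (q - 1) by rw [← Nat.sq_sub_sq, one_pow]]
      rcases hδ with rfl | rfl
      exacts [dvd_mul_right _ _, dvd_mul_left _ _]
    obtain ⟨a, ha⟩ : ∃ a : Kˣ, orderOf a = δ := by
      obtain ⟨g, hg⟩ := IsCyclic.exists_ofOrder_eq_natCard (α := Kˣ)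
      rw [Nat.card_units, Nat.card_eq_fintype_card] at hg
      have := Fintype.one_lt_card (α := K)
      refine ⟨g ^ ((Fintype.card K - 1) / δ), ?_⟩
      rw [← hg]
      exact orderOf_pow_orderOf_div (by rw [hg]; omega) (hg ▸ hδQ)
    let A : Matrix.SpecialLinearGroup (Fin 2) K :=
      ⟨Matrix.diagonal ![(a : K), (a : K)⁻¹], by simp [Matrix.det_diagonal]⟩
    refine ⟨A, ?_, ?_⟩
    · refine mul_dvd_mul_left 2 ?_
      set d := orderOf (innEnd K 2 k (A : Matrix (Fin 2) (Fin 2) K)) with hd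
      have h1 : innEnd K 2 k ((A : Matrix (Fin 2) (Fin 2) K) ^ d) = 1 := by
        rw [innEnd_pow, hd, pow_orderOf_eq_one]
      obtain ⟨e, he, hAd⟩ := twoRep_eq_one _ (by rw [Matrix.det_pow, A.2, one_pow])
        (linEnd_injective (h1.trans linEnd_one.symm))
      have he1 : e = 1 := by
        rcases sq_eq_one_iff.1 he with h | h
        · exact h
        · rw [h, CharTwo.neg_eq]
      rw [show (A : Matrix (Fin 2) (Fin 2) K) = Matrix.diagonal ![(a : K), (a : K)⁻¹] from rfl,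
        Matrix.diagonal_pow, he1, one_smul] at hAd
      have h00 := congrFun (congrFun hAd 0) 0
      simp at h00
      rw [← ha, orderOf_dvd_iff_pow_eq_one]
      exact Units.ext (by simpa using h00)
    · have hap : (a : K) ^ δ = 1 := by rw [← Units.val_pow_eq_pow_val, ← ha, pow_orderOf_eq_one, Units.val_one]
      have hodd : ¬ 2 ∣ orderOf (innEnd K 2 k (A : Matrix (Fin 2) (Fin 2) K)) := by
        intro h
        have h2 : orderOf (innEnd K 2 k (A : Matrix (Fin 2) (Fin 2) K)) ∣ δ :=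
          orderOf_dvd_of_pow_eq_one (innEnd_pow_eq_one (one_pow 2) (by
            rw [show (A : Matrix (Fin 2) (Fin 2) K) = Matrix.diagonal ![(a : K), (a : K)⁻¹] from rfl,
              Matrix.diagonal_pow]
            ext i j
            fin_cases i <;> fin_cases j <;> simp [hap, inv_pow]))
        have : 2 ∣ δ := h.trans h2
        obtain ⟨m, hm⟩ := hqe
        rcases hδ with rfl | rfl <;> omega
      let j : Fin 2 := if δ = q + 1 then 0 else 1
      refine sum_ne_zero_of_fixed Nat.prime_two pi_exp hodd (v := Pi.single ((0 : Fin 2), j) (1 : K))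
        (fun h => one_ne_zero (α := K) (by simpa using congrFun h ((0 : Fin 2), j))) ?_
      rw [innEnd, linEnd_apply, twoRep,
        show (A : Matrix (Fin 2) (Fin 2) K) = Matrix.diagonal ![(a : K), (a : K)⁻¹] from rfl,
        Matrix.diagonal_map (map_zero _), Matrix.diagonal_kronecker_diagonal, Matrix.diagonal_mulVec_single,
        mul_one]
      congr 1
      simp only [Matrix.cons_val_zero, iterateFrobenius_def, ← hq, j, Function.comp]
      rcases hδ with h | h
      · rw [if_pos h, Matrix.cons_val_zero, ← pow_succ', ← h, hap]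
      · rw [if_neg (by omega), Matrix.cons_val_one, Matrix.cons_val_fin_one, inv_pow,
          show q = δ + 1 by omega, pow_succ, hap, one_mul, mul_inv_cancel₀ (Units.ne_zero a)]
  rintro d (h | h | h | h | ⟨-, h⟩)
  · obtain ⟨A, hA⟩ := sign_elim (K := K) hK hk (Or.inl h)
    exact ⟨_, ⟨A, rfl⟩, Or.inl hA⟩
  · obtain ⟨A, hA⟩ := sign_elim (K := K) hK hk (Or.inr h)
    exact ⟨_, ⟨A, rfl⟩, Or.inl hA⟩
  · obtain ⟨A, hA, hs⟩ := hblock (q + 1) (Or.inl rfl)
    exact ⟨_, ⟨A, rfl⟩, Or.inr ⟨h.trans hA, hs⟩⟩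
  · obtain ⟨A, hA, hs⟩ := hblock (q - 1) (Or.inr rfl)
    exact ⟨_, ⟨A, rfl⟩, Or.inr ⟨h.trans hA, hs⟩⟩
  · let A : Matrix.SpecialLinearGroup (Fin 2) K := ⟨!![1, 1; 0, 1], by simp [Matrix.det_fin_two]⟩
    have hA2 : (A : Matrix (Fin 2) (Fin 2) K) ^ 2 = (1 : K) • (1 : Matrix (Fin 2) (Fin 2) K) := by
      rw [show (A : Matrix (Fin 2) (Fin 2) K) = !![1, 1; 0, 1] from rfl, sq, one_smul]
      ext i j
      fin_cases i <;> fin_cases j <;> simp [Matrix.mul_apply, Fin.sum_univ_two, CharTwo.add_self_eq_zero]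
    have hne : innEnd K 2 k (A : Matrix (Fin 2) (Fin 2) K) ≠ 1 := by
      intro h1
      obtain ⟨e, he, hA⟩ := twoRep_eq_one _ A.2 (linEnd_injective (h1.trans linEnd_one.symm))
      have h01 := congrFun (congrFun hA 0) 1
      rw [show (A : Matrix (Fin 2) (Fin 2) K) = !![1, 1; 0, 1] from rfl] at h01
      simp at h01
    have ho : orderOf (innEnd K 2 k (A : Matrix (Fin 2) (Fin 2) K)) = 2 :=
      orderOf_eq_prime (innEnd_pow_eq_one (one_pow 2) hA2) hne
    refine ⟨_, ⟨A, rfl⟩, Or.inr ⟨by rw [ho]; exact h, ?_⟩⟩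
    rw [ho]
    intro h0
    have h1 := congrFun (DFunLike.congr_fun h0 (Pi.single ((1 : Fin 2), (1 : Fin 2)) (1 : K))) ((0 : Fin 2), (0 : Fin 2))
    rw [sum_range_succ, sum_range_one, pow_zero, pow_one] at h1
    change (Pi.single ((1 : Fin 2), (1 : Fin 2)) (1 : K) : Fin 2 × Fin 2 → K) (0, 0) +
      (twoRep (iterateFrobenius K 2 k) (A : Matrix (Fin 2) (Fin 2) K) *ᵥ Pi.single ((1 : Fin 2), (1 : Fin 2)) (1 : K)) (0, 0) = 0 at h1
    simp [twoRep, A, Matrix.kronecker_apply] at h1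

end Cfsg.Agent.GenA.Spec
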