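import Mathlib
import Cfsg.Agent.GenA.Spec.HermInner

/-!
# Odd `q` prime to `3`
-/

set_option autoImplicit false

namespace Cfsg.Agent.GenA.Spec

open Matrix Finset
open scoped Kronecker

variable {K : Type} [Field K] [Fintype K] {p k : ℕ} [Fact p.Prime] [CharP K p]

variable (K p k) in
/-- the semilinear involution -/
noncomputable def thetaEnd : AddMonoid.End (Fin 2 × Fin 2 → K) := twistEnd (iterateFrobenius K p k)

omit [Fintype K] in
theorem theta_inn (A : Matrix (Fin 2) (Fin 2) K) :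
    thetaEnd K p k * innEnd K p k A = innEnd K p k (A.map (iterateFrobenius K p k)) * thetaEnd K p k := by
  rw [thetaEnd, innEnd, innEnd, twist_linEnd, map_twoRep]

theorem theta_sq (hK : Fintype.card K = p ^ (2 * k)) : thetaEnd K p k * thetaEnd K p k = 1 :=
  twist_sq _ (sq_card hK)

theorem sum_range_two_mul {R : Type*} [Ring R] (x : R) (n : ℕ) :
    ∑ i ∈ range (2 * n), x ^ i = (1 + x) * ∑ j ∈ range n, (x * x) ^ j := by
  induction n with
  | zero => simp
  | succ n ih =>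
    rw [show 2 * (n + 1) = 2 * n + 1 + 1 by ring, sum_range_succ, sum_range_succ, ih, sum_range_succ,
      mul_add, ← sq x, ← pow_mul, add_mul, add_mul, one_mul, one_mul, ← pow_succ']
    abel

theorem exists_moved (hK : Fintype.card K = p ^ (2 * k)) (hk : 1 ≤ k) :
    ∃ c : K, iterateFrobenius K p k c ≠ c := by
  by_contra h
  push Not at h
  obtain ⟨g, hg⟩ := IsCyclic.exists_ofOrder_eq_natCard (α := Kˣ)
  rw [Nat.card_units, Nat.card_eq_fintype_card, hK] at hg
  have hp := (Fact.out : p.Prime).two_le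
  have h1 := h (g : K)
  rw [iterateFrobenius_def] at h1
  have hq : 1 ≤ p ^ k := Nat.one_le_pow _ _ (by omega)
  have h2 : g ^ (p ^ k - 1) = 1 := by
    refine Units.ext (mul_right_cancel₀ (Units.ne_zero g) ?_)
    rw [Units.val_pow_eq_pow_val, Units.val_one, one_mul, ← pow_succ, Nat.sub_add_cancel hq, h1]
  have h3 : p ^ (2 * k) - 1 ∣ p ^ k - 1 := hg ▸ orderOf_dvd_of_pow_eq_one h2
  have h4 : p ^ k * 2 ≤ p ^ (2 * k) := by
    rw [two_mul, pow_add]
    exact Nat.mul_le_mul_left _ (le_trans hp (Nat.le_self_pow (by omega) p))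
  have h5 : 2 ≤ p ^ k := le_trans hp (Nat.le_self_pow (by omega) p)
  have := Nat.le_of_dvd (by omega) h3
  omega

/-- outer elements have even order -/
theorem outer_even (hK : Fintype.card K = p ^ (2 * k)) (hk : 1 ≤ k)
    (A : Matrix.SpecialLinearGroup (Fin 2) K) :
    2 ∣ orderOf (innEnd K p k (A : Matrix (Fin 2) (Fin 2) K) * thetaEnd K p k) := by
  set σ := iterateFrobenius K p k
  set U := innEnd K p k (A : Matrix (Fin 2) (Fin 2) K) * thetaEnd K p k with hU
  have hUU : U * U = innEnd K p k ((A : Matrix (Fin 2) (Fin 2) K) * (A : Matrix (Fin 2) (Fin 2) K).map σ) := by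
    rw [hU, mul_assoc, ← mul_assoc (thetaEnd K p k), theta_inn, mul_assoc, theta_sq hK, mul_one, innEnd_mul]
  rcases Nat.even_or_odd (orderOf U) with h | ⟨m, hm⟩
  · exact even_iff_two_dvd.1 h
  exfalso
  have h1 : U ^ (2 * m + 1) = 1 := hm ▸ pow_orderOf_eq_one U
  set B := ((A : Matrix (Fin 2) (Fin 2) K) * (A : Matrix (Fin 2) (Fin 2) K).map σ) ^ m * (A : Matrix (Fin 2) (Fin 2) K)
    with hB
  have h2 : innEnd K p k B * thetaEnd K p k = 1 := by
    rw [hB, innEnd_mul, innEnd_pow, ← hUU, mul_assoc, ← hU, ← sq, ← pow_mul, ← pow_succ, h1]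
  have h3 : innEnd K p k B = thetaEnd K p k := by
    conv_lhs => rw [← mul_one (innEnd K p k B), ← theta_sq hK, ← mul_assoc, h2, one_mul]
  obtain ⟨c, hc⟩ := exists_moved hK hk
  apply hc
  have e1 := congrFun (DFunLike.congr_fun h3 (Pi.single ((0 : Fin 2), (0 : Fin 2)) (1 : K))) (0, 0)
  have e2 := congrFun (DFunLike.congr_fun h3 (Pi.single ((0 : Fin 2), (0 : Fin 2)) c)) (0, 0)
  rw [innEnd, linEnd_apply, thetaEnd, twistEnd_apply, Matrix.mulVec_single] at e1 e2
  simp at e1 e2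
  rw [e1, one_mul] at e2
  exact e2.symm

theorem outer_upper (hK : Fintype.card K = p ^ (2 * k)) (hk : 1 ≤ k) (h5 : 5 ≤ p)
    (A : Matrix.SpecialLinearGroup (Fin 2) K) :
    orderOf (innEnd K p k (A : Matrix (Fin 2) (Fin 2) K) * thetaEnd K p k) ∈ specSet p (p ^ k) ∧
    (∑ i ∈ range (orderOf (innEnd K p k (A : Matrix (Fin 2) (Fin 2) K) * thetaEnd K p k)),
        (innEnd K p k (A : Matrix (Fin 2) (Fin 2) K) * thetaEnd K p k) ^ i ≠ 0 →
      p * orderOf (innEnd K p k (A : Matrix (Fin 2) (Fin 2) K) * thetaEnd K p k) ∈ specSet p (p ^ k)) := by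
  have hp : p.Prime := Fact.out
  have hodd : Odd p := hp.odd_of_ne_two (by omega)
  set q := p ^ k with hq
  obtain ⟨m, hm⟩ : Odd q := hq ▸ hodd.pow
  set σ := iterateFrobenius K p k with hσ
  set U := innEnd K p k (A : Matrix (Fin 2) (Fin 2) K) * thetaEnd K p k with hU
  let N : Matrix.SpecialLinearGroup (Fin 2) K := A * Matrix.SpecialLinearGroup.map σ A
  have hUU : U * U = innEnd K p k (N : Matrix (Fin 2) (Fin 2) K) := by
    rw [hU, mul_assoc, ← mul_assoc (thetaEnd K p k), theta_inn, mul_assoc, theta_sq hK, mul_one, ← innEnd_mul]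
    rfl
  have hpow : ∀ {n : ℕ} {e : K}, e ^ 2 = 1 →
      (N : Matrix (Fin 2) (Fin 2) K) ^ n = e • (1 : Matrix (Fin 2) (Fin 2) K) → orderOf U ∣ 2 * n :=
    fun he h => orderOf_dvd_of_pow_eq_one (by rw [pow_mul, sq, hUU, innEnd_pow_eq_one he h])
  have heven := outer_even hK hk A
  rw [← hU] at heven
  have : CharP (AlgebraicClosure K) p :=
    charP_of_injective_algebraMap (algebraMap K (AlgebraicClosure K)).injective p
  rcases sl_two_cases (algebraMap K (AlgebraicClosure K)) p (2 * k) hK N with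
    ⟨e, he, hN⟩ | ⟨l, P, hl, hl2, -, hP, hNP⟩
  · obtain ⟨e', he', hNp⟩ := unipotent_pow (p := p) he hN
    have ho := hpow he' hNp
    have h2p : 2 * p ∣ p * (q + 1) := by
      rw [mul_comm 2 p]
      exact mul_dvd_mul_left p ⟨m + 1, by omega⟩
    refine ⟨Or.inr (Or.inr (Or.inl (ho.trans h2p))), fun hs => ?_⟩
    obtain ⟨j, hj⟩ := heven
    rw [hj] at ho
    rcases (Nat.dvd_prime hp).1 (Nat.dvd_of_mul_dvd_mul_left two_pos ho) with h1 | h1
    · rw [hj, h1, mul_one]
      exact Or.inr (Or.inr (Or.inl (mul_dvd_mul_left p ⟨m + 1, by omega⟩)))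
    · exfalso
      apply hs
      rw [hj, h1, sum_range_two_mul, hUU, innEnd, geom_zero _ (unip_cube _ he hN) (by omega), mul_zero]
  · set f := algebraMap K (AlgebraicClosure K)
    have hfrob : l ^ q = l ∨ l ^ q = l⁻¹ := by
      obtain ⟨u, hu⟩ := hP
      have htr : l + l⁻¹ = f (Matrix.trace (N : Matrix (Fin 2) (Fin 2) K)) := by
        have h1 : (N : Matrix (Fin 2) (Fin 2) K).map f = u.val * Matrix.diagonal ![l, l⁻¹] * (u⁻¹).val := by
          rw [hu, ← hNP, ← hu, mul_assoc, Units.mul_inv, mul_one]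
        have h2 := congrArg Matrix.trace h1
        rw [Matrix.trace_units_conj, Matrix.trace_diagonal, Fin.sum_univ_two] at h2
        simp only [Matrix.cons_val_zero, Matrix.cons_val_one, Matrix.cons_val_fin_one] at h2
        rw [← h2, Matrix.trace_fin_two, Matrix.trace_fin_two, map_add]
        rfl
      have hfix : σ (Matrix.trace (N : Matrix (Fin 2) (Fin 2) K)) = Matrix.trace (N : Matrix (Fin 2) (Fin 2) K) := by
        have hss : ((A : Matrix (Fin 2) (Fin 2) K).map σ).map σ = (A : Matrix (Fin 2) (Fin 2) K) := by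
          ext i j
          exact sq_card hK _
        have hN' : (N : Matrix (Fin 2) (Fin 2) K) = (A : Matrix (Fin 2) (Fin 2) K) * (A : Matrix (Fin 2) (Fin 2) K).map σ := rfl
        have h1 : σ (Matrix.trace (N : Matrix (Fin 2) (Fin 2) K)) = Matrix.trace ((N : Matrix (Fin 2) (Fin 2) K).map σ) := by
          rw [Matrix.trace_fin_two, Matrix.trace_fin_two, map_add]; rfl
        rw [h1, hN', Matrix.map_mul, hss, Matrix.trace_mul_comm]
      have h1 : (l ^ q) + (l ^ q)⁻¹ = l + l⁻¹ := by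
        rw [hq, ← inv_pow, ← add_pow_char_pow (p := p), htr, ← map_pow]
        congr 1
      have h2 : l ^ q ≠ 0 := pow_ne_zero _ hl
      set x := l ^ q
      have h3 : (x - l) * (x - l⁻¹) = 0 := by
        field_simp at h1 ⊢
        linear_combination h1
      rcases mul_eq_zero.1 h3 with h | h
      · exact Or.inl (sub_eq_zero.1 h)
      · exact Or.inr (sub_eq_zero.1 h)
    obtain ⟨δ, hδ, hlδ⟩ : ∃ δ, p * (2 * δ) ∈ specSet p q ∧ (l ^ δ) ^ 2 = 1 := by
      rcases hfrob with h | h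
      · refine ⟨m, Or.inr (Or.inr (Or.inr (Or.inl (by rw [show q - 1 = 2 * m by omega])))), ?_⟩
        refine mul_right_cancel₀ hl ?_
        rw [← pow_mul, ← pow_succ, show m * 2 + 1 = q by omega, h, one_mul]
      · refine ⟨m + 1, Or.inr (Or.inr (Or.inl (by rw [show q + 1 = 2 * (m + 1) by omega]))), ?_⟩
        rw [← pow_mul, show (m + 1) * 2 = q + 1 by omega, pow_succ, h, inv_mul_cancel₀ hl]
    obtain ⟨e, he, hle⟩ := sign_of_pow f hlδ
    have ho := hpow he (pow_scalar_of_eigen f hP hNP he hle)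
    exact ⟨specSet_of_dvd hδ (ho.trans (dvd_mul_left _ _)), fun _ => specSet_of_dvd hδ (mul_dvd_mul_left p ho)⟩

theorem outer_block (hK : Fintype.card K = p ^ (2 * k)) (hk : 1 ≤ k) (h5 : 5 ≤ p) (δ : ℕ)
    (hδ : δ = p ^ k + 1 ∨ δ = p ^ k - 1) :
    ∃ A : Matrix.SpecialLinearGroup (Fin 2) K,
      δ ∣ orderOf (innEnd K p k (A : Matrix (Fin 2) (Fin 2) K) * thetaEnd K p k) ∧
      ∑ i ∈ range (orderOf (innEnd K p k (A : Matrix (Fin 2) (Fin 2) K) * thetaEnd K p k)),
        (innEnd K p k (A : Matrix (Fin 2) (Fin 2) K) * thetaEnd K p k) ^ i ≠ 0 := by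
  have hp : p.Prime := Fact.out
  have hodd : Odd p := hp.odd_of_ne_two (by omega)
  set q := p ^ k with hq
  obtain ⟨m, hm⟩ : Odd q := hq ▸ hodd.pow
  have hq5 : 5 ≤ q := h5.trans (hq ▸ Nat.le_self_pow (by omega) p)
  set σ := iterateFrobenius K p k with hσ
  have hQ : Fintype.card K = q ^ 2 := by rw [hK, hq, ← pow_mul, mul_comm]
  obtain ⟨j, hj⟩ : ∃ j, δ = 2 * j ∧ 1 ≤ j := by
    rcases hδ with h | h
    · exact ⟨m + 1, by omega, by omega⟩
    · exact ⟨m, by omega, by omega⟩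
  obtain ⟨a, ha⟩ : ∃ a : Kˣ, orderOf a = 2 * δ := by
    obtain ⟨g, hg⟩ := IsCyclic.exists_ofOrder_eq_natCard (α := Kˣ)
    rw [Nat.card_units, Nat.card_eq_fintype_card] at hg
    have := Fintype.one_lt_card (α := K)
    refine ⟨g ^ ((Fintype.card K - 1) / (2 * δ)), ?_⟩
    rw [← hg]
    refine orderOf_pow_orderOf_div (by rw [hg]; omega) ?_
    rw [hg, hQ, show q ^ 2 - 1 = (q + 1) * (q - 1) by rw [← Nat.sq_sub_sq, one_pow]]
    rcases hδ with h | h
    · rw [h, mul_comm 2]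
      exact mul_dvd_mul_left _ ⟨m, by omega⟩
    · rw [h]
      exact mul_dvd_mul_right ⟨m + 1, by omega⟩ _
  have haδ : (a : K) ^ δ = -1 := by
    have h1 : ((a : K) ^ δ) ^ 2 = 1 := by
      rw [← pow_mul, mul_comm, ← Units.val_pow_eq_pow_val, ← ha, pow_orderOf_eq_one, Units.val_one]
    rcases sq_eq_one_iff.1 h1 with h | h
    · exfalso
      have h2 : a ^ δ = 1 := Units.ext (by rw [Units.val_pow_eq_pow_val, h, Units.val_one])
      have := Nat.le_of_dvd (by omega) (ha ▸ orderOf_dvd_of_pow_eq_one h2)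
      omega
    · exact h
  have ha0 : (a : K) ≠ 0 := Units.ne_zero a
  have hps : ¬ p ∣ δ := by
    intro h
    have hpq : p ∣ q := hq ▸ dvd_pow_self p (by omega)
    rcases hδ with rfl | rfl
    · exact hp.one_lt.ne' (Nat.dvd_one.1 ((Nat.dvd_add_right hpq).1 h))
    · have := Nat.dvd_sub hpq h
      rw [show q - (q - 1) = 1 by omega] at this
      exact hp.one_lt.ne' (Nat.dvd_one.1 this)
  obtain ⟨A, b, hAA, hbs, v, hv, hfix⟩ : ∃ (A : Matrix.SpecialLinearGroup (Fin 2) K) (b : K),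
      (A : Matrix (Fin 2) (Fin 2) K) * (A : Matrix (Fin 2) (Fin 2) K).map σ = Matrix.diagonal ![b, b⁻¹] ∧
      (b = (a : K) ^ 2 ∨ b = -(a : K) ^ 2) ∧
      ∃ v : Fin 2 × Fin 2 → K, v ≠ 0 ∧
        (innEnd K p k (A : Matrix (Fin 2) (Fin 2) K) * thetaEnd K p k) v = v := by
    rcases hδ with h | h
    · -- `σ a = -a⁻¹`
      have hσa : σ (a : K) = -(a : K)⁻¹ := by
        rw [hσ, iterateFrobenius_def, ← hq]
        refine mul_right_cancel₀ ha0 ?_
        rw [← pow_succ, ← h, haδ, neg_mul, inv_mul_cancel₀ ha0]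
      refine ⟨⟨!![0, (a : K); -(a : K)⁻¹, 0], by simp [Matrix.det_fin_two]⟩, (a : K) ^ 2, ?_, Or.inl rfl,
        Pi.single ((0 : Fin 2), (0 : Fin 2)) 1 + Pi.single ((1 : Fin 2), (1 : Fin 2)) (-1), ?_, ?_⟩
      · ext i j
        fin_cases i <;> fin_cases j <;> simp [Matrix.mul_apply, Fin.sum_univ_two, hσa, map_inv₀, sq]
      · intro h0
        have := congrFun h0 ((0 : Fin 2), (0 : Fin 2))
        simp at this
      · funext x
        obtain ⟨i, j⟩ := x
        rw [end_mul_apply, innEnd, linEnd_apply, thetaEnd]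
        fin_cases i <;> fin_cases j <;>
          simp [Matrix.mulVec, dotProduct, twoRep, twistEnd_apply, Matrix.kronecker_apply, Fintype.sum_prod_type,
            Fin.sum_univ_two, ← hσ, hσa, map_inv₀, ha0]
    · have hσa : σ (a : K) = -(a : K) := by
        rw [hσ, iterateFrobenius_def, ← hq, show q = δ + 1 by omega, pow_succ, haδ, neg_one_mul]
      refine ⟨⟨Matrix.diagonal ![(a : K), (a : K)⁻¹], by simp [Matrix.det_diagonal, ha0]⟩, -(a : K) ^ 2, ?_,
        Or.inr rfl, Pi.single ((0 : Fin 2), (1 : Fin 2)) (a : K), ?_, ?_⟩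
      · ext i j
        fin_cases i <;> fin_cases j <;> simp [Matrix.mul_apply, Fin.sum_univ_two, hσa, map_inv₀, sq, inv_neg, mul_inv]
      · intro h0
        exact ha0 (by simpa using congrFun h0 ((0 : Fin 2), (1 : Fin 2)))
      · funext x
        obtain ⟨i, j⟩ := x
        rw [end_mul_apply, innEnd, linEnd_apply, thetaEnd]
        fin_cases i <;> fin_cases j <;>
          simp [Matrix.mulVec, dotProduct, twoRep, twistEnd_apply, Matrix.kronecker_apply, Fintype.sum_prod_type,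
            Fin.sum_univ_two, ← hσ, hσa, map_inv₀, ha0]
  refine ⟨A, ?_⟩
  set U := innEnd K p k (A : Matrix (Fin 2) (Fin 2) K) * thetaEnd K p k with hU
  have hUU : U * U = innEnd K p k (Matrix.diagonal ![b, b⁻¹]) := by
    rw [hU, mul_assoc, ← mul_assoc (thetaEnd K p k), theta_inn, mul_assoc, theta_sq hK, mul_one, ← innEnd_mul, hAA]
  have hb4 : ∀ i, b ^ (2 * i) = (a : K) ^ (4 * i) := fun i => by
    rcases hbs with h | h <;> rw [h]
    · rw [← pow_mul]; ring_nf
    · rw [pow_mul, neg_sq, ← pow_mul, ← pow_mul]; ring_nf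
  have hod : orderOf U ∣ δ := by
    refine orderOf_dvd_of_pow_eq_one ?_
    have h1 : (b ^ j) ^ 2 = 1 := by
      rw [← pow_mul, mul_comm, hb4, show 4 * j = δ * 2 by omega, pow_mul, haδ, neg_one_sq]
    have hbi : (b ^ j)⁻¹ = b ^ j := inv_eq_of_mul_eq_one_right (by rw [← sq, h1])
    rw [hj.1, pow_mul, sq, hUU, ← innEnd_pow,
      show Matrix.diagonal ![b, b⁻¹] ^ j = (b ^ j) • (1 : Matrix (Fin 2) (Fin 2) K) by
        rw [Matrix.diagonal_pow]; ext r s; fin_cases r <;> fin_cases s <;> simp [inv_pow, hbi],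
      innEnd_sign h1]
  refine ⟨?_, sum_ne_zero_of_fixed hp pi_exp (fun h => hps (h.trans hod)) hv hfix⟩
  obtain ⟨i, hi⟩ := outer_even hK hk A
  rw [← hU] at hi
  have h1 : innEnd K p k (Matrix.diagonal ![b, b⁻¹] ^ i) = 1 := by
    rw [innEnd_pow, ← hUU, ← sq, ← pow_mul, ← hi, pow_orderOf_eq_one]
  have hdet : (Matrix.diagonal ![b, b⁻¹] ^ i).det = 1 := by
    rw [← hAA, Matrix.det_pow, Matrix.det_mul, A.2, ← RingHom.mapMatrix_apply, ← RingHom.map_det, A.2, map_one,
      one_mul, one_pow]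
  obtain ⟨e, he, hbe⟩ := twoRep_eq_one _ hdet (linEnd_injective (h1.trans linEnd_one.symm))
  have h00 := congrFun (congrFun hbe 0) 0
  rw [Matrix.diagonal_pow] at h00
  simp at h00
  have h4 : a ^ (4 * i) = 1 := Units.ext (by
    rw [Units.val_pow_eq_pow_val, Units.val_one, ← hb4, mul_comm, pow_mul, h00, he])
  have h5' : 2 * δ ∣ 2 * orderOf U := by
    rw [hi, ← ha, ← mul_assoc]
    exact orderOf_dvd_of_pow_eq_one h4
  exact Nat.dvd_of_mul_dvd_mul_left two_pos h5'

theorem exists_large_odd (hK : Fintype.card K = p ^ (2 * k)) (hk : 1 ≤ k) (h5 : 5 ≤ p) (N : ℕ) :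
    ∃ (H : Type) (_ : Group H) (_ : Fintype H), N < Fintype.card H ∧
      Set.range (orderOf : H → ℕ) = specSet p (p ^ k) := by
  let T : Submonoid (AddMonoid.End (Fin 2 × Fin 2 → K)) :=
    { carrier := {x | ∃ A : Matrix.SpecialLinearGroup (Fin 2) K, x = innEnd K p k (A : Matrix (Fin 2) (Fin 2) K) ∨
        x = innEnd K p k (A : Matrix (Fin 2) (Fin 2) K) * thetaEnd K p k}
      one_mem' := ⟨1, Or.inl (by rw [Matrix.SpecialLinearGroup.coe_one, innEnd, twoRep_one, linEnd_one])⟩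
      mul_mem' := by
        rintro x y ⟨A, hA⟩ ⟨B, hB⟩
        let B' : Matrix.SpecialLinearGroup (Fin 2) K := Matrix.SpecialLinearGroup.map (iterateFrobenius K p k) B
        have hB' : (B' : Matrix (Fin 2) (Fin 2) K) = (B : Matrix (Fin 2) (Fin 2) K).map (iterateFrobenius K p k) := rfl
        rcases hA with rfl | rfl <;> rcases hB with rfl | rfl
        · exact ⟨A * B, Or.inl (by rw [Matrix.SpecialLinearGroup.coe_mul, innEnd_mul])⟩
        · exact ⟨A * B, Or.inr (by rw [Matrix.SpecialLinearGroup.coe_mul, innEnd_mul, mul_assoc])⟩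
        · exact ⟨A * B', Or.inr (by rw [mul_assoc, theta_inn, Matrix.SpecialLinearGroup.coe_mul, innEnd_mul, hB', mul_assoc])⟩
        · exact ⟨A * B', Or.inl (by
            rw [mul_assoc, ← mul_assoc (thetaEnd K p k), theta_inn, mul_assoc, theta_sq hK, mul_one,
              Matrix.SpecialLinearGroup.coe_mul, innEnd_mul, hB'])⟩ }
  have hth : IsUnit (thetaEnd K p k) := ⟨⟨thetaEnd K p k, thetaEnd K p k, theta_sq hK, theta_sq hK⟩, rfl⟩
  refine exists_large_end Fact.out pi_exp T ?_ _ ?_ ?_ ?_ N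
  · rintro x ⟨A, rfl | rfl⟩
    exacts [innEnd_isUnit A, (innEnd_isUnit A).mul hth]
  · rintro x ⟨A, rfl | rfl⟩
    exacts [(inner_upper hK (by omega) A).1, (outer_upper hK hk h5 A).1]
  · rintro x ⟨A, rfl | rfl⟩
    exacts [(inner_upper hK (by omega) A).2, (outer_upper hK hk h5 A).2]
  rintro d (h | h | h | h | ⟨h3, -⟩)
  · obtain ⟨A, hA⟩ := sign_elim (K := K) hK hk (Or.inl h)
    exact ⟨_, ⟨A, Or.inl rfl⟩, Or.inl hA⟩
  · obtain ⟨A, hA⟩ := sign_elim (K := K) hK hk (Or.inr h)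
    exact ⟨_, ⟨A, Or.inl rfl⟩, Or.inl hA⟩
  · obtain ⟨A, hA, hs⟩ := outer_block (K := K) hK hk h5 _ (Or.inl rfl)
    exact ⟨_, ⟨A, Or.inr rfl⟩, Or.inr ⟨h.trans (mul_dvd_mul_left p hA), hs⟩⟩
  · obtain ⟨A, hA, hs⟩ := outer_block (K := K) hK hk h5 _ (Or.inr rfl)
    exact ⟨_, ⟨A, Or.inr rfl⟩, Or.inr ⟨h.trans (mul_dvd_mul_left p hA), hs⟩⟩
  · omega

end Cfsg.Agent.GenA.Spec
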