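import Mathlib
import Cfsg.Agent.Lib.Classical.OrthTypes
import Cfsg.Agent.Lib.Forms.QuadStd
import Cfsg.Agent.GenA.Spec.EightUpper

/-!
# Pieces of orthogonal spaces in characteristic two carrying prescribed isometries
-/

set_option autoImplicit false

namespace Cfsg.Agent.GenA.Spec.Eight

open Matrix Finset Module Cfsg.Agent.Forms Cfsg.Agent.Forms.PlusStd
open Cfsg.Agent.Classical.OrthTypes Cfsg.Agent.Classical.OrthForms

universe u

variable {F : Type u} [Field F]

local notation "Pol" => QuadraticMap.polarBilin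

/-- a non-degenerate even dimensional form of given type -/
def Typed {ι : Type} [Fintype ι] (m : ℕ) (b : Bool) (Q : QuadraticForm F (ι → F)) : Prop :=
  Fintype.card ι = 2 * m ∧ (Pol Q).Nondegenerate ∧ (IsPlus Q m ↔ b = true)

theorem typed_plus (m : ℕ) : Typed m true (plusQ F m) :=
  ⟨by simp [two_mul], plusQ_nondeg F m, iff_of_true (isPlus_plusQ m) rfl⟩

theorem typed_min [Fintype F] {ζ : F} (hζ : ∀ t : F, t ^ 2 + t + ζ ≠ 0) (k : ℕ) :
    Typed (k + 1) false (minQ F k 1 ζ) :=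
  ⟨by simp [two_mul, mul_add, add_comm, add_left_comm], minQ_nondeg k (Classical.QuadClass.aniso_one hζ),
    iff_of_false (not_isPlus_minQ (Classical.QuadClass.aniso_one hζ)) (by simp)⟩

theorem typed_sum [Fintype F] {ι κ : Type} [Fintype ι] [Fintype κ] {m n : ℕ} {b c : Bool}
    {Q : QuadraticForm F (ι → F)} {R : QuadraticForm F (κ → F)} (hQ : Typed m b Q) (hR : Typed n c R) :
    Typed (m + n) (b == c) (sumQ Q R) := by
  classical
  obtain ⟨hm, hQn, hb⟩ := hQ
  obtain ⟨hn, hRn, hc⟩ := hR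
  refine ⟨by rw [Fintype.card_sum]; omega, sumQ_nondeg hQn hRn, ?_⟩
  cases b <;> cases c
  · exact iff_of_true (isPlus_sum_minus hm hn hQn hRn (by simpa using hb) (by simpa using hc)) rfl
  · refine iff_of_false (fun h => not_isPlus_sum hn hm hRn hQn (hc.2 rfl) (by simpa using hb) ?_) (by simp)
    rw [add_comm n m]
    refine h.map (LinearEquiv.funCongrLeft F F (Equiv.sumComm κ ι)) fun v => ?_
    rw [sumQ_apply, sumQ_apply, add_comm]
    rfl
  · exact iff_of_false (not_isPlus_sum hm hn hQn hRn (hb.2 rfl) (by simpa using hc)) (by simp)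
  · exact iff_of_true (isPlus_sum (hb.2 rfl) (hc.2 rfl)) rfl

theorem sum_pres {ι κ : Type} [Fintype ι] [DecidableEq ι] [Fintype κ] [DecidableEq κ]
    {Q : QuadraticForm F (ι → F)} {R : QuadraticForm F (κ → F)} {A : Matrix ι ι F} {B : Matrix κ κ F}
    (hA : ∀ v, Q (A *ᵥ v) = Q v) (hB : ∀ v, R (B *ᵥ v) = R v) (v : ι ⊕ κ → F) :
    sumQ Q R (Matrix.fromBlocks A 0 0 B *ᵥ v) = sumQ Q R v := by
  rw [sumQ_apply, sumQ_apply, Matrix.fromBlocks_mulVec]
  simp only [Sum.elim_comp_inl, Sum.elim_comp_inr, Matrix.zero_mulVec, add_zero, zero_add]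
  rw [hA, hB]

/-! ### Tori -/

section Torus

variable [Fintype F] [CharP F 2]

/-- `GL₁` of the degree `d` extension inside the plus type space -/
theorem exists_plus_torus (d : ℕ) (hd : 1 ≤ d) :
    ∃ A : Matrix (Fin d ⊕ Fin d) (Fin d ⊕ Fin d) F,
      (∀ v, plusQ F d (A *ᵥ v) = plusQ F d v) ∧ orderOf A = Fintype.card F ^ d - 1 := by
  classical
  have : Fact (Nat.Prime 2) := ⟨Nat.prime_two⟩
  have : NeZero d := ⟨by omega⟩
  set K := FiniteField.Extension F 2 d
  have : Fintype K := Fintype.ofFinite K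
  obtain ⟨g, hg⟩ := IsCyclic.exists_ofOrder_eq_natCard (α := Kˣ)
  rw [Nat.card_units, FiniteField.natCard_extension, Nat.card_eq_fintype_card] at hg
  let b : Basis (Fin d) F K := Module.finBasisOfFinrankEq F K (FiniteField.finrank_extension F 2 d)
  let L : K →+* Matrix (Fin d) (Fin d) F := (Algebra.leftMulMatrix b).toRingHom
  have hL : Function.Injective L := Algebra.leftMulMatrix_injective b
  refine ⟨Matrix.fromBlocks (L g) 0 0 (L ((g⁻¹ : Kˣ) : K))ᵀ, fun v => ?_, ?_⟩
  · have hdot : ∀ w : Fin d ⊕ Fin d → F, plusQ F d w = (w ∘ Sum.inl) ⬝ᵥ (w ∘ Sum.inr) := fun w => by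
      rw [plusQ_apply]; rfl
    rw [hdot, hdot, Matrix.fromBlocks_mulVec]
    simp only [Sum.elim_comp_inl, Sum.elim_comp_inr, Matrix.zero_mulVec, add_zero, zero_add]
    rw [dotProduct_comm, Matrix.dotProduct_mulVec, ← Matrix.mulVec_transpose, Matrix.mulVec_mulVec,
      ← Matrix.transpose_mul, ← map_mul, Units.inv_mul, map_one, Matrix.transpose_one, Matrix.one_mulVec,
      dotProduct_comm]
  · rw [← hg]
    refine orderOf_eq_orderOf_iff.2 fun n => ?_
    have hpow : ∀ (A B : Matrix (Fin d) (Fin d) F) (k : ℕ),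
        (Matrix.fromBlocks A 0 0 B) ^ k = Matrix.fromBlocks (A ^ k) 0 0 (B ^ k) := fun A B k => by
      induction k with
      | zero => simp [Matrix.fromBlocks_one]
      | succ k ih => rw [pow_succ, ih, Matrix.fromBlocks_multiply]; simp [pow_succ]
    rw [hpow, ← Matrix.transpose_pow, ← map_pow, ← map_pow, ← Units.val_pow_eq_pow_val,
      ← Units.val_pow_eq_pow_val, inv_pow, ← Matrix.fromBlocks_one, Matrix.fromBlocks_inj]
    constructor
    · rintro ⟨h, -⟩
      exact Units.ext (hL (h.trans (map_one L).symm))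
    · intro h
      rw [h, inv_one, Units.val_one, map_one, Matrix.transpose_one]
      exact ⟨rfl, rfl, rfl, rfl⟩

/-- the norm one torus of the quadratic extension of the degree `d` extension fills a minus type space -/
theorem exists_minus_torus (d : ℕ) (hd : 1 ≤ d) :
    ∃ (Q : QuadraticForm F (Fin (2 * d) → F)) (A : Matrix (Fin (2 * d)) (Fin (2 * d)) F),
      Typed d false Q ∧ (∀ v, Q (A *ᵥ v) = Q v) ∧ orderOf A = Fintype.card F ^ d + 1 := by
  classical
  have : Fact (Nat.Prime 2) := ⟨Nat.prime_two⟩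
  have : NeZero (2 * d) := ⟨by omega⟩
  obtain ⟨k, -, hk⟩ := FiniteField.card F 2
  set q := Fintype.card F with hqdef
  have hq2 : 2 ≤ q := Fintype.one_lt_card
  set K := FiniteField.Extension F 2 (2 * d)
  have : Fintype K := Fintype.ofFinite K
  have : CharP K 2 := charP_of_injective_algebraMap (algebraMap F K).injective 2
  have hK : Fintype.card K = (q ^ d) ^ 2 := by
    rw [← Nat.card_eq_fintype_card, FiniteField.natCard_extension, Nat.card_eq_fintype_card, ← pow_mul, mul_comm]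
  let τ : K →+* K := iterateFrobenius K 2 ((k : ℕ) * d)
  have hτ : ∀ x, τ x = x ^ q ^ d := fun x => by
    simp only [τ, iterateFrobenius_def]
    rw [hk, ← pow_mul]
  have hττ : ∀ x, τ (τ x) = x := fun x => by rw [hτ, hτ, ← pow_mul, ← sq, ← hK, FiniteField.pow_card]
  have hτF : ∀ c : F, τ (algebraMap F K c) = algebraMap F K c := fun c => by
    rw [hτ, ← map_pow, hqdef, FiniteField.pow_card_pow]
  obtain ⟨π, hπ⟩ : ∃ π : K →ₗ[F] F, π 1 = 1 := by
    obtain ⟨π, hπ⟩ := LinearMap.exists_leftInverse_of_injective (Algebra.linearMap F K)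
      (LinearMap.ker_eq_bot.2 (algebraMap F K).injective)
    refine ⟨π, ?_⟩
    have := LinearMap.congr_fun hπ 1
    simpa using this
  let τl : K →ₗ[F] K :=
    { toFun := τ, map_add' := map_add τ, map_smul' := fun c x => by
        rw [Algebra.smul_def, map_mul, hτF, RingHom.id_apply, Algebra.smul_def] }
  let b : Basis (Fin (2 * d)) F K := Module.finBasisOfFinrankEq F K (FiniteField.finrank_extension F 2 (2 * d))
  let e : (Fin (2 * d) → F) ≃ₗ[F] K := b.equivFun.symm
  let B : LinearMap.BilinMap F (Fin (2 * d) → F) F :=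
    LinearMap.compl₁₂ ((LinearMap.mul F K).compr₂ π) (τl ∘ₗ e.toLinearMap) e.toLinearMap
  let Q : QuadraticForm F (Fin (2 * d) → F) := LinearMap.BilinMap.toQuadraticMap B
  have hQ : ∀ v, Q v = π (τ (e v) * e v) := fun v => rfl
  have hpol : ∀ v w, QuadraticMap.polar Q v w = π (τ (e v) * e w + τ (τ (e v) * e w)) := by
    intro v w
    simp only [QuadraticMap.polar, hQ, map_add, map_mul, hττ]
    rw [add_mul, mul_add, mul_add, map_add, map_add, map_add, mul_comm (e v) (τ (e w))]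
    abel
  obtain ⟨θ, hθ⟩ : ∃ θ : K, θ + τ θ = 1 := by
    obtain ⟨g, hg⟩ := IsCyclic.exists_ofOrder_eq_natCard (α := Kˣ)
    rw [Nat.card_units, Nat.card_eq_fintype_card, hK] at hg
    have hne : (g : K) + τ g ≠ 0 := by
      intro h
      rw [CharTwo.add_eq_zero, hτ] at h
      have hq1 : 1 ≤ q ^ d := Nat.one_le_pow _ _ (by omega)
      have h1 : g ^ (q ^ d - 1) = 1 := Units.ext (mul_right_cancel₀ (Units.ne_zero g) (by
        rw [Units.val_pow_eq_pow_val, Units.val_one, one_mul, ← pow_succ, Nat.sub_add_cancel hq1, ← h]))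
      have h2 := hg ▸ orderOf_dvd_of_pow_eq_one h1
      have h3 : q ≤ q ^ d := Nat.le_self_pow (by omega) q
      have h4 : q ^ d * 2 ≤ (q ^ d) ^ 2 := by rw [sq]; exact Nat.mul_le_mul_left _ (by omega)
      have := Nat.le_of_dvd (by omega) h2
      omega
    refine ⟨(g : K) / ((g : K) + τ g), ?_⟩
    rw [map_div₀, map_add, hττ, add_comm (τ _) (g : K), ← add_div, div_self hne]
  have hnd : (Pol Q).Nondegenerate := by
    have h : ∀ v, (∀ w, QuadraticMap.polar Q v w = 0) → v = 0 := by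
      intro v hv
      by_contra h0
      have he : τ (e v) ≠ 0 := fun h => h0 (e.map_eq_zero_iff.1 (τ.injective (h.trans (map_zero τ).symm)))
      have := hv (e.symm ((τ (e v))⁻¹ * θ))
      rw [hpol, e.apply_symm_apply, ← mul_assoc, mul_inv_cancel₀ he, one_mul, hθ, hπ] at this
      exact one_ne_zero this
    exact ⟨fun x hx => h x hx, fun x hx => h x fun y => (QuadraticMap.polar_comm _ x y).trans (hx y)⟩
  obtain ⟨z, hz⟩ : ∃ z : Kˣ, orderOf z = q ^ d + 1 := by
    obtain ⟨g, hg⟩ := IsCyclic.exists_ofOrder_eq_natCard (α := Kˣ)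
    rw [Nat.card_units, Nat.card_eq_fintype_card, hK] at hg
    refine ⟨g ^ (((q ^ d) ^ 2 - 1) / (q ^ d + 1)), ?_⟩
    rw [← hg]
    have h3 : q ≤ q ^ d := Nat.le_self_pow (by omega) q
    have h4 : q ^ d * 2 ≤ (q ^ d) ^ 2 := by rw [sq]; exact Nat.mul_le_mul_left _ (by omega)
    refine orderOf_pow_orderOf_div (by rw [hg]; omega) ?_
    rw [hg]
    exact ⟨q ^ d - 1, by rw [← Nat.sq_sub_sq, one_pow]⟩
  have hzN : τ (z : K) * z = 1 := by
    rw [hτ, ← pow_succ, ← Units.val_pow_eq_pow_val, ← hz, pow_orderOf_eq_one, Units.val_one]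
  let A := Algebra.leftMulMatrix b (z : K)
  have hAe : ∀ v, e (A *ᵥ v) = (z : K) * e v := fun v => by
    have h := Algebra.leftMulMatrix_mulVec_repr b (z : K) (e v)
    apply e.symm.injective
    rw [e.symm_apply_apply]
    have hev : ⇑(b.repr (e v)) = v := by
      rw [← Basis.equivFun_apply]; exact b.equivFun.apply_symm_apply v
    rw [hev] at h
    exact h.trans (Basis.equivFun_apply b _).symm
  refine ⟨Q, A, ⟨by simp, hnd, iff_of_false (fun hp => ?_) (by simp)⟩, fun v => ?_, ?_⟩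
  · -- the torus acts freely on the non-zero singular vectors
    obtain ⟨e', he'⟩ := exists_isometry (R := plusQ F d) (m := d) (by simp) (by simp [two_mul]) hnd (plusQ_nondeg F d)
      (iff_of_true hp (isPlus_plusQ d))
    have hz1 := Classical.QuadClass.zeros_eq (⇑Q) ⇑(plusQ F d) e' he'
    rw [zeros_plus rfl hd] at hz1
    let T : Set Kˣ := {x | π (τ (x : K) * x) = 0}
    have hdvd : q ^ d + 1 ∣ Nat.card T := by
      set C := Subgroup.zpowers z
      have hT : T = QuotientGroup.mk ⁻¹' ((QuotientGroup.mk : Kˣ → Kˣ ⧸ C) '' T) := by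
        refine Set.Subset.antisymm (Set.subset_preimage_image _ _) ?_
        rintro x ⟨y, hy, hxy⟩
        rw [QuotientGroup.eq] at hxy
        obtain ⟨i, hi⟩ := Subgroup.mem_zpowers_iff.1 hxy
        have hx : x = y * z ^ i := by rw [hi, mul_inv_cancel_left]
        show π (τ (x : K) * x) = 0
        have hzi : τ ((z ^ i : Kˣ) : K) * ((z ^ i : Kˣ) : K) = 1 := by
          rw [Units.val_zpow_eq_zpow_val, map_zpow₀, ← mul_zpow, hzN, _root_.one_zpow]
        rw [hx, Units.val_mul, map_mul τ, mul_mul_mul_comm, hzi, mul_one]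
        exact hy
      rw [hT, Nat.card_congr (QuotientGroup.preimageMkEquivSubgroupProdSet C _), Nat.card_prod,
        Nat.card_zpowers, hz]
      exact dvd_mul_right _ _
    have hcard : Classical.OrthCount.zeros ⇑Q = Nat.card T + 1 := by
      unfold Classical.OrthCount.zeros
      have e1 : {v : Fin (2 * d) → F // Q v = 0} ≃ {x : K // π (τ x * x) = 0} :=
        e.toEquiv.subtypeEquiv fun v => by rw [hQ]; rfl
      have e2 : {x : K // π (τ x * x) = 0} ≃ Option T :=
        { toFun := fun x => if h : x.1 = 0 then none else some ⟨Units.mk0 x.1 h, x.2⟩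
          invFun := fun o => o.elim ⟨0, by simp⟩ fun t => ⟨(t.1 : K), t.2⟩
          left_inv := fun x => by
            by_cases h : x.1 = 0
            · simp only [dif_pos h]; exact Subtype.ext h.symm
            · simp only [dif_neg h]; rfl
          right_inv := fun o => by
            rcases o with - | t
            · simp
            · simp [Units.ne_zero] }
      rw [Nat.card_congr (e1.trans e2), Finite.card_option]
    rw [hcard] at hz1
    obtain ⟨j, rfl⟩ : ∃ j, d = j + 1 := ⟨d - 1, by omega⟩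
    rw [show 2 * (j + 1) - 1 = j + (j + 1) by omega, Nat.add_sub_cancel, ← hqdef] at hz1
    have hlt : q ^ j < q ^ (j + 1) := Nat.pow_lt_pow_right (by omega) (by omega)
    have hT : Nat.card T = (q ^ (j + 1) - 1) * (q ^ j + 1) := by
      rw [pow_add q j (j + 1)] at hz1
      generalize q ^ (j + 1) = b at hz1 hlt ⊢
      generalize q ^ j = a at hz1 hlt ⊢
      obtain ⟨c, rfl⟩ : ∃ c, b = c + 1 := ⟨b - 1, by omega⟩
      have e' : a * (c + 1) = a * c + a := by ring
      have e : (c + 1 - 1) * (a + 1) = a * c + c := by rw [Nat.add_sub_cancel]; ring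
      omega
    rw [hT] at hdvd
    have hcop : Nat.Coprime (q ^ (j + 1) + 1) (q ^ (j + 1) - 1) := by
      obtain ⟨m, hm⟩ : Even (q ^ (j + 1)) := Nat.even_pow.2 ⟨hk ▸ Nat.even_pow.2 ⟨even_two, k.ne_zero⟩, by omega⟩
      have h1 : 1 ≤ q ^ (j + 1) := Nat.one_le_pow _ _ (by omega)
      rw [show q ^ (j + 1) + 1 = q ^ (j + 1) - 1 + 2 by omega, Nat.coprime_self_add_left, Nat.coprime_two_left]
      exact ⟨m - 1, by omega⟩
    have := Nat.le_of_dvd (by omega) (hcop.dvd_of_dvd_mul_left hdvd)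
    omega
  · rw [hQ, hQ, hAe, map_mul τ, mul_mul_mul_comm, hzN, one_mul]
  · rw [← hz, ← orderOf_units]
    exact orderOf_injective (Algebra.leftMulMatrix b).toMonoidHom (Algebra.leftMulMatrix_injective b) (z : K)

end Torus

/-! ### Unipotent pieces -/

section Unipotent

variable [CharP F 2]

/-- a unipotent isometry with a single chain of length `j + 1` seen by the form -/
def Chain {ι : Type} [Fintype ι] [DecidableEq ι] (Q : QuadraticForm F (ι → F)) (j : ℕ) (x : Matrix ι ι F)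
    (w : ι → F) : Prop :=
  (∀ v, Q (x *ᵥ v) = Q v) ∧ (x - 1) ^ (j + 1) = 0 ∧ QuadraticMap.polar Q w ((x - 1) ^ j *ᵥ w) ≠ 0

omit [CharP F 2] in
theorem reflect_sub {ι : Type} [Fintype ι] [DecidableEq ι] (Q : QuadraticForm F (ι → F)) (z v : ι → F) :
    (Cfsg.reflectionMatrix ⇑Q z - 1) *ᵥ v = -((Q z)⁻¹ * QuadraticMap.polar Q z v) • z := by
  rw [Matrix.sub_mulVec, Matrix.one_mulVec, QuadStd.reflection_mulVec Q z v]
  rw [neg_smul]
  abel

theorem reflect_chain {ι : Type} [Fintype ι] [DecidableEq ι] (Q : QuadraticForm F (ι → F)) {z w : ι → F}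
    (hz : Q z ≠ 0) (hw : QuadraticMap.polar Q z w ≠ 0) : Chain Q 1 (Cfsg.reflectionMatrix ⇑Q z) w := by
  refine ⟨QuadStd.reflection_map Q z, ?_, ?_⟩
  · refine Matrix.ext_of_mulVec_single fun i => ?_
    rw [sq, ← Matrix.mulVec_mulVec, reflect_sub, reflect_sub, QuadraticMap.polar_smul_right,
      QuadraticMap.polar_self, Matrix.zero_mulVec, two_nsmul, CharTwo.add_self_eq_zero]
    simp
  · rw [pow_one, reflect_sub, QuadraticMap.polar_smul_right, smul_eq_mul, QuadraticMap.polar_comm _ w z]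
    exact mul_ne_zero (neg_ne_zero.2 (mul_ne_zero (inv_ne_zero hz) hw)) hw

/-- the Eichler extension of an isometry -/
noncomputable def eich {ι : Type} [Fintype ι] [DecidableEq ι] (Q : QuadraticForm F (ι → F)) (x : Matrix ι ι F)
    (w : ι → F) : ((Fin 1 ⊕ Fin 1) ⊕ ι → F) →ₗ[F] ((Fin 1 ⊕ Fin 1) ⊕ ι → F) where
  toFun u := Sum.elim
    (Sum.elim (fun _ => u (.inl (.inl 0)) + QuadraticMap.polar Q w (x *ᵥ (u ∘ Sum.inr)) + Q w * u (.inl (.inr 0)))
      (fun _ => u (.inl (.inr 0))))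
    (x *ᵥ (u ∘ Sum.inr) + u (.inl (.inr 0)) • w)
  map_add' u v := by
    funext i
    rcases i with (i | i) | i
    · simp only [Sum.elim_inl, Pi.add_apply]
      rw [show (u + v) ∘ Sum.inr = u ∘ Sum.inr + v ∘ Sum.inr from rfl, Matrix.mulVec_add, QuadraticMap.polar_add_right]
      ring
    · simp only [Sum.elim_inl, Sum.elim_inr, Pi.add_apply]
    · simp only [Sum.elim_inr, Pi.add_apply, Pi.smul_apply, smul_eq_mul]
      rw [show (u + v) ∘ Sum.inr = u ∘ Sum.inr + v ∘ Sum.inr from rfl, Matrix.mulVec_add]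
      simp only [Pi.add_apply]
      ring
  map_smul' c u := by
    funext i
    rcases i with (i | i) | i
    · simp only [Sum.elim_inl, Pi.smul_apply, RingHom.id_apply, smul_eq_mul]
      rw [show (c • u) ∘ Sum.inr = c • (u ∘ Sum.inr) from rfl, Matrix.mulVec_smul, QuadraticMap.polar_smul_right,
        smul_eq_mul]
      ring
    · simp only [Sum.elim_inl, Sum.elim_inr, Pi.smul_apply, RingHom.id_apply, smul_eq_mul]
    · simp only [Sum.elim_inr, Pi.add_apply, Pi.smul_apply, RingHom.id_apply, smul_eq_mul]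
      rw [show (c • u) ∘ Sum.inr = c • (u ∘ Sum.inr) from rfl, Matrix.mulVec_smul]
      simp only [Pi.smul_apply, smul_eq_mul]
      ring

/-- the chain lengthens by two -/
theorem eich_chain {ι : Type} [Fintype ι] [DecidableEq ι] {Q : QuadraticForm F (ι → F)} {j : ℕ}
    {x : Matrix ι ι F} {w : ι → F} (hj : 1 ≤ j) (h : Chain Q j x w) :
    ∃ (x' : Matrix ((Fin 1 ⊕ Fin 1) ⊕ ι) ((Fin 1 ⊕ Fin 1) ⊕ ι) F) (w' : (Fin 1 ⊕ Fin 1) ⊕ ι → F),
      Chain (sumQ (plusQ F 1) Q) (j + 2) x' w' ∧ (x' - 1) ^ (j + 2) ≠ 0 := by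
  obtain ⟨hx, hn, hB⟩ := h
  set T := eich Q x w
  set n := x - 1 with hn'
  set w' : (Fin 1 ⊕ Fin 1) ⊕ ι → F := Sum.elim (Sum.elim 0 1) 0
  have hN : ∀ u, (LinearMap.toMatrix' T - 1) *ᵥ u = Sum.elim
      (Sum.elim (fun _ => QuadraticMap.polar Q w (x *ᵥ (u ∘ Sum.inr)) + Q w * u (.inl (.inr 0))) (fun _ => 0))
      (n *ᵥ (u ∘ Sum.inr) + u (.inl (.inr 0)) • w) := by
    intro u
    rw [Matrix.sub_mulVec, Matrix.one_mulVec, ← Matrix.toLin'_apply, Matrix.toLin'_toMatrix']
    funext i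
    rcases i with (i | i) | i
    · simp [T, eich, Subsingleton.elim i 0]
      ring
    · simp [T, eich, Subsingleton.elim i 0]
    · simp [T, eich, hn', Matrix.sub_mulVec]
      ring
  -- the orbit of a vector
  have hiter : ∀ (u : (Fin 1 ⊕ Fin 1) ⊕ ι → F) (i : ℕ), (LinearMap.toMatrix' T - 1) ^ (i + 2) *ᵥ u = Sum.elim
      (Sum.elim (fun _ => QuadraticMap.polar Q w (x *ᵥ (n ^ i *ᵥ (n *ᵥ (u ∘ Sum.inr) + u (.inl (.inr 0)) • w))))
        (fun _ => 0))
      (n ^ (i + 1) *ᵥ (n *ᵥ (u ∘ Sum.inr) + u (.inl (.inr 0)) • w)) := by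
    intro u i
    induction i with
    | zero =>
      rw [zero_add, pow_two, ← Matrix.mulVec_mulVec, hN, hN]
      simp only [pow_zero, Matrix.one_mulVec, zero_add, pow_one, Sum.elim_inl, Sum.elim_inr, mul_zero, add_zero,
        zero_smul, Sum.elim_comp_inr]
    | succ i ih =>
      rw [show i + 1 + 2 = (i + 2) + 1 by ring, pow_succ', ← Matrix.mulVec_mulVec, ih, hN]
      simp only [Sum.elim_inl, Sum.elim_inr, mul_zero, add_zero, zero_smul, Sum.elim_comp_inr]
      rw [pow_succ' n (i + 1), ← Matrix.mulVec_mulVec]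
  have hfix : x *ᵥ (n ^ j *ᵥ w) = n ^ j *ᵥ w := by
    have : n *ᵥ (n ^ j *ᵥ w) = 0 := by rw [Matrix.mulVec_mulVec, ← pow_succ', hn, Matrix.zero_mulVec]
    rw [hn', Matrix.sub_mulVec, Matrix.one_mulVec, sub_eq_zero] at this
    exact this
  have hw : (LinearMap.toMatrix' T - 1) ^ (j + 2) *ᵥ w' =
      Sum.elim (Sum.elim (fun _ => QuadraticMap.polar Q w (n ^ j *ᵥ w)) (fun _ => 0)) 0 := by
    rw [hiter, show w' ∘ Sum.inr = 0 from rfl, show w' (.inl (.inr 0)) = 1 from rfl, Matrix.mulVec_zero, zero_add,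
      one_smul, hfix, hn, Matrix.zero_mulVec]
  refine ⟨LinearMap.toMatrix' T, w', ⟨fun u => ?_, ?_, ?_⟩, fun h0 => hB ?_⟩
  · rw [← Matrix.toLin'_apply, Matrix.toLin'_toMatrix', sumQ_apply, sumQ_apply, plusQ_apply, plusQ_apply]
    simp only [Cfsg.quadFormPlus, Fin.sum_univ_one, Function.comp_apply]
    simp only [T, eich, LinearMap.coe_mk, AddHom.coe_mk, Sum.elim_inl, Sum.elim_inr, Sum.elim_comp_inr]
    rw [QuadraticMap.map_add Q, hx, QuadraticMap.map_smul, QuadraticMap.polar_smul_right,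
      QuadraticMap.polar_comm _ (x *ᵥ _) w]
    simp only [smul_eq_mul]
    linear_combination (Q w * u (.inl (.inr 0)) * u (.inl (.inr 0)) +
      u (.inl (.inr 0)) * QuadraticMap.polar Q w (x *ᵥ (u ∘ Sum.inr))) * CharTwo.two_eq_zero (R := F)
  · refine Matrix.ext_of_mulVec_single fun i => ?_
    rw [show j + 2 + 1 = (j + 1) + 2 by ring, hiter, hn, Matrix.zero_mulVec, Matrix.zero_mulVec]
    rw [pow_succ n (j + 1), ← Matrix.mulVec_mulVec, hn, Matrix.zero_mulVec, Matrix.mulVec_zero]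
    funext k
    rcases k with (k | k) | k <;> simp [QuadraticMap.polar]
  · rw [hw]
    have hsum : ∀ a c : (Fin 1 ⊕ Fin 1) ⊕ ι → F, QuadraticMap.polar (sumQ (plusQ F 1) Q) a c =
        QuadraticMap.polar (plusQ F 1) (a ∘ Sum.inl) (c ∘ Sum.inl) + QuadraticMap.polar Q (a ∘ Sum.inr) (c ∘ Sum.inr) := by
      intro a c
      simp only [QuadraticMap.polar, sumQ_apply]
      rw [show (a + c) ∘ Sum.inl = a ∘ Sum.inl + c ∘ Sum.inl from rfl,
        show (a + c) ∘ Sum.inr = a ∘ Sum.inr + c ∘ Sum.inr from rfl]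
      ring
    rw [hsum]
    simpa [w', QuadraticMap.polar, plusQ_apply, Cfsg.quadFormPlus] using hB
  · have := congrFun (hw.symm.trans (by rw [h0, Matrix.zero_mulVec])) (.inl (.inl 0))
    simpa using this

end Unipotent

end Cfsg.Agent.GenA.Spec.Eight
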