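import Mathlib
import Cfsg.Agent.GenA.Spec.OrthPieces

/-!
# Tori and unipotent pieces of both types
-/

set_option autoImplicit false

namespace Cfsg.Agent.GenA.Spec.Eight

open Matrix Finset Module Cfsg.Agent.Forms Cfsg.Agent.Forms.PlusStd
open Cfsg.Agent.Classical.OrthTypes Cfsg.Agent.Classical.OrthForms

universe u

variable {F : Type u} [Field F] [Fintype F] [CharP F 2]

/-- a space of half dimension `m` and type `b` with an isometry of order `n` -/
def Tor (F : Type u) [Field F] (m : ℕ) (b : Bool) (n : ℕ) : Prop :=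
  ∃ (ι : Type) (_ : Fintype ι) (_ : DecidableEq ι) (Q : QuadraticForm F (ι → F)) (A : Matrix ι ι F),
    Typed m b Q ∧ (∀ v, Q (A *ᵥ v) = Q v) ∧ orderOf A = n

/-- a space of half dimension `m` and type `b` with a unipotent isometry `x` of order `2 ^ t`,
whose cyclic sum is non-zero -/
def Uni (F : Type u) [Field F] (m : ℕ) (b : Bool) (t : ℕ) (E : Prop → Prop) : Prop :=
  ∃ (ι : Type) (_ : Fintype ι) (_ : DecidableEq ι) (Q : QuadraticForm F (ι → F)) (A : Matrix ι ι F),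
    Typed m b Q ∧ (∀ v, Q (A *ᵥ v) = Q v) ∧ A ^ 2 ^ t = 1 ∧ (∀ i, i < t → A ^ 2 ^ i ≠ 1) ∧
      E ((A - 1) ^ (2 ^ t - 1) ≠ 0 ∧ Even (Module.finrank F (LinearMap.ker (Matrix.toLin' (A - 1)))))

theorem blocks_pow {ι κ : Type} [Fintype ι] [DecidableEq ι] [Fintype κ] [DecidableEq κ]
    (A : Matrix ι ι F) (B : Matrix κ κ F) (k : ℕ) :
    (Matrix.fromBlocks A 0 0 B) ^ k = Matrix.fromBlocks (A ^ k) 0 0 (B ^ k) := by
  induction k with
  | zero => simp [Matrix.fromBlocks_one]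
  | succ k ih => rw [pow_succ, ih, Matrix.fromBlocks_multiply]; simp [pow_succ]

theorem blocks_order {ι κ : Type} [Fintype ι] [DecidableEq ι] [Fintype κ] [DecidableEq κ]
    (A : Matrix ι ι F) (B : Matrix κ κ F) :
    orderOf (Matrix.fromBlocks A 0 0 B) = Nat.lcm (orderOf A) (orderOf B) := by
  refine Nat.dvd_antisymm (orderOf_dvd_of_pow_eq_one ?_) (Nat.lcm_dvd ?_ ?_)
  · rw [blocks_pow, orderOf_dvd_iff_pow_eq_one.1 (Nat.dvd_lcm_left (orderOf A) (orderOf B)),
      orderOf_dvd_iff_pow_eq_one.1 (Nat.dvd_lcm_right (orderOf A) (orderOf B)), Matrix.fromBlocks_one]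
  all_goals
    have h := pow_orderOf_eq_one (Matrix.fromBlocks A 0 0 B)
    rw [blocks_pow, ← Matrix.fromBlocks_one, Matrix.fromBlocks_inj] at h
    first
      | exact orderOf_dvd_of_pow_eq_one h.1
      | exact orderOf_dvd_of_pow_eq_one h.2.2.2

theorem ker_blocks {ι κ : Type} [Fintype ι] [DecidableEq ι] [Fintype κ] [DecidableEq κ]
    (A : Matrix ι ι F) (B : Matrix κ κ F) :
    Module.finrank F (LinearMap.ker (Matrix.toLin' (Matrix.fromBlocks A 0 0 B))) =
      Module.finrank F (LinearMap.ker (Matrix.toLin' A)) + Module.finrank F (LinearMap.ker (Matrix.toLin' B)) := by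
  rw [← Module.finrank_prod]
  let e := LinearEquiv.sumArrowLequivProdArrow ι κ F F
  have hmap : (LinearMap.ker (Matrix.toLin' (Matrix.fromBlocks A 0 0 B))).map (e : (ι ⊕ κ → F) →ₗ[F] _) =
      (LinearMap.ker (Matrix.toLin' A)).prod (LinearMap.ker (Matrix.toLin' B)) := by
    ext ⟨x, y⟩
    rw [Submodule.mem_map_equiv, LinearMap.mem_ker, Matrix.toLin'_apply, Matrix.fromBlocks_mulVec,
      Submodule.mem_prod, LinearMap.mem_ker, LinearMap.mem_ker, Matrix.toLin'_apply, Matrix.toLin'_apply]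
    simp only [Matrix.zero_mulVec, add_zero, zero_add]
    constructor
    · intro h
      exact ⟨funext fun i => congrFun h (Sum.inl i), funext fun i => congrFun h (Sum.inr i)⟩
    · rintro ⟨h1, h2⟩
      funext i
      rcases i with i | i
      · exact congrFun h1 i
      · exact congrFun h2 i
  rw [← LinearEquiv.finrank_map_eq e, hmap]
  exact LinearEquiv.finrank_eq
    { toFun := fun z => (⟨z.1.1, (Submodule.mem_prod.1 z.2).1⟩, ⟨z.1.2, (Submodule.mem_prod.1 z.2).2⟩)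
      invFun := fun z => ⟨(z.1.1, z.2.1), Submodule.mem_prod.2 ⟨z.1.2, z.2.2⟩⟩
      map_add' := fun _ _ => rfl
      map_smul' := fun _ _ => rfl
      left_inv := fun _ => rfl
      right_inv := fun _ => rfl }

omit [Fintype F] [CharP F 2] in
theorem finrank_ker_le {ι : Type} [Fintype ι] [DecidableEq ι] {N : Matrix ι ι F} {j : ℕ} (h : N ^ j ≠ 0)
    (h' : N ^ (j + 1) = 0) (hc : Fintype.card ι = j + 1) : Module.finrank F (LinearMap.ker (Matrix.toLin' N)) = 1 := by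
  have hpow : ∀ i, (Matrix.toLin' N) ^ i = Matrix.toLin' (N ^ i) := fun i => (map_pow Matrix.toLinAlgEquiv' N i).symm
  obtain ⟨v, hv⟩ : ∃ v, N ^ j *ᵥ v ≠ 0 := by
    by_contra hh
    push Not at hh
    exact h (Matrix.ext_of_mulVec_single fun i => by rw [hh, Matrix.zero_mulVec])
  have h1 := chain_le (Matrix.toLin' N) v j (by rwa [hpow, Matrix.toLin'_apply])
    (by rw [hpow, Matrix.toLin'_apply, h', Matrix.zero_mulVec]) j le_rfl
  have h2 := Submodule.finrank_le (LinearMap.ker ((Matrix.toLin' N) ^ (j + 1)))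
  rw [Module.finrank_pi] at h2
  have h3 : 1 ≤ Module.finrank F (LinearMap.ker (Matrix.toLin' N)) := by
    refine Submodule.one_le_finrank_iff.2 fun he => hv ?_
    have hm : N ^ j *ᵥ v ∈ LinearMap.ker (Matrix.toLin' N) := by
      rw [LinearMap.mem_ker, Matrix.toLin'_apply, Matrix.mulVec_mulVec, ← pow_succ', h', Matrix.zero_mulVec]
    rwa [he, Submodule.mem_bot] at hm
  omega

theorem sub_one_pow {R : Type*} [Ring R] [CharP R 2] (x : R) (t : ℕ) : (x - 1) ^ 2 ^ t = x ^ 2 ^ t - 1 := by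
  have : Fact (Nat.Prime 2) := ⟨Nat.prime_two⟩
  rw [sub_pow_char_pow_of_commute (p := 2) t (Commute.one_right x), one_pow]

/-- the anisotropic or hyperbolic plane -/
theorem exists_plane (b : Bool) :
    ∃ (ι : Type) (_ : Fintype ι) (_ : DecidableEq ι) (Q : QuadraticForm F (ι → F)) (x : Matrix ι ι F) (w : ι → F),
      Typed 1 b Q ∧ Chain Q 1 x w := by
  cases b
  · obtain ⟨ζ, hζ⟩ := exists_zeta (F := F)
    refine ⟨(Fin 0 ⊕ Fin 0) ⊕ Fin 2, inferInstance, inferInstance, minQ F 0 1 ζ, _, Sum.elim 0 ![0, 1], typed_min hζ 0,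
      reflect_chain _ (z := Sum.elim 0 ![1, 0]) ?_ ?_⟩
    · simp [minQ_apply, plusQ_apply, Cfsg.quadFormPlus]
    · rw [minQ_polar]
      simp [QuadraticMap.polar, plusQ_apply, Cfsg.quadFormPlus]
  · refine ⟨Fin 1 ⊕ Fin 1, inferInstance, inferInstance, plusQ F 1, _, Sum.elim 1 0, typed_plus 1,
      reflect_chain _ (z := 1) ?_ ?_⟩
    · simp [plusQ_apply, Cfsg.quadFormPlus]
    · simp only [QuadraticMap.polar, plusQ_apply, Cfsg.quadFormPlus, Fin.sum_univ_one, Pi.add_apply,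
        Sum.elim_inl, Sum.elim_inr, Pi.one_apply, Pi.zero_apply]
      simp [CharTwo.add_self_eq_zero]

/-- four and six dimensional spaces with long chains -/
theorem exists_four (b : Bool) :
    ∃ (ι : Type) (_ : Fintype ι) (_ : DecidableEq ι) (Q : QuadraticForm F (ι → F)) (x : Matrix ι ι F) (w : ι → F),
      Typed 2 b Q ∧ Chain Q 3 x w ∧ (x - 1) ^ 3 ≠ 0 := by
  obtain ⟨ι, _, _, Q, x, w, hT, hc⟩ := exists_plane (F := F) b
  obtain ⟨x', w', hc', hne⟩ := eich_chain le_rfl hc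
  exact ⟨_, inferInstance, inferInstance, _, x', w', by simpa using typed_sum (typed_plus (F := F) 1) hT, hc', hne⟩

theorem exists_six (b : Bool) :
    ∃ (ι : Type) (_ : Fintype ι) (_ : DecidableEq ι) (Q : QuadraticForm F (ι → F)) (x : Matrix ι ι F) (w : ι → F),
      Typed 3 b Q ∧ Chain Q 5 x w ∧ (x - 1) ^ 5 ≠ 0 := by
  obtain ⟨ι, _, _, Q, x, w, hT, hc, -⟩ := exists_four (F := F) b
  obtain ⟨x', w', hc', hne⟩ := eich_chain (by norm_num) hc
  exact ⟨_, inferInstance, inferInstance, _, x', w', by simpa using typed_sum (typed_plus (F := F) 1) hT, hc', hne⟩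

theorem uni_sp (m t : ℕ) (b : Bool) (hmt : (m = 1 ∧ t = 1) ∨ (m = 2 ∧ t = 2) ∨ (m = 3 ∧ t = 3)) :
    Uni F m b t (fun _ => True) := by
  rcases hmt with ⟨rfl, rfl⟩ | ⟨rfl, rfl⟩ | ⟨rfl, rfl⟩
  · obtain ⟨ι, i1, i2, Q, x, w, hT, hx, h0, hB⟩ := exists_plane (F := F) b
    have : Nonempty ι := Fintype.card_pos_iff.1 (by rw [hT.1]; norm_num)
    have h2 : x ^ 2 ^ 1 = 1 := sub_eq_zero.1 (by rw [← sub_one_pow]; exact h0)
    refine ⟨ι, i1, i2, Q, x, hT, hx, h2, fun i hi h => hB ?_, trivial⟩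
    obtain rfl : i = 0 := by omega
    rw [pow_zero, pow_one] at h
    rw [h, sub_self, pow_one, Matrix.zero_mulVec, QuadraticMap.polar_zero_right]
  · obtain ⟨ι, i1, i2, Q, x, w, hT, ⟨hx, h0, -⟩, hne⟩ := exists_four (F := F) b
    have : Nonempty ι := Fintype.card_pos_iff.1 (by rw [hT.1]; norm_num)
    refine ⟨ι, i1, i2, Q, x, hT, hx, sub_eq_zero.1 (by rw [← sub_one_pow]; exact h0), fun i hi h => hne ?_, trivial⟩
    have h4 : (x - 1) ^ 2 ^ i = 0 := by rw [sub_one_pow, h, sub_self]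
    refine pow_eq_zero_of_le ?_ h4
    interval_cases i <;> norm_num
  · obtain ⟨ι, i1, i2, Q, x, w, hT, ⟨hx, h0, -⟩, hne⟩ := exists_six (F := F) b
    have : Nonempty ι := Fintype.card_pos_iff.1 (by rw [hT.1]; norm_num)
    refine ⟨ι, i1, i2, Q, x, hT, hx, sub_eq_zero.1 (by rw [← sub_one_pow]; exact pow_eq_zero_of_le (by norm_num) h0),
      fun i hi h => hne ?_, trivial⟩
    have h4 : (x - 1) ^ 2 ^ i = 0 := by rw [sub_one_pow, h, sub_self]
    refine pow_eq_zero_of_le ?_ h4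
    interval_cases i <;> norm_num

theorem uni_omega (m t : ℕ) (b : Bool) (hmt : (m = 1 ∧ t = 0) ∨ (m = 2 ∧ t = 1) ∨ (m = 3 ∧ t = 2)) :
    Uni F m b t id := by
  rcases hmt with ⟨rfl, rfl⟩ | ⟨rfl, rfl⟩ | ⟨rfl, rfl⟩
  · obtain ⟨ι, i1, i2, Q, x, w, hT, -⟩ := exists_plane (F := F) b
    have : Nonempty ι := Fintype.card_pos_iff.1 (by rw [hT.1]; norm_num)
    refine ⟨ι, i1, i2, Q, 1, hT, fun v => by rw [Matrix.one_mulVec], one_pow _, fun i hi => absurd hi (Nat.not_lt_zero i),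
      by simp, ?_⟩
    rw [sub_self, map_zero, LinearMap.ker_zero, finrank_top, Module.finrank_pi, hT.1]
    exact ⟨1, rfl⟩
  · obtain ⟨ι, i1, i2, Q, x, w, hT, hx, h0, hB⟩ := exists_plane (F := F) b
    obtain ⟨κ, j1, j2, R, y, w', hS, hy, g0, hB'⟩ := exists_plane (F := F) true
    have : Nonempty ι := Fintype.card_pos_iff.1 (by rw [hT.1]; norm_num)
    have hsub : Matrix.fromBlocks y 0 0 x - 1 = Matrix.fromBlocks (y - 1) 0 0 (x - 1) := by
      rw [← Matrix.fromBlocks_one, sub_eq_add_neg, Matrix.fromBlocks_neg, Matrix.fromBlocks_add]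
      simp [sub_eq_add_neg]
    have hx1 : (x - 1) ≠ 0 := fun h => hB (by rw [h, pow_one, Matrix.zero_mulVec, QuadraticMap.polar_zero_right])
    have hy1 : (y - 1) ≠ 0 := fun h => hB' (by rw [h, pow_one, Matrix.zero_mulVec, QuadraticMap.polar_zero_right])
    refine ⟨κ ⊕ ι, inferInstance, inferInstance, sumQ R Q, Matrix.fromBlocks y 0 0 x,
      by simpa using typed_sum hS hT, sum_pres hy hx, ?_, fun i hi h => hx1 ?_, ?_, ?_⟩
    · refine sub_eq_zero.1 ?_
      rw [← sub_one_pow, hsub, blocks_pow, show (y - 1) ^ 2 ^ 1 = 0 from g0, show (x - 1) ^ 2 ^ 1 = 0 from h0]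
      simp
    · obtain rfl : i = 0 := by omega
      rw [pow_zero, pow_one, ← sub_eq_zero, hsub, ← Matrix.fromBlocks_zero, Matrix.fromBlocks_inj] at h
      exact h.2.2.2
    · intro h
      rw [hsub, show 2 ^ 1 - 1 = 1 from rfl, pow_one, ← Matrix.fromBlocks_zero, Matrix.fromBlocks_inj] at h
      exact hx1 h.2.2.2
    · rw [hsub, ker_blocks, finrank_ker_le (j := 1) (by rwa [pow_one]) g0 hS.1,
        finrank_ker_le (j := 1) (by rwa [pow_one]) h0 hT.1]
      exact ⟨1, rfl⟩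
  · obtain ⟨ι, i1, i2, Q, x, w, hT, ⟨hx, h0, -⟩, hne⟩ := exists_four (F := F) b
    obtain ⟨κ, j1, j2, R, y, w', hS, hy, g0, hB'⟩ := exists_plane (F := F) true
    have : Nonempty ι := Fintype.card_pos_iff.1 (by rw [hT.1]; norm_num)
    have hsub : Matrix.fromBlocks y 0 0 x - 1 = Matrix.fromBlocks (y - 1) 0 0 (x - 1) := by
      rw [← Matrix.fromBlocks_one, sub_eq_add_neg, Matrix.fromBlocks_neg, Matrix.fromBlocks_add]
      simp [sub_eq_add_neg]
    have hy1 : (y - 1) ≠ 0 := fun h => hB' (by rw [h, pow_one, Matrix.zero_mulVec, QuadraticMap.polar_zero_right])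
    refine ⟨κ ⊕ ι, inferInstance, inferInstance, sumQ R Q, Matrix.fromBlocks y 0 0 x,
      by simpa using typed_sum hS hT, sum_pres hy hx, ?_, fun i hi h => hne ?_, ?_, ?_⟩
    · refine sub_eq_zero.1 ?_
      rw [← sub_one_pow, hsub, blocks_pow, show (x - 1) ^ 2 ^ 2 = 0 from h0,
        show (y - 1) ^ 2 ^ 2 = 0 from pow_eq_zero_of_le (by norm_num) g0]
      simp
    · have h4 : (Matrix.fromBlocks y 0 0 x - 1) ^ 2 ^ i = 0 := by rw [sub_one_pow, h, sub_self]
      rw [hsub, blocks_pow, ← Matrix.fromBlocks_zero, Matrix.fromBlocks_inj] at h4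
      refine pow_eq_zero_of_le ?_ h4.2.2.2
      interval_cases i <;> norm_num
    · intro h
      rw [hsub, blocks_pow, show 2 ^ 2 - 1 = 3 from rfl, ← Matrix.fromBlocks_zero, Matrix.fromBlocks_inj] at h
      exact hne h.2.2.2
    · rw [hsub, ker_blocks, finrank_ker_le (j := 1) (by rwa [pow_one]) g0 hS.1,
        finrank_ker_le hne h0 hT.1]
      exact ⟨1, rfl⟩

/-! ### Tori of all types -/

theorem Tor.add {m n : ℕ} {b c : Bool} {k l N : ℕ} (h : Tor F m b k) (h' : Tor F n c l) (hN : Nat.lcm k l = N) :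
    Tor F (m + n) (b == c) N := by
  obtain ⟨ι, _, _, Q, A, hT, hA, rfl⟩ := h
  obtain ⟨κ, _, _, R, B, hS, hB, rfl⟩ := h'
  exact ⟨ι ⊕ κ, inferInstance, inferInstance, _, _, typed_sum hT hS, sum_pres hA hB, by rw [blocks_order, hN]⟩

theorem tor_plus (d : ℕ) (hd : 1 ≤ d) : Tor F d true (Fintype.card F ^ d - 1) := by
  obtain ⟨A, hA, ho⟩ := exists_plus_torus (F := F) d hd
  exact ⟨_, inferInstance, inferInstance, _, A, typed_plus d, hA, ho⟩

theorem tor_minus (d : ℕ) (hd : 1 ≤ d) : Tor F d false (Fintype.card F ^ d + 1) := by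
  obtain ⟨Q, A, hT, hA, ho⟩ := exists_minus_torus (F := F) d hd
  exact ⟨_, inferInstance, inferInstance, Q, A, hT, hA, ho⟩

theorem coprime_pm {x m n : ℕ} (hx : Even x) (hx1 : 1 ≤ x) (hm : m ∣ x - 1) (hn : n ∣ x + 1) : Nat.Coprime m n := by
  refine Nat.Coprime.coprime_dvd_left hm (Nat.Coprime.coprime_dvd_right hn ?_)
  obtain ⟨j, hj⟩ := hx
  rw [show x + 1 = x - 1 + 2 by omega, Nat.coprime_self_add_right, Nat.coprime_two_right]
  exact ⟨j - 1, by omega⟩

theorem sides {q : ℕ} (hq : Fintype.card F = q) :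
    (∀ n, P4 q n → Tor F 4 false n) ∧ (∀ n, P3 q n → ∃ b, Tor F 3 b n) ∧
      (∀ n, P2 q n → ∃ b, Tor F 2 b n) ∧ (∀ n, P1 q n → ∃ b, Tor F 1 b n) := by
  have hq2 : 2 ≤ q := hq ▸ Fintype.one_lt_card
  have : Fact (Nat.Prime 2) := ⟨Nat.prime_two⟩
  obtain ⟨k, -, hk⟩ := FiniteField.card F 2
  have hqe : Even q := hq ▸ hk ▸ Nat.even_pow.2 ⟨even_two, k.ne_zero⟩
  have he : ∀ e, 1 ≤ e → Even (q ^ e) := fun e h => Nat.even_pow.2 ⟨hqe, by omega⟩
  have h1 : ∀ e, 1 ≤ q ^ e := fun e => Nat.one_le_pow _ _ (by omega)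
  have d7 : q + 1 ∣ q ^ 3 + 1 := by simpa using (show Odd 3 by decide).nat_add_dvd_pow_add_pow q 1
  have d8 : q - 1 ∣ q ^ 3 - 1 := by simpa using Nat.sub_dvd_pow_sub_pow q 1 3
  have e2 : q ^ 2 - 1 = (q + 1) * (q - 1) := by rw [← Nat.sq_sub_sq, one_pow]
  have tp := fun d hd => hq ▸ tor_plus (F := F) d hd
  have tm := fun d hd => hq ▸ tor_minus (F := F) d hd
  refine ⟨fun n hn => ?_, fun n hn => ?_, fun n hn => ?_, fun n hn => ?_⟩
  · rcases hn with rfl | rfl | rfl | rfl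
    · exact tm 4 (by norm_num)
    · refine (tm 2 (by norm_num)).add (tp 2 (by norm_num)) ?_
      rw [(coprime_pm (he 2 (by norm_num)) (h1 2) dvd_rfl dvd_rfl).symm.lcm_eq_mul]
      have := Nat.sq_sub_sq (q ^ 2) 1
      rw [one_pow, ← pow_mul] at this
      exact this.symm
    · refine (tm 3 (by norm_num)).add (tp 1 le_rfl) ?_
      rw [pow_one, (coprime_pm (he 3 (by norm_num)) (h1 3) d8 dvd_rfl).symm.lcm_eq_mul]
    · refine (tp 3 (by norm_num)).add (tm 1 le_rfl) ?_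
      rw [pow_one, (coprime_pm (he 3 (by norm_num)) (h1 3) dvd_rfl d7).lcm_eq_mul]
  · rcases hn with rfl | rfl | rfl | rfl | rfl
    · exact ⟨_, tm 3 (by norm_num)⟩
    · exact ⟨_, tp 3 (by norm_num)⟩
    · refine ⟨_, (tm 2 (by norm_num)).add (tm 1 le_rfl) ?_⟩
      rw [pow_one, (coprime_pm (he 2 (by norm_num)) (h1 2) (e2 ▸ dvd_mul_right _ _) dvd_rfl).symm.lcm_eq_mul]
    · refine ⟨_, (tm 2 (by norm_num)).add (tp 1 le_rfl) ?_⟩
      rw [pow_one, (coprime_pm (he 2 (by norm_num)) (h1 2) (e2 ▸ dvd_mul_left _ _) dvd_rfl).symm.lcm_eq_mul]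
    · refine ⟨_, (tp 2 (by norm_num)).add (tp 1 le_rfl) ?_⟩
      rw [pow_one]
      exact Nat.lcm_eq_left (e2 ▸ dvd_mul_left _ _)
  · rcases hn with rfl | rfl
    · exact ⟨_, tm 2 (by norm_num)⟩
    · exact ⟨_, tp 2 (by norm_num)⟩
  · rcases hn with rfl | rfl
    · exact ⟨_, by simpa using tm 1 le_rfl⟩
    · exact ⟨_, by simpa using tp 1 le_rfl⟩

end Cfsg.Agent.GenA.Spec.Eight
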