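import Mathlib
import Cfsg.Prelude.Def_Classical
import Cfsg.Agent.Lib.Classical.Symplectic
import Cfsg.Agent.Lib.Forms.Reflections
import Cfsg.Agent.GenA.Spec.HermInner
import Cfsg.Agent.GenA.Spec.OrthUnip

/-!
# `Sp₈(q)`, `O⁻₈(q)` and `V ⋊ Ω⁻₈(q)` for even `q`
-/

set_option autoImplicit false

namespace Cfsg.Agent.GenA.Spec.Eight

open Matrix Finset Module Cfsg.Agent.Forms Cfsg.Agent.Forms.PlusStd
open Cfsg.Agent.Classical.OrthTypes Cfsg.Agent.Classical.OrthForms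

universe u

variable {F : Type u} [Field F]

local notation "Pol" => QuadraticMap.polarBilin
local notation "Idx" => ((Fin 3 ⊕ Fin 3) ⊕ Fin 2)

theorem conj_of_form {ι : Type} [Fintype ι] [DecidableEq ι] {G M : Matrix ι ι F} (hG : IsUnit G)
    (h : Mᵀ * G * M = G) : IsUnit M ∧ M⁻¹.charpoly = M.charpoly := by
  have hGd : IsUnit G.det := (Matrix.isUnit_iff_isUnit_det G).1 hG
  have h1 : G⁻¹ * Mᵀ * G * M = 1 := by
    rw [Matrix.mul_assoc G⁻¹, Matrix.mul_assoc G⁻¹, h, Matrix.nonsing_inv_mul G hGd]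
  refine ⟨IsUnit.of_mul_eq_one_right _ h1, ?_⟩
  rw [Matrix.inv_eq_left_inv h1]
  obtain ⟨u, rfl⟩ := hG
  rw [Matrix.charpoly_units_conj', Matrix.charpoly_transpose]

/-- the change of coordinates to the symplectic basis -/
def toSymp (a : F) : Matrix (Fin 4 ⊕ Fin 4) Idx F :=
  fun i => Sum.elim
    (fun j : Fin 4 => ![Pi.single (Sum.inl (Sum.inl 0)) 1, Pi.single (Sum.inl (Sum.inl 1)) 1,
      Pi.single (Sum.inl (Sum.inl 2)) 1, Pi.single (Sum.inr 0) 1] j)
    (fun j : Fin 4 => ![Pi.single (Sum.inl (Sum.inr 0)) 1, Pi.single (Sum.inl (Sum.inr 1)) 1,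
      Pi.single (Sum.inl (Sum.inr 2)) 1, Pi.single (Sum.inr 1) a] j) i

/-- the inverse change of coordinates -/
def fromSymp (a : F) : Matrix Idx (Fin 4 ⊕ Fin 4) F :=
  fun i => Sum.elim
    (Sum.elim (fun j : Fin 3 => Pi.single (Sum.inl j.castSucc) 1) (fun j : Fin 3 => Pi.single (Sum.inr j.castSucc) 1))
    (fun j : Fin 2 => ![Pi.single (Sum.inl 3) 1, Pi.single (Sum.inr 3) a⁻¹] j) i

theorem symp_inv {a : F} (ha : a ≠ 0) : fromSymp a * toSymp a = 1 ∧ toSymp a * fromSymp a = 1 := by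
  constructor
  · ext ((i | i) | i) ((j | j) | j) <;> fin_cases i <;> fin_cases j <;>
      simp [Matrix.mul_apply, Fintype.sum_sum_type, Fin.sum_univ_four, fromSymp, toSymp, ha]
  · ext (i | i) (j | j) <;> fin_cases i <;> fin_cases j <;>
      simp [Matrix.mul_apply, Fintype.sum_sum_type, Fin.sum_univ_two, Fin.sum_univ_three, fromSymp, toSymp, ha]

section CharTwo

variable [CharP F 2]

theorem polar_symp (a b : F) (x y : Idx → F) :
    QuadraticMap.polar (minQ F 3 a b) x y = (toSymp a *ᵥ x) ⬝ᵥ (Matrix.J (Fin 4) F *ᵥ (toSymp a *ᵥ y)) := by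
  rw [minQ_polar, show ⇑(plusQ F 3) = Cfsg.quadFormPlus 3 F from funext fun v => plusQ_apply F 3 v]
  simp only [Matrix.J, Matrix.fromBlocks_mulVec, dotProduct, Fintype.sum_sum_type, QuadraticMap.polar,
    Cfsg.quadFormPlus, Fin.sum_univ_three, Fin.sum_univ_four]
  simp [toSymp, Matrix.mulVec, dotProduct, Matrix.one_apply, Fintype.sum_sum_type, Fin.sum_univ_two,
    Fin.sum_univ_three, Pi.single_apply, CharTwo.neg_eq, CharTwo.two_eq_zero]
  ring

theorem anisotropic_a [Fintype F] {a b : F}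
    (hab : ∀ z₁ z₂ : F, z₁ ^ 2 + a * z₁ * z₂ + b * z₂ ^ 2 = 0 → z₁ = 0 ∧ z₂ = 0) : a ≠ 0 := by
  intro h
  apply disc_ne_zero hab
  rw [h]
  linear_combination (2 * b) * CharTwo.two_eq_zero (R := F)

/-- the matrix of an isometry is symplectic in the new coordinates -/
theorem symp_of_pres {a b : F} (ha : a ≠ 0) {M : Matrix Idx Idx F}
    (hM : ∀ v, minQ F 3 a b (M *ᵥ v) = minQ F 3 a b v) :
    toSymp a * M * fromSymp a ∈ Matrix.symplecticGroup (Fin 4) F ∧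
      Mᵀ * ((toSymp a)ᵀ * Matrix.J (Fin 4) F * toSymp a) * M = (toSymp a)ᵀ * Matrix.J (Fin 4) F * toSymp a := by
  set T := toSymp a
  set J := Matrix.J (Fin 4) F
  have hpol : ∀ x y, QuadraticMap.polar (minQ F 3 a b) (M *ᵥ x) (M *ᵥ y) = QuadraticMap.polar (minQ F 3 a b) x y :=
    fun x y => by simp only [QuadraticMap.polar, ← Matrix.mulVec_add, hM]
  have hG : ∀ x y, QuadraticMap.polar (minQ F 3 a b) x y = x ⬝ᵥ ((Tᵀ * J * T) *ᵥ y) := fun x y => by
    rw [polar_symp, Matrix.mul_assoc, ← Matrix.mulVec_mulVec, ← Matrix.mulVec_mulVec,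
      Matrix.dotProduct_mulVec x Tᵀ, Matrix.vecMul_transpose]
  have h2 : Mᵀ * (Tᵀ * J * T) * M = Tᵀ * J * T := by
    ext i j
    have h3 := hpol (Pi.single i 1) (Pi.single j 1)
    rw [hG, hG, Matrix.mulVec_mulVec, ← Matrix.vecMul_transpose, ← Matrix.dotProduct_mulVec,
      Matrix.mulVec_mulVec, ← Matrix.mul_assoc] at h3
    simpa [Matrix.mulVec_single_one] using h3
  refine ⟨?_, h2⟩
  rw [SymplecticGroup.mem_iff', Matrix.transpose_mul, Matrix.transpose_mul]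
  have hTS : (fromSymp a)ᵀ * Tᵀ = 1 := by rw [← Matrix.transpose_mul, (symp_inv ha).2, Matrix.transpose_one]
  calc (fromSymp a)ᵀ * (Mᵀ * Tᵀ) * J * (T * M * fromSymp a)
      = (fromSymp a)ᵀ * (Mᵀ * (Tᵀ * J * T) * M) * fromSymp a := by simp only [Matrix.mul_assoc]
    _ = ((fromSymp a)ᵀ * Tᵀ) * J * (T * fromSymp a) := by rw [h2]; simp only [Matrix.mul_assoc]
    _ = J := by rw [hTS, (symp_inv ha).2, Matrix.one_mul, Matrix.mul_one]

variable [Fintype F]

theorem pres_data {a b : F} (hab : ∀ z₁ z₂ : F, z₁ ^ 2 + a * z₁ * z₂ + b * z₂ ^ 2 = 0 → z₁ = 0 ∧ z₂ = 0)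
    {M : Matrix Idx Idx F} (hM : ∀ v, minQ F 3 a b (M *ᵥ v) = minQ F 3 a b v) :
    IsUnit M ∧ M⁻¹.charpoly = M.charpoly := by
  refine conj_of_form ?_ (symp_of_pres (anisotropic_a hab) hM).2
  have hi := symp_inv (anisotropic_a hab)
  refine IsUnit.of_mul_eq_one (fromSymp a * (Matrix.J (Fin 4) F)⁻¹ * (fromSymp a)ᵀ) ?_
  have hTS : (fromSymp a)ᵀ * (toSymp a)ᵀ = 1 := by rw [← Matrix.transpose_mul, hi.2, Matrix.transpose_one]
  have hST : (toSymp a)ᵀ * (fromSymp a)ᵀ = 1 := by rw [← Matrix.transpose_mul, hi.1, Matrix.transpose_one]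
  calc (toSymp a)ᵀ * Matrix.J (Fin 4) F * toSymp a * (fromSymp a * (Matrix.J (Fin 4) F)⁻¹ * (fromSymp a)ᵀ)
      = (toSymp a)ᵀ * (Matrix.J (Fin 4) F * (toSymp a * fromSymp a) * (Matrix.J (Fin 4) F)⁻¹) * (fromSymp a)ᵀ := by
        simp only [Matrix.mul_assoc]
    _ = 1 := by rw [hi.2, Matrix.mul_one, Matrix.mul_nonsing_inv _ (Matrix.isUnit_det_J _ _), Matrix.mul_one, hST]

theorem min_upper {a b : F} (hab : ∀ z₁ z₂ : F, z₁ ^ 2 + a * z₁ * z₂ + b * z₂ ^ 2 = 0 → z₁ = 0 ∧ z₂ = 0)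
    {M : Matrix Idx Idx F} (hM : ∀ v, minQ F 3 a b (M *ᵥ v) = minQ F 3 a b v) :
    0 < orderOf M ∧ orderOf M ∈ spEight (Fintype.card F) := by
  obtain ⟨hu, hc⟩ := pres_data hab hM
  obtain ⟨N, hN, hMN⟩ := exists_exponent (by simp) hu hc
  refine ⟨?_, spEight_of_dvd hN (orderOf_dvd_of_pow_eq_one hMN)⟩
  obtain ⟨u, rfl⟩ := hu
  rw [orderOf_units]
  exact orderOf_pos u

theorem psp_upper (x : Cfsg.PSp 4 F) : orderOf x ∈ spEight (Fintype.card F) := by
  obtain ⟨g, rfl⟩ := QuotientGroup.mk_surjective x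
  have hJ : IsUnit (Matrix.J (Fin 4) F) := (Matrix.isUnit_iff_isUnit_det _).2 (Matrix.isUnit_det_J _ _)
  obtain ⟨hu, hc⟩ := conj_of_form hJ (SymplecticGroup.mem_iff'.1 g.2)
  obtain ⟨N, hN, hgN⟩ := exists_exponent (by simp) hu hc
  refine spEight_of_dvd hN ((orderOf_map_dvd (QuotientGroup.mk' _) g).trans (orderOf_dvd_of_pow_eq_one ?_))
  exact Subtype.ext (by rw [SubmonoidClass.coe_pow, hgN]; rfl)

theorem psp_lower {a b : F} (hab : ∀ z₁ z₂ : F, z₁ ^ 2 + a * z₁ * z₂ + b * z₂ ^ 2 = 0 → z₁ = 0 ∧ z₂ = 0)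
    {M : Matrix Idx Idx F} (hM : ∀ v, minQ F 3 a b (M *ᵥ v) = minQ F 3 a b v) :
    orderOf M ∈ Set.range (orderOf : Cfsg.PSp 4 F → ℕ) := by
  have ha := anisotropic_a hab
  have hi := symp_inv ha
  let g : Matrix.symplecticGroup (Fin 4) F := ⟨toSymp a * M * fromSymp a, (symp_of_pres ha hM).1⟩
  have hpow : ∀ n, (g : Matrix (Fin 4 ⊕ Fin 4) (Fin 4 ⊕ Fin 4) F) ^ n = toSymp a * M ^ n * fromSymp a := by
    intro n
    induction n with
    | zero => rw [pow_zero, pow_zero, Matrix.mul_one, hi.2]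
    | succ n ih =>
      rw [pow_succ, ih, pow_succ]
      show toSymp a * M ^ n * fromSymp a * (toSymp a * M * fromSymp a) = _
      rw [show toSymp a * M ^ n * fromSymp a * (toSymp a * M * fromSymp a) =
        toSymp a * M ^ n * (fromSymp a * toSymp a) * M * fromSymp a by simp only [Matrix.mul_assoc], hi.1]
      simp only [Matrix.mul_one, Matrix.mul_assoc]
  refine ⟨QuotientGroup.mk g, orderOf_eq_orderOf_iff.2 fun n => ?_⟩
  rw [← QuotientGroup.mk_pow, QuotientGroup.eq_one_iff, Classical.Symplectic.mem_center_iff]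
  constructor
  · rintro ⟨c, hc⟩
    have h1 : ((g ^ n : Matrix.symplecticGroup (Fin 4) F) : Matrix (Fin 4 ⊕ Fin 4) (Fin 4 ⊕ Fin 4) F) = c • 1 := by
      refine Matrix.ext_of_mulVec_single fun i => ?_
      rw [hc, Matrix.smul_mulVec, Matrix.one_mulVec]
    have h2 := SymplecticGroup.mem_iff.1 (g ^ n).2
    rw [h1, Matrix.transpose_smul, Matrix.transpose_one, Matrix.smul_mul, one_mul, Matrix.mul_smul, mul_one,
      smul_smul] at h2
    have h3 := congrFun (congrFun h2 (Sum.inl 0)) (Sum.inr 0)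
    simp [Matrix.J, CharTwo.neg_eq] at h3
    have hc1 : c = 1 := by
      rcases sq_eq_one_iff.1 ((sq c).trans h3) with h | h
      · exact h
      · rw [h, CharTwo.neg_eq]
    rw [SubmonoidClass.coe_pow, hpow, hc1, one_smul] at h1
    have h4 := congrArg (fun X => fromSymp a * X * toSymp a) h1
    simp only [← Matrix.mul_assoc, hi.1, Matrix.one_mul, Matrix.mul_one] at h4
    rwa [Matrix.mul_assoc, hi.1, Matrix.mul_one] at h4
  · intro h
    refine ⟨1, fun v => ?_⟩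
    rw [SubmonoidClass.coe_pow, hpow, h, Matrix.mul_one, hi.2, Matrix.one_mulVec, one_smul]

omit [CharP F 2] in
/-- transfer of an isometry to the standard minus form -/
theorem transfer {ι : Type} [Fintype ι] [DecidableEq ι] {Q : QuadraticForm F (ι → F)} (hT : Typed 4 false Q)
    {a b : F} (hab : ∀ z₁ z₂ : F, z₁ ^ 2 + a * z₁ * z₂ + b * z₂ ^ 2 = 0 → z₁ = 0 ∧ z₂ = 0) :
    ∃ φ : Matrix ι ι F ≃ₐ[F] Matrix Idx Idx F,
      (∀ A, (∀ v, Q (A *ᵥ v) = Q v) → ∀ v, minQ F 3 a b (φ A *ᵥ v) = minQ F 3 a b v) ∧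
      ∀ B, Module.finrank F (LinearMap.ker (Matrix.toLin' (φ B))) = Module.finrank F (LinearMap.ker (Matrix.toLin' B)) := by
  obtain ⟨e, he⟩ := exists_isometry (m := 4) (R := minQ F 3 a b) hT.1 (by simp) hT.2.1 (minQ_nondeg 3 hab)
    (iff_of_false (fun h => by simpa using hT.2.2.1 h) (not_isPlus_minQ hab))
  refine ⟨Matrix.toLinAlgEquiv'.trans ((e.conjAlgEquiv F).trans LinearMap.toMatrixAlgEquiv'), fun A hA v => ?_,
    fun B => ?_⟩
  · rw [← Matrix.toLin'_apply]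
    show minQ F 3 a b (Matrix.toLinAlgEquiv' (LinearMap.toMatrixAlgEquiv' (e.conjAlgEquiv F (Matrix.toLinAlgEquiv' A))) v) = _
    rw [Matrix.toLinAlgEquiv'_toMatrixAlgEquiv']
    show minQ F 3 a b (e (A *ᵥ e.symm v)) = _
    rw [he, hA, ← he, e.apply_symm_apply]
  · have h1 : Matrix.toLin' ((Matrix.toLinAlgEquiv'.trans ((e.conjAlgEquiv F).trans LinearMap.toMatrixAlgEquiv')) B) =
        e.conjAlgEquiv F (Matrix.toLinAlgEquiv' B) := by
      show Matrix.toLinAlgEquiv' (LinearMap.toMatrixAlgEquiv' (e.conjAlgEquiv F (Matrix.toLinAlgEquiv' B))) = _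
      exact Matrix.toLinAlgEquiv'_toMatrixAlgEquiv' _
    rw [h1]
    have h2 : LinearMap.ker (e.conjAlgEquiv F (Matrix.toLinAlgEquiv' B)) =
        (LinearMap.ker (Matrix.toLin' B)).map (e : (ι → F) →ₗ[F] (Idx → F)) := by
      ext v
      rw [Submodule.mem_map_equiv, LinearMap.mem_ker, LinearMap.mem_ker]
      show e (B *ᵥ e.symm v) = 0 ↔ Matrix.toLin' B (e.symm v) = 0
      rw [LinearEquiv.map_eq_zero_iff, Matrix.toLin'_apply]
    rw [h2, LinearEquiv.finrank_map_eq]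

omit [Fintype F] in
theorem blocks_sum {ι κ : Type} [Fintype ι] [DecidableEq ι] [Fintype κ] [DecidableEq κ]
    (A : Matrix ι ι F) (B : Matrix κ κ F) (n : ℕ) :
    ∑ i ∈ range n, (Matrix.fromBlocks A 0 0 B) ^ i =
      Matrix.fromBlocks (∑ i ∈ range n, A ^ i) 0 0 (∑ i ∈ range n, B ^ i) := by
  induction n with
  | zero => simp
  | succ n ih =>
    rw [sum_range_succ, ih, sum_range_succ, sum_range_succ]
    have hp : (Matrix.fromBlocks A 0 0 B) ^ n = Matrix.fromBlocks (A ^ n) 0 0 (B ^ n) := by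
      clear ih
      induction n with
      | zero => simp [Matrix.fromBlocks_one]
      | succ k ih => rw [pow_succ, ih, Matrix.fromBlocks_multiply]; simp [pow_succ]
    rw [hp, Matrix.fromBlocks_add, add_zero, add_zero]

/-- combining a torus with a unipotent piece -/
theorem glue {m1 m2 : ℕ} {b1 b2 : Bool} {n t : ℕ} {E : Prop → Prop}
    (hmono : E False → E True) (hm : m1 + m2 = 4)
    (hb : (b1 == b2) = false) (hn : Odd n) (hs : Tor F m1 b1 n) (hu : Uni F m2 b2 t E) {a b : F}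
    (hab : ∀ z₁ z₂ : F, z₁ ^ 2 + a * z₁ * z₂ + b * z₂ ^ 2 = 0 → z₁ = 0 ∧ z₂ = 0) :
    ∃ M : Matrix Idx Idx F, (∀ v, minQ F 3 a b (M *ᵥ v) = minQ F 3 a b v) ∧ orderOf M = n * 2 ^ t ∧
      E ((∑ i ∈ range (n * 2 ^ t), M ^ i) ≠ 0 ∧
        Even (Module.finrank F (LinearMap.ker (Matrix.toLin' (M ^ n - 1))))) := by
  obtain ⟨ι, _, _, Q, A, hT, hA, hoA⟩ := hs
  obtain ⟨κ, _, _, R, B, hS, hB, hB1, hB2, hE⟩ := hu
  have hsum : Typed 4 false (sumQ Q R) := hm ▸ hb ▸ typed_sum hT hS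
  obtain ⟨φ, hφ, hker⟩ := transfer hsum hab
  refine ⟨φ (Matrix.fromBlocks A 0 0 B), hφ _ (sum_pres hA hB), ?_, ?_⟩
  · have hoB : orderOf B = 2 ^ t := by
      have : Fact (Nat.Prime 2) := ⟨Nat.prime_two⟩
      rcases t with - | t
      · rw [pow_zero, pow_one] at hB1
        rw [hB1, orderOf_one, pow_zero]
      · exact orderOf_eq_prime_pow (hB2 t (by omega)) hB1
    rw [show orderOf (φ (Matrix.fromBlocks A 0 0 B)) = orderOf (Matrix.fromBlocks A 0 0 B) from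
      orderOf_injective φ.toAlgHom.toMonoidHom φ.injective _, blocks_order, hoA, hoB]
    exact Nat.Coprime.lcm_eq_mul (Nat.Coprime.pow_right _ (Nat.coprime_two_right.2 hn))
  have hpoly : (∑ i ∈ range (2 ^ t), B ^ i) = (B - 1) ^ (2 ^ t - 1) := by
    have : Fact (Nat.Prime 2) := ⟨Nat.prime_two⟩
    have hid : (∑ i ∈ range (2 ^ t), (Polynomial.X : Polynomial (ZMod 2)) ^ i) = (Polynomial.X - 1) ^ (2 ^ t - 1) := by
      refine mul_right_cancel₀ (Polynomial.X_sub_C_ne_zero (1 : ZMod 2)) ?_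
      rw [Polynomial.C_1, geom_sum_mul, ← pow_succ, Nat.sub_add_cancel Nat.one_le_two_pow,
        sub_pow_char_pow (p := 2), one_pow]
    letI := ZMod.algebra F 2
    have := congrArg (Polynomial.aeval B) hid
    simpa using this
  have hper : ∀ j, ∑ i ∈ range (j * 2 ^ t), B ^ i = j • ∑ i ∈ range (2 ^ t), B ^ i := by
    intro j
    induction j with
    | zero => simp
    | succ j ih =>
      rw [add_mul, one_mul, sum_range_add, ih, succ_nsmul]
      congr 1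
      refine sum_congr rfl fun i _ => ?_
      rw [pow_add, mul_comm j, pow_mul, hB1, one_pow, one_mul]
  have hone : n • (∑ i ∈ range (2 ^ t), B ^ i) = ∑ i ∈ range (2 ^ t), B ^ i := by
    obtain ⟨j, rfl⟩ := hn
    ext i k
    simp [add_smul, mul_smul, two_nsmul, CharTwo.add_self_eq_zero, CharTwo.two_eq_zero]
  obtain ⟨j, -, hj⟩ : ∃ j, j < 2 ^ (t + 1) ∧ n * j % 2 ^ (t + 1) = 1 := by
    obtain ⟨j, h1, h2⟩ := Nat.exists_mul_mod_eq_one_of_coprime
      (Nat.Coprime.pow_right (t + 1) (Nat.coprime_two_right.2 hn)) (Nat.one_lt_pow (Nat.succ_ne_zero _) one_lt_two)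
    exact ⟨j, h1, h2⟩
  have hBj : (B ^ n) ^ j = B := by
    rw [← pow_mul, ← Nat.mod_add_div (n * j) (2 ^ (t + 1)), hj, pow_add, pow_one, pow_mul,
      show B ^ 2 ^ (t + 1) = 1 by rw [pow_succ, pow_mul, hB1, one_pow], one_pow, mul_one]
  have hkerB : LinearMap.ker (Matrix.toLin' (B ^ n - 1)) = LinearMap.ker (Matrix.toLin' (B - 1)) := by
    refine le_antisymm (fun v hv => ?_) (fun v hv => ?_) <;>
      rw [LinearMap.mem_ker, Matrix.toLin'_apply] at hv ⊢
    · rw [show B - 1 = (B ^ n) ^ j - 1 by rw [hBj], ← geom_sum_mul, ← Matrix.mulVec_mulVec, hv, Matrix.mulVec_zero]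
    · rw [← geom_sum_mul, ← Matrix.mulVec_mulVec, hv, Matrix.mulVec_zero]
  have hEiff : ((B - 1) ^ (2 ^ t - 1) ≠ 0 ∧ Even (Module.finrank F (LinearMap.ker (Matrix.toLin' (B - 1))))) ↔
      ((∑ i ∈ range (n * 2 ^ t), B ^ i) ≠ 0 ∧ Even (Module.finrank F (LinearMap.ker (Matrix.toLin' (B ^ n - 1))))) := by
    rw [hper, hone, hpoly, hkerB]
  have hAn : A ^ n = 1 := hoA ▸ pow_orderOf_eq_one A
  have hblocks : ((∑ i ∈ range (n * 2 ^ t), φ (Matrix.fromBlocks A 0 0 B) ^ i) ≠ 0 ∧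
      Even (Module.finrank F (LinearMap.ker (Matrix.toLin' (φ (Matrix.fromBlocks A 0 0 B) ^ n - 1))))) ↔
      ((∑ i ∈ range (n * 2 ^ t), A ^ i) ≠ 0 ∨ (∑ i ∈ range (n * 2 ^ t), B ^ i) ≠ 0) ∧
        Even (Module.finrank F (LinearMap.ker (Matrix.toLin' (B ^ n - 1)))) := by
    simp only [← map_pow, ← map_sum]
    rw [← map_one φ, ← map_pow, ← map_sub, hker, ne_eq, map_eq_zero_iff φ φ.injective, blocks_sum, blocks_pow, hAn,
      ← Matrix.fromBlocks_zero, Matrix.fromBlocks_inj]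
    have h1 : Matrix.fromBlocks (1 : Matrix ι ι F) 0 0 (B ^ n) - 1 = Matrix.fromBlocks 0 0 0 (B ^ n - 1) := by
      rw [← Matrix.fromBlocks_one, sub_eq_add_neg, Matrix.fromBlocks_neg, Matrix.fromBlocks_add]
      simp [sub_eq_add_neg]
    rw [h1, ker_blocks, map_zero, LinearMap.ker_zero, finrank_top, Module.finrank_pi, hT.1,
      Nat.even_add, iff_true_left (even_two_mul _)]
    refine and_congr_left fun _ => ?_
    simp only [ne_eq, true_and, not_and_or]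
  have hiff := fun h => hblocks.2 (And.imp_left Or.inr (hEiff.1 h))
  by_cases hP : ((B - 1) ^ (2 ^ t - 1) ≠ 0 ∧ Even (Module.finrank F (LinearMap.ker (Matrix.toLin' (B - 1)))))
  · rw [show ((B - 1) ^ (2 ^ t - 1) ≠ 0 ∧ Even (Module.finrank F (LinearMap.ker (Matrix.toLin' (B - 1))))) = True
      from eq_true hP] at hE
    rwa [eq_true (hiff hP)]
  · by_cases hQ : ((∑ i ∈ range (n * 2 ^ t), φ (Matrix.fromBlocks A 0 0 B) ^ i) ≠ 0 ∧
      Even (Module.finrank F (LinearMap.ker (Matrix.toLin' (φ (Matrix.fromBlocks A 0 0 B) ^ n - 1)))))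
    · rw [eq_true hQ]
      rw [eq_false hP] at hE
      exact hmono hE
    · rw [eq_false hQ]
      rwa [eq_false hP] at hE

end CharTwo

end Cfsg.Agent.GenA.Spec.Eight
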