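import Mathlib
import Cfsg.Prelude.Def_Classical
import Cfsg.Agent.Lib.Forms.Reflections
import Cfsg.Agent.Lib.Classical.QuadClass
import Cfsg.Agent.GenA.Spec.HermGroups
import Cfsg.Agent.GenA.Spec.OrthEight

/-!
# The spectra of `Sp₈(q)`, `O⁻₈(q)` and of extensions by `Ω⁻₈(q)`, `q` even
-/

set_option autoImplicit false

namespace Cfsg.Agent.GenA.Spec.Eight

open Matrix Finset Module Cfsg.Agent.Forms
open Cfsg.Agent.Classical.OrthTypes Cfsg.Agent.Classical.OrthForms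

universe u

variable {F : Type u} [Field F] [Fintype F] [CharP F 2]

local notation "Idx" => ((Fin 3 ⊕ Fin 3) ⊕ Fin 2)

/-- a divisor of an element order is an element order -/
theorem mem_range_of_dvd {G : Type*} [Group G] {d : ℕ} (g : G) (h0 : 0 < orderOf g) (h : d ∣ orderOf g) :
    d ∈ Set.range (orderOf : G → ℕ) :=
  ⟨g ^ (orderOf g / d), orderOf_pow_orderOf_div h0.ne' h⟩

theorem beq_not (b : Bool) : (b == !b) = false := by cases b <;> rfl

theorem card_even : Even (Fintype.card F) := by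
  obtain ⟨k, -, hk⟩ := FiniteField.card F 2
  exact hk ▸ Nat.even_pow.2 ⟨even_two, k.ne_zero⟩

/-- all exponents occur in the orthogonal group -/
theorem iso_lower {a b : F} (hab : ∀ z₁ z₂ : F, z₁ ^ 2 + a * z₁ * z₂ + b * z₂ ^ 2 = 0 → z₁ = 0 ∧ z₂ = 0)
    {d : ℕ} (hd : d ∈ spEight (Fintype.card F)) :
    ∃ M : Matrix Idx Idx F, (∀ v, minQ F 3 a b (M *ᵥ v) = minQ F 3 a b v) ∧ d ∣ orderOf M := by
  have hq2 : 2 ≤ Fintype.card F := Fintype.one_lt_card
  obtain ⟨s4, s3, s2, s1⟩ := sides (F := F) rfl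
  have main : ∀ {m m' t n : ℕ} {c : Bool}, m + m' = 4 → (m' = 1 ∧ t = 1) ∨ (m' = 2 ∧ t = 2) ∨ (m' = 3 ∧ t = 3) →
      Odd n → Tor F m c n → d ∣ 2 ^ t * n →
      ∃ M : Matrix Idx Idx F, (∀ v, minQ F 3 a b (M *ᵥ v) = minQ F 3 a b v) ∧ d ∣ orderOf M := by
    intro m m' t n c hm ht hn hT hdn
    obtain ⟨M, hM, ho, -⟩ := glue (E := fun _ => True) id hm (beq_not c) hn hT (uni_sp m' t (!c) ht) hab
    exact ⟨M, hM, by rw [ho, mul_comm]; exact hdn⟩
  rcases hd with ⟨n, hn, hdn⟩ | ⟨n, hn, hdn⟩ | ⟨n, hn, hdn⟩ | ⟨n, hn, hdn⟩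
  · obtain ⟨ι, _, _, Q, A, hT, hA, ho⟩ := s4 n hn
    obtain ⟨φ, hφ, -⟩ := transfer hT hab
    refine ⟨φ A, hφ A hA, ?_⟩
    rw [show orderOf (φ A) = orderOf A from orderOf_injective φ.toAlgHom.toMonoidHom φ.injective _, ho]
    exact hdn
  · obtain ⟨c, hc⟩ := s3 n hn
    exact main rfl (Or.inl ⟨rfl, rfl⟩) (hn.odd card_even hq2) hc hdn
  · obtain ⟨c, hc⟩ := s2 n hn
    exact main rfl (Or.inr (Or.inl ⟨rfl, rfl⟩)) (hn.odd card_even hq2) hc hdn
  · obtain ⟨c, hc⟩ := s1 n hn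
    exact main rfl (Or.inr (Or.inr ⟨rfl, rfl⟩)) (hn.odd card_even hq2) hc hdn

theorem range_psp {a b : F} (hab : ∀ z₁ z₂ : F, z₁ ^ 2 + a * z₁ * z₂ + b * z₂ ^ 2 = 0 → z₁ = 0 ∧ z₂ = 0) :
    Set.range (orderOf : Cfsg.PSp 4 F → ℕ) = spEight (Fintype.card F) := by
  refine Set.Subset.antisymm ?_ fun d hd => ?_
  · rintro _ ⟨x, rfl⟩
    exact psp_upper x
  obtain ⟨M, hM, hdM⟩ := iso_lower hab hd
  obtain ⟨x, hx⟩ := psp_lower hab hM
  exact mem_range_of_dvd x (hx ▸ (min_upper hab hM).1) (hx ▸ hdM)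

/-- the element of the isometry group of a preserving matrix -/
noncomputable def toIso {a b : F} (hab : ∀ z₁ z₂ : F, z₁ ^ 2 + a * z₁ * z₂ + b * z₂ ^ 2 = 0 → z₁ = 0 ∧ z₂ = 0)
    {M : Matrix Idx Idx F} (hM : ∀ v, minQ F 3 a b (M *ᵥ v) = minQ F 3 a b v) :
    Cfsg.isometryGroup F ⇑(minQ F 3 a b) :=
  ⟨(pres_data hab hM).1.unit, (QuadStd.mem_isometry_iff _ _).2 hM⟩

theorem orderOf_iso {Q : (Idx → F) → F} (g : Cfsg.isometryGroup F Q) :
    orderOf ((g : Matrix.GeneralLinearGroup Idx F) : Matrix Idx Idx F) = orderOf g := by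
  rw [orderOf_units, Subgroup.orderOf_coe]

theorem range_iso {a b : F} (hab : ∀ z₁ z₂ : F, z₁ ^ 2 + a * z₁ * z₂ + b * z₂ ^ 2 = 0 → z₁ = 0 ∧ z₂ = 0) :
    Set.range (orderOf : Cfsg.isometryGroup F ⇑(minQ F 3 a b) → ℕ) = spEight (Fintype.card F) := by
  refine Set.Subset.antisymm ?_ fun d hd => ?_
  · rintro _ ⟨g, rfl⟩
    rw [← orderOf_iso]
    exact (min_upper hab ((QuadStd.mem_isometry_iff _ _).1 g.2)).2
  obtain ⟨M, hM, hdM⟩ := iso_lower hab hd
  have ho : orderOf (toIso hab hM) = orderOf M := (orderOf_iso (toIso hab hM)).symm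
  exact mem_range_of_dvd (toIso hab hM) (ho ▸ (min_upper hab hM).1) (ho ▸ hdM)

/-! ### Unboundedly many groups -/

section Large

variable {K : Type} [Field K] [Fintype K] [CharP K 2]

/-- `linEnd` as a monoid homomorphism -/
noncomputable def linHom : Matrix Idx Idx K →* AddMonoid.End (Idx → K) where
  toFun := linEnd
  map_one' := linEnd_one
  map_mul' := linEnd_mul

/-- `linEnd` as an additive homomorphism -/
noncomputable def linAdd : Matrix Idx Idx K →+ AddMonoid.End (Idx → K) where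
  toFun := linEnd
  map_zero' := DFunLike.ext _ _ fun v => Matrix.zero_mulVec v
  map_add' M N := DFunLike.ext _ _ fun v => Matrix.add_mulVec M N v

omit [Fintype K] [CharP K 2] in
theorem sum_linEnd (M : Matrix Idx Idx K) (n : ℕ) :
    ∑ i ∈ range n, linEnd M ^ i = linEnd (∑ i ∈ range n, M ^ i) := by
  refine (sum_congr rfl fun i _ => (linEnd_pow M i).symm).trans ?_
  exact (map_sum linAdd (fun i => M ^ i) (range n)).symm

theorem even_fix {a b : K} (g : Cfsg.isometryGroup K ⇑(minQ K 3 a b)) :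
    Reflections.par g = 1 ↔ Even (finrank K (LinearMap.ker
      (Matrix.toLin' (((g : Matrix.GeneralLinearGroup Idx K) : Matrix Idx Idx K) - 1)))) := by
  rw [map_sub, Matrix.toLin'_one]
  show (-1 : ℤˣ) ^ (finrank K ↥(Reflections.fixSp g) + Fintype.card Idx) = 1 ↔ Even (finrank K ↥(Reflections.fixSp g))
  rw [neg_one_pow_eq_one_iff_even (by decide), Nat.even_add]
  exact iff_true_right (by simp; decide)

theorem exists_large_eight {a b : K} (hab : ∀ z₁ z₂ : K, z₁ ^ 2 + a * z₁ * z₂ + b * z₂ ^ 2 = 0 → z₁ = 0 ∧ z₂ = 0)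
    (N : ℕ) : ∃ (H : Type) (_ : Group H) (_ : Fintype H), N < Fintype.card H ∧
      Set.range (orderOf : H → ℕ) = spEight (Fintype.card K) := by
  classical
  have : Fact (Nat.Prime 2) := ⟨Nat.prime_two⟩
  have hQ := minQ_nondeg (F := K) 3 hab
  have hcard : Fintype.card K ≠ 2 ∨ Fintype.card Idx ≠ 4 := Or.inr (by simp)
  let P : Cfsg.isometryGroup K ⇑(minQ K 3 a b) →* ℤˣ :=
    { toFun := Reflections.par, map_one' := Reflections.par_one, map_mul' := Reflections.par_mul_all hQ hcard }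
  let T : Submonoid (AddMonoid.End (Idx → K)) :=
    { carrier := {x | ∃ g : Cfsg.isometryGroup K ⇑(minQ K 3 a b), P g = 1 ∧
        x = linEnd ((g : Matrix.GeneralLinearGroup Idx K) : Matrix Idx Idx K)}
      one_mem' := ⟨1, map_one P, linEnd_one.symm⟩
      mul_mem' := by
        rintro _ _ ⟨g, hg, rfl⟩ ⟨h, hh, rfl⟩
        exact ⟨g * h, by rw [map_mul, hg, hh, one_mul], (linEnd_mul _ _).symm⟩ }
  have hord : ∀ M : Matrix Idx Idx K, orderOf (linEnd M) = orderOf M := fun M =>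
    orderOf_injective (linHom (K := K)) linEnd_injective M
  have hT : ∀ {M : Matrix Idx Idx K} {n : ℕ} (hM : ∀ v, minQ K 3 a b (M *ᵥ v) = minQ K 3 a b v),
      Odd n → Even (finrank K (LinearMap.ker (Matrix.toLin' (M ^ n - 1)))) → linEnd M ∈ T := by
    intro M n hM hn he
    refine ⟨toIso hab hM, ?_, rfl⟩
    have h1 : P (toIso hab hM ^ n) = 1 := (even_fix _).2 he
    rw [map_pow] at h1
    rcases Int.units_eq_one_or (P (toIso hab hM)) with h | h
    · exact h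
    · rw [h, hn.neg_one_pow] at h1
      exact absurd h1 (by decide)
  refine exists_large_end Nat.prime_two pi_exp T ?_ _ ?_ ?_ ?_ N
  · rintro _ ⟨g, -, rfl⟩
    exact IsUnit.map (linHom (K := K)) (g : Matrix.GeneralLinearGroup Idx K).isUnit
  · rintro _ ⟨g, -, rfl⟩
    rw [hord]
    exact (min_upper hab ((QuadStd.mem_isometry_iff _ _).1 g.2)).2
  · rintro _ ⟨g, hg, rfl⟩ hs
    have hM := (QuadStd.mem_isometry_iff _ _).1 g.2
    rw [hord, sum_linEnd] at hs
    rw [hord]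
    obtain ⟨hu, hc⟩ := pres_data hab hM
    refine double_mem (by simp) hu hc _ rfl (min_upper hab hM).1 ?_ ((even_fix g).1 hg)
    by_contra hh
    push Not at hh
    exact hs (DFunLike.ext _ _ hh)
  intro d hd
  have hq2 : 2 ≤ Fintype.card K := Fintype.one_lt_card
  obtain ⟨s4, s3, s2, s1⟩ := sides (F := K) rfl
  have main : ∀ {m m' t n : ℕ} {c : Bool}, m + m' = 4 → (m' = 1 ∧ t = 0) ∨ (m' = 2 ∧ t = 1) ∨ (m' = 3 ∧ t = 2) →
      Odd n → Tor K m c n → d ∣ 2 * 2 ^ t * n →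
      ∃ x ∈ T, d ∣ orderOf x ∨ (d ∣ 2 * orderOf x ∧ ∑ i ∈ range (orderOf x), x ^ i ≠ 0) := by
    intro m m' t n c hm ht hn hTor hdn
    obtain ⟨M, hM, ho, hsum, heven⟩ := glue (E := id) (fun h => h.elim) hm (beq_not c) hn hTor (uni_omega m' t (!c) ht) hab
    refine ⟨linEnd M, hT hM hn heven, Or.inr ⟨?_, ?_⟩⟩
    · rw [hord, ho]
      rwa [mul_comm n, ← mul_assoc]
    · rw [hord, ho, sum_linEnd]
      exact fun h => hsum (linEnd_injective (h.trans (map_zero linAdd).symm))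
  rcases hd with ⟨n, hn, hdn⟩ | ⟨n, hn, hdn⟩ | ⟨n, hn, hdn⟩ | ⟨n, hn, hdn⟩
  · obtain ⟨ι, _, _, Q, A, hA', hA, ho⟩ := s4 n hn
    obtain ⟨φ, hφ, -⟩ := transfer hA' hab
    have ho' : orderOf (φ A) = n :=
      (orderOf_injective φ.toAlgHom.toMonoidHom φ.injective _).trans ho
    refine ⟨linEnd (φ A), hT (hφ A hA) (n := n) ?_ ?_, Or.inl ?_⟩
    · rcases hn with rfl | rfl | rfl | rfl
      · exact (Nat.even_pow.2 ⟨card_even, by norm_num⟩).add_one
      · exact Nat.Even.sub_odd (Nat.one_le_pow _ _ (by omega)) (Nat.even_pow.2 ⟨card_even, by norm_num⟩) odd_one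
      · exact (Nat.even_pow.2 ⟨card_even, by norm_num⟩).add_one.mul (Nat.Even.sub_odd (by omega) card_even odd_one)
      · exact (Nat.Even.sub_odd (Nat.one_le_pow _ _ (by omega)) (Nat.even_pow.2 ⟨card_even, by norm_num⟩) odd_one).mul
          card_even.add_one
    · rw [← ho', pow_orderOf_eq_one, sub_self, map_zero, LinearMap.ker_zero, finrank_top, Module.finrank_pi]
      simp; decide
    · rw [hord, ho']
      exact hdn
  · obtain ⟨c, hc⟩ := s3 n hn
    exact main rfl (Or.inl ⟨rfl, rfl⟩) (hn.odd card_even hq2) hc (by simpa using hdn)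
  · obtain ⟨c, hc⟩ := s2 n hn
    exact main rfl (Or.inr (Or.inl ⟨rfl, rfl⟩)) (hn.odd card_even hq2) hc (by simpa using hdn)
  · obtain ⟨c, hc⟩ := s1 n hn
    exact main rfl (Or.inr (Or.inr ⟨rfl, rfl⟩)) (hn.odd card_even hq2) hc (by simpa using hdn)

end Large

end Cfsg.Agent.GenA.Spec.Eight
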