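import Mathlib
import Cfsg.Agent.GenA.Spec.PSpFour

/-!
# Elements of every maximal order in `PSp₄(q)`
-/

set_option autoImplicit false

namespace Cfsg.Agent.GenA.Spec

open Polynomial Matrix

universe u

variable {F : Type u} [Field F] [Fintype F] {Ω : Type u} [Field Ω] [IsAlgClosed Ω] (f : F →+* Ω)

local notation "Sp4" => Matrix.symplecticGroup (Fin 2) F
local notation "Mat4" => Matrix (Fin 2 ⊕ Fin 2) (Fin 2 ⊕ Fin 2) F

theorem gcd_dvd_sq_sub (q : ℕ) : Nat.gcd 2 (q - 1) ∣ q ^ 2 - 1 := by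
  rw [show q ^ 2 - 1 = (q + 1) * (q - 1) by rw [← Nat.sq_sub_sq, one_pow]]
  exact (Nat.gcd_dvd_right _ _).trans (dvd_mul_left _ _)

theorem gcd_dvd_sq_add (q : ℕ) (hq : 1 ≤ q) : Nat.gcd 2 (q - 1) ∣ q ^ 2 + 1 := by
  rw [show q ^ 2 + 1 = q ^ 2 - 1 + 2 by have := Nat.one_le_pow 2 q hq; omega]
  exact Nat.dvd_add (gcd_dvd_sq_sub q) (Nat.gcd_dvd_left _ _)

omit [Fintype F] [IsAlgClosed Ω] in
theorem torus_mem (T : Matrix (Fin 2) (Fin 2) F) (hT : Tᵀ = T) :
    Matrix.fromBlocks 0 (-1) 1 T ∈ Matrix.symplecticGroup (Fin 2) F := by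
  rw [SymplecticGroup.mem_iff, Matrix.J, Matrix.fromBlocks_transpose, Matrix.fromBlocks_multiply,
    Matrix.fromBlocks_multiply, hT]
  simp

omit [IsAlgClosed Ω] in
theorem exists_symm_eigen (p k : ℕ) [Fact p.Prime] [CharP F p] [CharP Ω p]
    (hq : Fintype.card F = p ^ k) {t : Ω} (ht : t ^ (Fintype.card F ^ 2) = t) :
    ∃ (T : Matrix (Fin 2) (Fin 2) F), Tᵀ = T ∧ ∃ w : Fin 2 → Ω, w ≠ 0 ∧ T.map f *ᵥ w = t • w := by
  classical
  set q := Fintype.card F with hqdef
  have hqq : (t ^ q) ^ q = t := by rw [← pow_mul, ← sq]; exact ht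
  obtain ⟨s, hs⟩ : t + t ^ q ∈ f.range := by
    refine mem_range_of_pow_card f ?_
    rw [← hqdef, hq, add_pow_char_pow (p := p), ← hq, hqq, add_comm]
  obtain ⟨r, hr⟩ : t * t ^ q ∈ f.range := by
    refine mem_range_of_pow_card f ?_
    rw [← hqdef, mul_pow, hqq, mul_comm]
  obtain ⟨a, b, hab⟩ : ∃ a b : F, a ^ 2 - s * a + r + b ^ 2 = 0 := by
    by_cases h2 : ringChar F = 2
    · obtain ⟨b, hb⟩ := FiniteField.isSquare_of_char_two h2 r
      refine ⟨0, b, ?_⟩
      have : CharP F 2 := ringChar.of_eq h2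
      linear_combination hb + b * b * (CharTwo.two_eq_zero (R := F))
    · obtain ⟨a, b, hab⟩ := FiniteField.exists_root_sum_quadratic
        (f := (X ^ 2 + (C (-s) * X + C r) : Polynomial F)) (g := (X ^ 2 : Polynomial F))
        (by rw [degree_add_eq_left_of_degree_lt] <;> rw [degree_X_pow] <;>
              first | rfl | exact degree_linear_le.trans_lt (by decide))
        (degree_X_pow 2) (FiniteField.odd_card_of_char_ne_two h2)
      refine ⟨a, b, ?_⟩
      simp only [eval_add, eval_mul, eval_pow, eval_X, eval_C] at hab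
      linear_combination hab
  refine ⟨!![a, b; b, s - a], ?_, ?_⟩
  · ext i j
    fin_cases i <;> fin_cases j <;> rfl
  have hdet : ((!![a, b; b, s - a] : Matrix (Fin 2) (Fin 2) F).map f - t • (1 : Matrix (Fin 2) (Fin 2) Ω)).det = 0 := by
    have h := congrArg f hab
    simp only [map_add, map_sub, map_mul, map_pow, map_zero, hs, hr] at h
    rw [Matrix.det_fin_two]
    simp [map_sub, hs]
    linear_combination -h
  obtain ⟨w, hw0, hw⟩ := Matrix.exists_mulVec_eq_zero_iff.2 hdet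
  refine ⟨w, hw0, ?_⟩
  rwa [Matrix.sub_mulVec, Matrix.smul_mulVec, Matrix.one_mulVec, sub_eq_zero] at hw

include f in
theorem torus_order (p k : ℕ) [Fact p.Prime] [CharP F p] [CharP Ω p] (hq : Fintype.card F = p ^ k)
    (δ : ℕ) (hδ0 : (δ : Ω) ≠ 0)
    (hδ : δ = Fintype.card F ^ 2 + 1 ∨ δ = Fintype.card F ^ 2 - 1) :
    ∃ x : Cfsg.PSp 2 F, δ / Nat.gcd 2 (Fintype.card F - 1) ∣ orderOf x := by
  classical
  set q := Fintype.card F with hqdef
  have hq2 : 2 ≤ q := Fintype.one_lt_card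
  obtain ⟨l, hl⟩ := exists_prim (Ω := Ω) δ hδ0
  have hl0 : l ≠ 0 := hl.ne_zero (fun h => hδ0 (by rw [h, Nat.cast_zero]))
  have hll : l ^ q ^ 2 = l ∨ l ^ q ^ 2 = l⁻¹ := by
    rcases hδ with h | h
    · right
      refine eq_inv_of_mul_eq_one_left ?_
      rw [← pow_succ, ← h, hl.pow_eq_one]
    · left
      rw [show q ^ 2 = δ + 1 by have : 4 ≤ q ^ 2 := by nlinarith
                                omega, pow_succ, hl.pow_eq_one, one_mul]
  obtain ⟨T, hT, w, hw0, hw⟩ := exists_symm_eigen f p k hq (t := l + l⁻¹) (by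
    rw [← hqdef, hq, ← pow_mul, add_pow_char_pow (p := p), inv_pow, pow_mul, ← hq]
    rcases hll with h | h <;> rw [h]
    rw [inv_inv, add_comm])
  let g : Sp4 := ⟨Matrix.fromBlocks 0 (-1) 1 T, torus_mem T hT⟩
  let v : Fin 2 ⊕ Fin 2 → Ω := Sum.elim w (-(l • w))
  have hv0 : v ≠ 0 := fun h => hw0 (funext fun i => congrFun h (Sum.inl i))
  have hv : (g : Mat4).map f *ᵥ v = l • v := by
    show (Matrix.fromBlocks 0 (-1) 1 T).map f *ᵥ Sum.elim w (-(l • w)) = l • Sum.elim w (-(l • w))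
    rw [Matrix.fromBlocks_map, Matrix.fromBlocks_mulVec]
    simp only [Function.comp_def, Sum.elim_inl, Sum.elim_inr]
    rw [Matrix.map_zero f (map_zero f), Matrix.map_one f (map_zero f) (map_one f),
      show (-1 : Matrix (Fin 2) (Fin 2) F).map f = -1 by ext i j; by_cases h : i = j <;> simp [h]]
    funext x
    rcases x with i | i
    · fin_cases i <;> simp
    · have h2 : (T.map f *ᵥ fun x => -(l * w x)) i = -(l * ((l + l⁻¹) * w i)) := by
        rw [show (fun x => -(l * w x)) = -(l • w) from rfl, Matrix.mulVec_neg, Matrix.mulVec_smul, hw]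
        rfl
      simp only [Sum.elim_inr, Pi.smul_apply, smul_eq_mul, Pi.add_apply, Pi.neg_apply,
        Matrix.one_mulVec]
      rw [h2]
      field_simp
      ring
  refine ⟨QuotientGroup.mk g, ?_⟩
  obtain ⟨c, hc2, hc⟩ := scalar_of_psp_pow_eq_one g _ (pow_orderOf_eq_one (QuotientGroup.mk g : Cfsg.PSp 2 F))
  have hld := eigen_of_pow_eq_smul f hv0 hv hc
  set d := orderOf (QuotientGroup.mk g : Cfsg.PSp 2 F)
  have hcd : c ^ Nat.gcd 2 (q - 1) = 1 := by
    rw [← orderOf_dvd_iff_pow_eq_one]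
    refine Nat.dvd_gcd (orderOf_dvd_of_pow_eq_one hc2) (orderOf_dvd_of_pow_eq_one ?_)
    refine FiniteField.pow_card_sub_one_eq_one c fun h => ?_
    rw [h, zero_pow two_ne_zero] at hc2
    exact zero_ne_one hc2
  have hdd : δ ∣ d * Nat.gcd 2 (q - 1) := hl.dvd_of_pow_eq_one _ (by rw [pow_mul, hld, ← map_pow, hcd, map_one])
  exact (Nat.div_dvd_iff_dvd_mul (by
    rcases hδ with rfl | rfl
    · exact gcd_dvd_sq_add _ (by omega)
    · exact gcd_dvd_sq_sub _) (Nat.gcd_pos_of_pos_left _ two_pos)).2 (by rwa [mul_comm] at hdd)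

/-- a pair of `SL₂` matrices as a block element of `Sp₄` -/
def pairMat (u b : Matrix (Fin 2) (Fin 2) F) : Mat4 :=
  Matrix.fromBlocks (Matrix.diagonal ![u 0 0, b 0 0]) (Matrix.diagonal ![u 0 1, b 0 1])
    (Matrix.diagonal ![u 1 0, b 1 0]) (Matrix.diagonal ![u 1 1, b 1 1])

omit [Fintype F] in
theorem pairMat_mul (u u' b b' : Matrix (Fin 2) (Fin 2) F) :
    pairMat u b * pairMat u' b' = pairMat (u * u') (b * b') := by
  unfold pairMat
  rw [Matrix.fromBlocks_multiply]
  simp only [Matrix.diagonal_mul_diagonal, Matrix.diagonal_add]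
  congr 2 <;> funext i <;> fin_cases i <;> simp [Matrix.mul_apply, Fin.sum_univ_two]

omit [Fintype F] in
theorem pairMat_one : pairMat (1 : Matrix (Fin 2) (Fin 2) F) 1 = 1 := by
  unfold pairMat
  have h1 : (![1, 1] : Fin 2 → F) = fun _ => 1 := by funext i; fin_cases i <;> rfl
  have h0 : (![0, 0] : Fin 2 → F) = fun _ => 0 := by funext i; fin_cases i <;> rfl
  simp [h1, h0]

omit [Fintype F] in
theorem pairMat_pow (u b : Matrix (Fin 2) (Fin 2) F) (n : ℕ) : pairMat u b ^ n = pairMat (u ^ n) (b ^ n) := by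
  induction n with
  | zero => rw [pow_zero, pow_zero, pow_zero, pairMat_one]
  | succ n ih => rw [pow_succ, ih, pairMat_mul, pow_succ, pow_succ]

omit [Fintype F] in
theorem pairMat_mem (u b : Matrix (Fin 2) (Fin 2) F) (hu : u.det = 1) (hb : b.det = 1) :
    pairMat u b ∈ Matrix.symplecticGroup (Fin 2) F := by
  rw [Matrix.det_fin_two] at hu hb
  unfold pairMat
  rw [SymplecticGroup.mem_iff, Matrix.J, Matrix.fromBlocks_transpose, Matrix.fromBlocks_multiply,
    Matrix.fromBlocks_multiply]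
  simp only [Matrix.diagonal_transpose, mul_one, mul_zero, mul_neg, zero_add, add_zero, neg_mul,
    Matrix.diagonal_mul_diagonal, Matrix.diagonal_neg, Matrix.diagonal_add]
  congr 1 <;> ext i j <;> fin_cases i <;> fin_cases j <;> simp [Matrix.diagonal] <;>
    first | linear_combination hu | linear_combination hb | linear_combination -hu | linear_combination -hb | ring1

theorem unip_pow (n : ℕ) : (!![1, 1; 0, 1] : Matrix (Fin 2) (Fin 2) F) ^ n = !![1, (n : F); 0, 1] := by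
  induction n with
  | zero => ext i j; fin_cases i <;> fin_cases j <;> simp
  | succ n ih =>
    rw [pow_succ, ih]
    ext i j
    fin_cases i <;> fin_cases j <;> simp [Matrix.mul_apply, Fin.sum_univ_two] <;> ring

include f in
theorem block_order (p k : ℕ) [Fact p.Prime] [CharP F p] [CharP Ω p] (hq : Fintype.card F = p ^ k)
    (δ : ℕ) (hδ0 : (δ : Ω) ≠ 0)
    (hδ : δ = Fintype.card F + 1 ∨ δ = Fintype.card F - 1) :
    ∃ x : Cfsg.PSp 2 F, p * δ ∣ orderOf x := by
  classical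
  set q := Fintype.card F with hqdef
  have hq2 : 2 ≤ q := Fintype.one_lt_card
  have hp : p.Prime := Fact.out
  obtain ⟨l, hl⟩ := exists_prim (Ω := Ω) δ hδ0
  have hl0 : l ≠ 0 := hl.ne_zero (fun h => hδ0 (by rw [h, Nat.cast_zero]))
  have hll : l ^ q = l ∨ l ^ q = l⁻¹ := by
    rcases hδ with h | h
    · right
      refine eq_inv_of_mul_eq_one_left ?_
      rw [← pow_succ, ← h, hl.pow_eq_one]
    · left
      rw [show q = δ + 1 by omega, pow_succ, hl.pow_eq_one, one_mul]
  obtain ⟨B, w, hw0, hw⟩ := exists_companion f p k hq hl0 hll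
  let U : Matrix (Fin 2) (Fin 2) F := !![1, 1; 0, 1]
  let g : Sp4 := ⟨pairMat U B, pairMat_mem U B (by simp [U, Matrix.det_fin_two]) B.2⟩
  refine ⟨QuotientGroup.mk g, ?_⟩
  obtain ⟨c, -, hc⟩ := scalar_of_psp_pow_eq_one g _ (pow_orderOf_eq_one (QuotientGroup.mk g : Cfsg.PSp 2 F))
  set d := orderOf (QuotientGroup.mk g : Cfsg.PSp 2 F)
  rw [show (g : Mat4) = pairMat U B from rfl, pairMat_pow, show U ^ d = !![1, (d : F); 0, 1] from unip_pow d] at hc
  have h1 := congrFun (congrFun hc (Sum.inl 0)) (Sum.inl 0)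
  have h2 := congrFun (congrFun hc (Sum.inl 0)) (Sum.inr 0)
  simp [pairMat] at h1 h2
  subst h1
  have hB : (B : Matrix (Fin 2) (Fin 2) F) ^ d = (1 : F) • (1 : Matrix (Fin 2) (Fin 2) F) := by
    rw [one_smul] at hc ⊢
    have e00 := congrFun (congrFun hc (Sum.inl 1)) (Sum.inl 1)
    have e01 := congrFun (congrFun hc (Sum.inl 1)) (Sum.inr 1)
    have e10 := congrFun (congrFun hc (Sum.inr 1)) (Sum.inl 1)
    have e11 := congrFun (congrFun hc (Sum.inr 1)) (Sum.inr 1)
    simp [pairMat] at e00 e01 e10 e11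
    ext i j
    fin_cases i <;> fin_cases j <;> simp [e00, e01, e10, e11]
  have h3 := eigen_of_pow_eq_smul f hw0 hw hB
  rw [map_one] at h3
  refine Nat.Coprime.mul_dvd_of_dvd_of_dvd (hp.coprime_iff_not_dvd.2 fun h => ?_)
    ((CharP.cast_eq_zero_iff F p d).1 h2) (hl.dvd_of_pow_eq_one _ h3)
  exact hδ0 ((CharP.cast_eq_zero_iff Ω p δ).2 h)

/-- a regular unipotent element of `Sp₄` over the prime field -/
def regMat (R : Type*) [CommRing R] : Matrix (Fin 2 ⊕ Fin 2) (Fin 2 ⊕ Fin 2) R :=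
  Matrix.fromBlocks !![1, 1; 0, 1] !![0, 1; 0, 1] 0 !![1, 0; -1, 1]

theorem regMat_two : (regMat (ZMod 2)) ^ (2 * 2) = 1 ∧ (regMat (ZMod 2) ^ 2) (Sum.inl 0) (Sum.inr 0) ≠ 0 := by
  decide

theorem regMat_three : (regMat (ZMod 3)) ^ (3 * 3) = 1 ∧ (regMat (ZMod 3) ^ 3) (Sum.inl 0) (Sum.inr 0) ≠ 0 := by
  decide

omit [Fintype F] in
theorem regular_order (p : ℕ) [Fact p.Prime] [CharP F p] (hp3 : p ≤ 3) :
    ∃ x : Cfsg.PSp 2 F, p * p ∣ orderOf x := by
  have hmap : (regMat (ZMod p)).map (ZMod.castHom dvd_rfl F) = regMat F := by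
    rw [regMat, regMat, Matrix.fromBlocks_map]
    congr 1 <;> ext i j <;> fin_cases i <;> fin_cases j <;> simp
  have hmem : regMat F ∈ Matrix.symplecticGroup (Fin 2) F := by
    rw [regMat, SymplecticGroup.mem_iff, Matrix.J, Matrix.fromBlocks_transpose, Matrix.fromBlocks_multiply,
      Matrix.fromBlocks_multiply]
    congr 1 <;> ext i j <;> fin_cases i <;> fin_cases j <;>
      simp [Matrix.mul_apply, Matrix.vecMul, dotProduct, Fin.sum_univ_two]
  let g : Sp4 := ⟨regMat F, hmem⟩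
  have hd : (regMat (ZMod p)) ^ (p * p) = 1 ∧ (regMat (ZMod p) ^ p) (Sum.inl 0) (Sum.inr 0) ≠ 0 := by
    have := (Fact.out : p.Prime).two_le
    interval_cases p
    · exact regMat_two
    · exact regMat_three
  refine ⟨QuotientGroup.mk g, (dvd_of_eq ?_)⟩
  rw [← sq, show p ^ 2 = p ^ (1 + 1) from rfl]
  refine (orderOf_eq_prime_pow (n := 1) ?_ ?_).symm
  · intro h
    rw [pow_one] at h
    obtain ⟨c, -, hc⟩ := scalar_of_psp_pow_eq_one g _ h
    have h1 := congrFun (congrFun hc (Sum.inl 0)) (Sum.inr 0)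
    rw [show (g : Mat4) = regMat F from rfl, ← hmap, ← RingHom.mapMatrix_apply, ← map_pow,
      RingHom.mapMatrix_apply, Matrix.map_apply, Matrix.smul_apply, Matrix.one_apply_ne Sum.inl_ne_inr,
      smul_zero, map_eq_zero] at h1
    exact hd.2 h1
  · refine psp_pow_eq_one_of_scalar g _ 1 ?_
    rw [one_smul, show (g : Mat4) = regMat F from rfl, ← hmap, ← RingHom.mapMatrix_apply, ← map_pow,
      show p ^ (1 + 1) = p * p by rw [pow_succ, pow_one], hd.1, map_one]

/-- the spectrum of `PSp₄(q)` -/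
theorem psp_four_spectrum (p k : ℕ) [Fact p.Prime] [CharP F p] (hq : Fintype.card F = p ^ k) (hk : 1 ≤ k) :
    Set.range (orderOf : Cfsg.PSp 2 F → ℕ) = specSet p (Fintype.card F) := by
  set q := Fintype.card F with hqdef
  have hq2 : 2 ≤ q := Fintype.one_lt_card
  have : CharP (AlgebraicClosure F) p :=
    charP_of_injective_algebraMap (algebraMap F (AlgebraicClosure F)).injective p
  have hq0 : (q : AlgebraicClosure F) = 0 := by
    rw [CharP.cast_eq_zero_iff (AlgebraicClosure F) p, hq]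
    exact dvd_pow_self p (by omega)
  have hq20 : ((q ^ 2 : ℕ) : AlgebraicClosure F) = 0 := by rw [Nat.cast_pow, hq0, zero_pow two_ne_zero]
  refine Set.Subset.antisymm ?_ ?_
  · rintro _ ⟨x, rfl⟩
    exact psp_four_orders_subset p k hq hk x
  · rintro d (h | h | h | h | ⟨h3, h⟩)
    · obtain ⟨x, hx⟩ := torus_order (algebraMap F (AlgebraicClosure F)) p k hq (q ^ 2 + 1)
        (by rw [Nat.cast_add, hq20, zero_add, Nat.cast_one]; exact one_ne_zero) (Or.inl rfl)
      exact dvd_orderOf_mem (h.trans hx)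
    · obtain ⟨x, hx⟩ := torus_order (algebraMap F (AlgebraicClosure F)) p k hq (q ^ 2 - 1)
        (by rw [Nat.cast_sub (by nlinarith), hq20, zero_sub, Nat.cast_one]; exact neg_ne_zero.2 one_ne_zero)
        (Or.inr rfl)
      exact dvd_orderOf_mem (h.trans hx)
    · obtain ⟨x, hx⟩ := block_order (algebraMap F (AlgebraicClosure F)) p k hq (q + 1)
        (by rw [Nat.cast_add, hq0, zero_add, Nat.cast_one]; exact one_ne_zero) (Or.inl rfl)
      exact dvd_orderOf_mem (h.trans hx)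
    · obtain ⟨x, hx⟩ := block_order (algebraMap F (AlgebraicClosure F)) p k hq (q - 1)
        (by rw [Nat.cast_sub (by omega), hq0, zero_sub, Nat.cast_one]; exact neg_ne_zero.2 one_ne_zero)
        (Or.inr rfl)
      exact dvd_orderOf_mem (h.trans hx)
    · obtain ⟨x, hx⟩ := regular_order (F := F) p h3
      exact dvd_orderOf_mem (h.trans hx)

end Cfsg.Agent.GenA.Spec
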