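import Mathlib
import Cfsg.Agent.GenA.Spec.MatTools
import Cfsg.Agent.GenA.Spec.Affine

/-!
# The case `q = 3`: `Sym 5` on the twisted deleted permutation module
-/

set_option autoImplicit false

namespace Cfsg.Agent.GenA.Spec

open Matrix Finset

/-- the sum-zero permutation module, twisted by the sign -/
def permMat (g : Equiv.Perm (Fin 5)) : Matrix (Fin 4) (Fin 4) (ZMod 3) :=
  Matrix.of fun i j => ((Equiv.Perm.sign g : ℤ) : ZMod 3) *
    ((if g j.castSucc = i.castSucc then 1 else 0) - (if g (Fin.last 4) = i.castSucc then 1 else 0))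

theorem permMat_one : permMat 1 = 1 := by decide

theorem permMat_mul (g h : Equiv.Perm (Fin 5)) : permMat (g * h) = permMat g * permMat h := by
  ext i j
  set u : Fin 5 → ZMod 3 := fun l => (if g l = i.castSucc then 1 else 0) - (if g (Fin.last 4) = i.castSucc then 1 else 0)
    with hu
  set w : Fin 5 → ZMod 3 := fun l => (if h j.castSucc = l then 1 else 0) - (if h (Fin.last 4) = l then 1 else 0)
    with hw
  have h5 : ∑ l : Fin 4, u l.castSucc * w l.castSucc = u (h j.castSucc) - u (h (Fin.last 4)) := by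
    have h1 := Fin.sum_univ_castSucc (fun l => u l * w l)
    have h2 : u (Fin.last 4) = 0 := by simp [hu]
    rw [h2, zero_mul, add_zero] at h1
    rw [← h1, hw]
    simp [mul_sub, Finset.sum_sub_distrib]
  calc permMat (g * h) i j
      = ((Equiv.Perm.sign g : ℤ) : ZMod 3) * ((Equiv.Perm.sign h : ℤ) : ZMod 3) * (u (h j.castSucc) - u (h (Fin.last 4))) := by
        simp [permMat, hu]
        left
        congr
    _ = ∑ l : Fin 4, ((Equiv.Perm.sign g : ℤ) : ZMod 3) * ((Equiv.Perm.sign h : ℤ) : ZMod 3) * (u l.castSucc * w l.castSucc) := by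
        rw [← h5, Finset.mul_sum]
    _ = (permMat g * permMat h) i j := by
        rw [Matrix.mul_apply]
        refine Finset.sum_congr rfl fun l _ => ?_
        simp only [permMat, Matrix.of_apply, hu, hw]
        ring

/-- the action of `Sym 5` -/
noncomputable def permEnd : Equiv.Perm (Fin 5) →* AddMonoid.End (Fin 4 → ZMod 3) where
  toFun g := (Matrix.mulVecLin (permMat g)).toAddMonoidHom
  map_one' := DFunLike.ext _ _ fun v => by
    show permMat 1 *ᵥ v = v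
    rw [permMat_one, Matrix.one_mulVec]
  map_mul' g h := DFunLike.ext _ _ fun v => by
    show permMat (g * h) *ᵥ v = permMat g *ᵥ (permMat h *ᵥ v)
    rw [permMat_mul, Matrix.mulVec_mulVec]

/-- the decidable summary of a permutation -/
def permSum (g : Equiv.Perm (Fin 5)) (o : ℕ) : Matrix (Fin 4) (Fin 4) (ZMod 3) := ∑ i ∈ range o, permMat (g ^ i)

set_option maxHeartbeats 800000 in
theorem perm_table : ∀ g : Equiv.Perm (Fin 5), ∃ o : Fin 7, 0 < o.val ∧ g ^ o.val = 1 ∧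
    (∀ m : Fin 7, 0 < m.val → m.val < o.val → g ^ m.val ≠ 1) ∧ (o.val ≤ 4 ∨ permSum g o.val = 0) := by
  decide +kernel

theorem perm_witness :
    ((Equiv.swap (0 : Fin 5) 1 * Equiv.swap 1 2 * Equiv.swap 2 3 * Equiv.swap 3 4) ^ 5 = 1 ∧
      (Equiv.swap (0 : Fin 5) 1 * Equiv.swap 1 2 * Equiv.swap 2 3 * Equiv.swap 3 4) ≠ 1) ∧
    ((Equiv.swap (0 : Fin 5) 1 * Equiv.swap 1 2 * Equiv.swap 2 3) ^ (2 ^ 2) = 1 ∧
      ¬ (Equiv.swap (0 : Fin 5) 1 * Equiv.swap 1 2 * Equiv.swap 2 3) ^ (2 ^ 1) = 1 ∧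
      permSum (Equiv.swap (0 : Fin 5) 1 * Equiv.swap 1 2 * Equiv.swap 2 3) 4 ≠ 0) ∧
    ((Equiv.swap (0 : Fin 5) 1 * Equiv.swap 1 2) ^ 3 = 1 ∧ Equiv.swap (0 : Fin 5) 1 * Equiv.swap 1 2 ≠ 1 ∧
      permSum (Equiv.swap (0 : Fin 5) 1 * Equiv.swap 1 2) 3 ≠ 0) ∧
    (Equiv.swap (0 : Fin 5) 1 ^ 2 = 1 ∧ Equiv.swap (0 : Fin 5) 1 ≠ 1 ∧ permSum (Equiv.swap (0 : Fin 5) 1) 2 ≠ 0) := by
  decide +kernel

theorem cycSum_permEnd (g : Equiv.Perm (Fin 5)) (o : ℕ) (ho : orderOf g = o) :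
    cycSum permEnd g ≠ 0 ↔ permSum g o ≠ 0 := by
  have h : ∀ v, cycSum permEnd g v = permSum g o *ᵥ v := fun v => by
    rw [cycSum_apply, ho, permSum, Matrix.sum_mulVec]
    rfl
  refine not_congr ⟨fun h0 => ?_, fun h0 => DFunLike.ext _ _ fun v => by rw [h, h0, Matrix.zero_mulVec]; rfl⟩
  ext i j
  have := congrFun (h (Pi.single j 1)) i
  rw [h0, Matrix.mulVec_single_one] at this
  exact this.symm

theorem exists_large_q_three (N : ℕ) :
    ∃ (H : Type) (_ : Group H) (_ : Fintype H), N < Fintype.card H ∧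
      Set.range (orderOf : H → ℕ) = specSet 3 3 := by
  have : Fact (Nat.Prime 3) := ⟨Nat.prime_three⟩
  refine exists_large permEnd Nat.prime_three (fun v => by
    funext i
    rw [Pi.smul_apply, nsmul_eq_mul, CharP.cast_eq_zero, zero_mul, Pi.zero_apply]) _ (fun g => ?_) (fun g hs => ?_) ?_ N
  · obtain ⟨o, ho, hg, hmin, -⟩ := perm_table g
    have hord : orderOf g = o.val :=
      (orderOf_eq_iff ho).2 ⟨hg, fun m hm hm0 => hmin ⟨m, by omega⟩ hm0 hm⟩
    rw [hord]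
    have := o.isLt
    interval_cases hv : o.val
    · exact Or.inr (Or.inr (Or.inl (by decide)))
    · exact Or.inr (Or.inr (Or.inl (by decide)))
    · exact Or.inr (Or.inr (Or.inl (by decide)))
    · exact Or.inr (Or.inr (Or.inl (by decide)))
    · exact Or.inl (by decide)
    · exact Or.inr (Or.inr (Or.inr (Or.inl (by decide))))
  · obtain ⟨o, ho, hg, hmin, hz⟩ := perm_table g
    have hord : orderOf g = o.val :=
      (orderOf_eq_iff ho).2 ⟨hg, fun m hm hm0 => hmin ⟨m, by omega⟩ hm0 hm⟩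
    rw [cycSum_permEnd g _ hord] at hs
    have h4 := hz.resolve_right hs
    rw [hord]
    interval_cases hv : o.val
    · exact Or.inr (Or.inr (Or.inl (by decide)))
    · exact Or.inr (Or.inr (Or.inl (by decide)))
    · exact Or.inr (Or.inr (Or.inr (Or.inr ⟨le_rfl, by decide⟩)))
    · exact Or.inr (Or.inr (Or.inl (by decide)))
  obtain ⟨⟨a5, b5⟩, ⟨a4, b4, c4⟩, ⟨a3, b3, c3⟩, ⟨a2, b2, c2⟩⟩ := perm_witness
  have : Fact (Nat.Prime 5) := ⟨by decide⟩
  have : Fact (Nat.Prime 2) := ⟨Nat.prime_two⟩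
  have h5 := orderOf_eq_prime a5 b5
  have h4 : orderOf (Equiv.swap (0 : Fin 5) 1 * Equiv.swap 1 2 * Equiv.swap 2 3) = 4 := orderOf_eq_prime_pow (n := 1) b4 a4
  have h3 := orderOf_eq_prime a3 b3
  have h2 := orderOf_eq_prime a2 b2
  rintro d (h | h | h | h | ⟨-, h⟩)
  · exact ⟨_, Or.inl (by rw [h5]; exact h)⟩
  · exact ⟨_, Or.inl (by rw [h4]; exact h)⟩
  · exact ⟨_, Or.inr ⟨by rw [h4]; exact h, (cycSum_permEnd _ _ h4).2 c4⟩⟩
  · exact ⟨_, Or.inr ⟨by rw [h2]; exact h, (cycSum_permEnd _ _ h2).2 c2⟩⟩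
  · exact ⟨_, Or.inr ⟨by rw [h3]; exact h, (cycSum_permEnd _ _ h3).2 c3⟩⟩

end Cfsg.Agent.GenA.Spec
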