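import Mathlib
import Cfsg.Agent.GenA.Spec.HermInner

/-!
# `q` an even power of `3`
-/

set_option autoImplicit false

namespace Cfsg.Agent.GenA.Spec

open Matrix Finset
open scoped Kronecker

section Rep

variable {K : Type} [Field K]

/-- the symmetric square -/
def symSq (A : Matrix (Fin 2) (Fin 2) K) : Matrix (Fin 3) (Fin 3) K :=
  !![A 0 0 ^ 2, A 0 0 * A 0 1, A 0 1 ^ 2;
     2 * (A 0 0 * A 1 0), A 0 0 * A 1 1 + A 0 1 * A 1 0, 2 * (A 0 1 * A 1 1);
     A 1 0 ^ 2, A 1 0 * A 1 1, A 1 1 ^ 2]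

theorem symSq_mul (A B : Matrix (Fin 2) (Fin 2) K) : symSq (A * B) = symSq A * symSq B := by
  ext i j
  fin_cases i <;> fin_cases j <;> simp [symSq, Matrix.mul_apply, Fin.sum_univ_two, Fin.sum_univ_three] <;> ring

theorem symSq_diag (a d : K) : symSq (Matrix.diagonal ![a, d]) = Matrix.diagonal ![a ^ 2, a * d, d ^ 2] := by
  ext i j
  fin_cases i <;> fin_cases j <;> simp [symSq]

theorem symSq_one : symSq (1 : Matrix (Fin 2) (Fin 2) K) = 1 := by
  ext i j
  fin_cases i <;> fin_cases j <;> simp [symSq]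

theorem map_symSq {L : Type} [Field L] (f : K →+* L) (A : Matrix (Fin 2) (Fin 2) K) :
    (symSq A).map f = symSq (A.map f) := by
  ext i j
  fin_cases i <;> fin_cases j <;> simp [symSq, map_ofNat]

/-- the twelve dimensional module -/
def threeRep (c σ : K →+* K) (A : Matrix (Fin 2) (Fin 2) K) :
    Matrix ((Fin 2 × Fin 2) × Fin 3) ((Fin 2 × Fin 2) × Fin 3) K :=
  (A ⊗ₖ A.map c) ⊗ₖ symSq (A.map σ)

theorem threeRep_mul (c σ : K →+* K) (A B : Matrix (Fin 2) (Fin 2) K) :
    threeRep c σ (A * B) = threeRep c σ A * threeRep c σ B := by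
  unfold threeRep
  rw [Matrix.map_mul, Matrix.map_mul, symSq_mul, Matrix.mul_kronecker_mul, Matrix.mul_kronecker_mul]

theorem threeRep_one (c σ : K →+* K) : threeRep c σ (1 : Matrix (Fin 2) (Fin 2) K) = 1 := by
  unfold threeRep
  rw [Matrix.map_one c (map_zero c) (map_one c), Matrix.map_one σ (map_zero σ) (map_one σ), symSq_one,
    Matrix.one_kronecker_one, Matrix.one_kronecker_one]

theorem threeRep_pow (c σ : K →+* K) (A : Matrix (Fin 2) (Fin 2) K) (n : ℕ) :
    threeRep c σ (A ^ n) = threeRep c σ A ^ n := by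
  induction n with
  | zero => rw [pow_zero, pow_zero, threeRep_one]
  | succ n ih => rw [pow_succ, pow_succ, threeRep_mul, ih]

theorem threeRep_sign (c σ : K →+* K) {e : K} (he : e ^ 2 = 1) :
    threeRep c σ (e • (1 : Matrix (Fin 2) (Fin 2) K)) = 1 := by
  rcases sq_eq_one_iff.1 he with h | h <;> rw [h]
  · rw [one_smul, threeRep_one]
  · rw [show ((-1 : K) • (1 : Matrix (Fin 2) (Fin 2) K)) = Matrix.diagonal ![-1, -1] by
      ext i j; fin_cases i <;> fin_cases j <;> simp]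
    unfold threeRep
    rw [Matrix.diagonal_map (map_zero c), Matrix.diagonal_map (map_zero σ),
      show (fun m => σ ((![-1, -1] : Fin 2 → K) m)) = ![-1, -1] by funext i; fin_cases i <;> simp, symSq_diag,
      Matrix.diagonal_kronecker_diagonal, Matrix.diagonal_kronecker_diagonal, ← Matrix.diagonal_one]
    congr 1
    funext x
    obtain ⟨⟨i, j⟩, r⟩ := x
    fin_cases i <;> fin_cases j <;> fin_cases r <;> simp

theorem threeRep_eq_one (c σ : K →+* K) (hc : ∀ x, c x = x ^ 3) {B : Matrix (Fin 2) (Fin 2) K} (hB : B.det = 1)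
    (h : threeRep c σ B = 1) : ∃ e : K, e ^ 2 = 1 ∧ B = e • (1 : Matrix (Fin 2) (Fin 2) K) := by
  have he : ∀ x y : (Fin 2 × Fin 2) × Fin 3, (B x.1.1 y.1.1 * c (B x.1.2 y.1.2)) * symSq (B.map σ) x.2 y.2 = if x = y then 1 else 0 :=
    fun x y => by
      have := congrFun (congrFun h x) y
      rw [threeRep, Matrix.kronecker_apply, Matrix.kronecker_apply, Matrix.map_apply, Matrix.one_apply] at this
      exact this
  have h00 : B 0 0 * c (B 0 0) * σ (B 0 0) ^ 2 = 1 := by
    simpa [symSq] using he ((0, 0), 0) ((0, 0), 0)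
  have hs : σ (B 0 0) ^ 2 ≠ 0 := fun h0 => by rw [h0, mul_zero] at h00; exact zero_ne_one h00
  have hne : c (B 0 0) ≠ 0 := fun h0 => by rw [h0, mul_zero, zero_mul] at h00; exact zero_ne_one h00
  have hne' : B 0 0 ≠ 0 := fun h0 => hne (by rw [h0, map_zero])
  have h01 : B 0 1 = 0 := by
    have h1 : B 0 1 * c (B 0 0) * σ (B 0 0) ^ 2 = 0 := by simpa [symSq] using he ((0, 0), 0) ((1, 0), 0)
    exact (mul_eq_zero.1 ((mul_eq_zero.1 h1).resolve_right hs)).resolve_right hne
  have h10 : B 1 0 = 0 := by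
    have h1 : B 1 0 * c (B 0 0) * σ (B 0 0) ^ 2 = 0 := by simpa [symSq] using he ((1, 0), 0) ((0, 0), 0)
    exact (mul_eq_zero.1 ((mul_eq_zero.1 h1).resolve_right hs)).resolve_right hne
  have hd : B 0 0 * B 1 1 = 1 := by
    rwa [Matrix.det_fin_two, h01, zero_mul, sub_zero] at hB
  have hσd : σ (B 0 0) * σ (B 1 1) = 1 := by rw [← map_mul, hd, map_one]
  have hmid : symSq (B.map σ) 1 1 = 1 := by simp [symSq, h01, h10, hσd]
  have e1 := he ((0, 1), 1) ((0, 1), 1)
  rw [if_pos rfl, hmid, mul_one, hc] at e1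
  have hsq : B 0 0 ^ 2 = 1 := by
    calc B 0 0 ^ 2 = B 0 0 ^ 2 * (B 0 0 * B 1 1 ^ 3) := by rw [e1, mul_one]
      _ = (B 0 0 * B 1 1) ^ 3 := by ring
      _ = 1 := by rw [hd, one_pow]
  refine ⟨B 0 0, hsq, ?_⟩
  have h11 : B 1 1 = B 0 0 := mul_left_cancel₀ hne' (by rw [hd, ← sq, hsq])
  ext i j
  fin_cases i <;> fin_cases j <;> simp [h01, h10, h11]

end Rep

variable {K : Type} [Field K] [Fintype K] {k : ℕ} [CharP K 3] [Fact (Nat.Prime 3)]

variable (K k) in
/-- the action on the module -/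
noncomputable def triEnd (A : Matrix (Fin 2) (Fin 2) K) : AddMonoid.End ((Fin 2 × Fin 2) × Fin 3 → K) :=
  linEnd (threeRep (iterateFrobenius K 3 1) (iterateFrobenius K 3 k) A)

theorem triEnd_pow_eq_one {A : Matrix (Fin 2) (Fin 2) K} {n : ℕ} {e : K} (he : e ^ 2 = 1)
    (h : A ^ n = e • (1 : Matrix (Fin 2) (Fin 2) K)) : triEnd K k A ^ n = 1 := by
  rw [triEnd, ← linEnd_pow, ← threeRep_pow, h, threeRep_sign _ _ he, linEnd_one]

theorem triEnd_order (A : Matrix.SpecialLinearGroup (Fin 2) K) :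
    ∃ e : K, e ^ 2 = 1 ∧ (A : Matrix (Fin 2) (Fin 2) K) ^ orderOf (triEnd K k (A : Matrix (Fin 2) (Fin 2) K)) =
      e • (1 : Matrix (Fin 2) (Fin 2) K) := by
  refine threeRep_eq_one (iterateFrobenius K 3 1) (iterateFrobenius K 3 k)
    (fun x => by rw [iterateFrobenius_def, pow_one]) (by rw [Matrix.det_pow, A.2, one_pow]) (linEnd_injective ?_)
  rw [threeRep_pow, linEnd_pow, linEnd_one]
  exact pow_orderOf_eq_one _

theorem mod_fifteen (j : ℕ) : 3 ^ (2 * (j + 1)) % 15 = 9 ∨ 3 ^ (2 * (j + 1)) % 15 = 6 := by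
  induction j with
  | zero => left; rfl
  | succ j ih =>
    rw [show 2 * (j + 1 + 1) = 2 * (j + 1) + 2 by ring, pow_add, Nat.mul_mod]
    rcases ih with h | h <;> rw [h]
    · right; rfl
    · left; rfl

theorem fixed_weight_three {Ω : Type} [Field Ω] [CharP Ω 3] (f : K →+* Ω) {A : Matrix (Fin 2) (Fin 2) K} {l : Ω}
    (hl : l ≠ 0) {P : Matrix (Fin 2) (Fin 2) Ω} (hP : IsUnit P)
    (h : A.map f * P = P * Matrix.diagonal ![l, l⁻¹]) {v : (Fin 2 × Fin 2) × Fin 3 → K} (hv : v ≠ 0)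
    (hfix : triEnd K k A v = v) :
    l ^ 4 = 1 ∨ l ^ 2 = 1 ∨ (l ^ 3 ^ k) ^ 2 * l ^ 2 = 1 ∨ (l ^ 3 ^ k) ^ 2 = l ^ 2 ∨
      (l ^ 3 ^ k) ^ 2 * l ^ 4 = 1 ∨ (l ^ 3 ^ k) ^ 2 = l ^ 4 := by
  set D := Matrix.diagonal ![l, l⁻¹] with hD
  set c' := iterateFrobenius Ω 3 1
  set s' := iterateFrobenius Ω 3 k
  have hc : ∀ B : Matrix (Fin 2) (Fin 2) K, (B.map (iterateFrobenius K 3 1)).map f = (B.map f).map c' := fun B => by
    ext i j; simp [c', iterateFrobenius_def, frobenius_def]
  have hs : ∀ B : Matrix (Fin 2) (Fin 2) K, (B.map (iterateFrobenius K 3 k)).map f = (B.map f).map s' := fun B => by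
    ext i j; simp [s', iterateFrobenius_def]
  have hmap : (threeRep (iterateFrobenius K 3 1) (iterateFrobenius K 3 k) A).map f = threeRep c' s' (A.map f) := by
    ext ⟨⟨i, j⟩, r⟩ ⟨⟨i', j'⟩, r'⟩
    simp only [threeRep, ← hc, ← hs, ← map_symSq, Matrix.kronecker_apply, Matrix.map_apply, map_mul]
  have hv' : threeRep c' s' (A.map f) *ᵥ (f ∘ v) = f ∘ v := by
    funext x
    rw [← hmap, ← RingHom.map_mulVec]
    exact congrArg f (congrFun hfix x)
  obtain ⟨u, hu⟩ : IsUnit (threeRep c' s' P) := by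
    have hd : IsUnit P.det := (Matrix.isUnit_iff_isUnit_det P).1 hP
    refine IsUnit.of_mul_eq_one (threeRep c' s' P⁻¹) ?_
    rw [← threeRep_mul, Matrix.mul_nonsing_inv P hd, threeRep_one]
  set y : (Fin 2 × Fin 2) × Fin 3 → Ω := (u⁻¹).val *ᵥ (f ∘ v) with hy
  have hy2 : u.val *ᵥ y = f ∘ v := by rw [hy, Matrix.mulVec_mulVec, Units.mul_inv, Matrix.one_mulVec]
  have hy0 : y ≠ 0 := by
    intro h0
    rw [h0, Matrix.mulVec_zero] at hy2
    apply hv
    funext i
    exact f.injective (by rw [Pi.zero_apply, map_zero]; exact (congrFun hy2 i).symm)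
  have hyfix : threeRep c' s' D *ᵥ y = y := by
    have h2 : u.val *ᵥ (threeRep c' s' D *ᵥ y) = u.val *ᵥ y := by
      rw [Matrix.mulVec_mulVec, hu, ← threeRep_mul, ← h, threeRep_mul, ← Matrix.mulVec_mulVec, ← hu, hy2, hv']
    have h3 := congrArg (fun z => (u⁻¹).val *ᵥ z) h2
    simpa [Matrix.mulVec_mulVec] using h3
  obtain ⟨⟨⟨i, j⟩, r⟩, hij⟩ := Function.ne_iff.1 hy0
  have hDD : threeRep c' s' D = Matrix.diagonal fun x => (![l, l⁻¹] x.1.1 * (![l, l⁻¹] x.1.2) ^ 3) *
      (![(l ^ 3 ^ k) ^ 2, 1, ((l ^ 3 ^ k)⁻¹) ^ 2] x.2) := by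
    rw [threeRep, hD, Matrix.diagonal_map (map_zero c'), Matrix.diagonal_map (map_zero s'),
      show (fun m => s' (![l, l⁻¹] m)) = ![l ^ 3 ^ k, (l ^ 3 ^ k)⁻¹] by
        funext i; fin_cases i <;> simp [s', iterateFrobenius_def],
      symSq_diag, Matrix.diagonal_kronecker_diagonal, Matrix.diagonal_kronecker_diagonal,
      mul_inv_cancel₀ (pow_ne_zero _ hl)]
    congr 1
  rw [hDD] at hyfix
  have h4 := congrFun hyfix ((i, j), r)
  rw [Matrix.mulVec_diagonal] at h4
  have h5 : ![l, l⁻¹] i * (![l, l⁻¹] j) ^ 3 * (![(l ^ 3 ^ k) ^ 2, 1, ((l ^ 3 ^ k)⁻¹) ^ 2] r) = 1 :=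
    mul_right_cancel₀ hij (by rw [one_mul]; exact h4)
  generalize hx : l ^ 3 ^ k = x at h5 ⊢
  have hx0 : x ≠ 0 := hx ▸ pow_ne_zero _ hl
  fin_cases i <;> fin_cases j <;> fin_cases r <;> simp at h5 <;> field_simp at h5 <;>
    first
      | (left; linear_combination h5) | (left; linear_combination -h5)
      | (right; left; linear_combination h5) | (right; left; linear_combination -h5)
      | (right; right; left; linear_combination h5) | (right; right; left; linear_combination -h5)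
      | (right; right; right; left; linear_combination h5) | (right; right; right; left; linear_combination -h5)
      | (right; right; right; right; left; linear_combination h5)
      | (right; right; right; right; left; linear_combination -h5)
      | (right; right; right; right; right; linear_combination h5)
      | (right; right; right; right; right; linear_combination -h5)

theorem three_upper (hK : Fintype.card K = 3 ^ (2 * k)) (hk : ∃ j, k = 2 * (j + 1))
    (A : Matrix.SpecialLinearGroup (Fin 2) K) :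
    orderOf (triEnd K k (A : Matrix (Fin 2) (Fin 2) K)) ∈ specSet 3 (3 ^ k) ∧
      (∑ i ∈ range (orderOf (triEnd K k (A : Matrix (Fin 2) (Fin 2) K))),
        triEnd K k (A : Matrix (Fin 2) (Fin 2) K) ^ i ≠ 0 →
        3 * orderOf (triEnd K k (A : Matrix (Fin 2) (Fin 2) K)) ∈ specSet 3 (3 ^ k)) := by
  have : CharP (AlgebraicClosure K) 3 :=
    charP_of_injective_algebraMap (algebraMap K (AlgebraicClosure K)).injective 3
  set f := algebraMap K (AlgebraicClosure K)
  rcases sl_two_cases f 3 (2 * k) hK A with ⟨e, he, hA⟩ | ⟨l, P, hl, hl2, hlQ, hP, hAP⟩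
  · obtain ⟨e', he', hAp⟩ := unipotent_pow (p := 3) he hA
    have ho : orderOf (triEnd K k (A : Matrix (Fin 2) (Fin 2) K)) ∣ 3 :=
      orderOf_dvd_of_pow_eq_one (triEnd_pow_eq_one he' hAp)
    exact ⟨Or.inr (Or.inr (Or.inr (Or.inr ⟨le_rfl, ho.trans (dvd_mul_left _ _)⟩))),
      fun _ => Or.inr (Or.inr (Or.inr (Or.inr ⟨le_rfl, mul_dvd_mul_left 3 ho⟩)))⟩
  · obtain ⟨n, hn, e, he, hAn⟩ := semisimple_pow f hK hl hlQ hP hAP
    refine ⟨specSet_of_dvd hn (orderOf_dvd_of_pow_eq_one (triEnd_pow_eq_one he hAn)), fun hs => ?_⟩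
    obtain ⟨v, hv, hfix⟩ := exists_fixed_of_sum hs
    obtain ⟨j, hj⟩ := hk
    set q := 3 ^ k with hq
    have hmod := mod_fifteen j
    rw [← hj, ← hq] at hmod
    have hq1 : 1 ≤ q := Nat.one_le_pow _ _ (by norm_num)
    have hord : ∀ δ, (l ^ δ) ^ 2 = 1 → orderOf (triEnd K k (A : Matrix (Fin 2) (Fin 2) K)) ∣ δ := fun δ hδ => by
      obtain ⟨e', he', hle⟩ := sign_of_pow f hδ
      exact orderOf_dvd_of_pow_eq_one (triEnd_pow_eq_one he' (pow_scalar_of_eigen f hP hAP he' hle))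
    have hy4 : (l ^ 2) ^ q ^ 4 = l ^ 2 := by
      have hQ : Fintype.card K = q ^ 2 := by rw [hK, hq, ← pow_mul, mul_comm]
      rw [← pow_mul, mul_comm, pow_mul, show q ^ 4 = Fintype.card K * Fintype.card K by rw [hQ]; ring, pow_mul]
      rcases hlQ with h | h <;> rw [h]
      · rw [h]
      · rw [inv_pow, h, inv_inv]
    rcases fixed_weight_three f hl hP hAP hv hfix with h | h | h | h | h | h
    · refine Or.inr (Or.inr (Or.inr (Or.inl (mul_dvd_mul_left 3 ((hord 2 (by rw [← pow_mul, h])).trans ?_)))))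
      exact (Nat.dvd_iff_mod_eq_zero).2 (by
        have : q % 2 = 1 := Nat.odd_iff.1 (hq ▸ (by decide : Odd 3).pow)
        omega)
    · exact absurd h hl2
    · exact Or.inr (Or.inr (Or.inl (mul_dvd_mul_left 3 (hord _ (by
        rw [pow_succ l q, mul_pow]; exact h)))))
    · refine Or.inr (Or.inr (Or.inr (Or.inl (mul_dvd_mul_left 3 (hord (q - 1) ?_)))))
      refine mul_right_cancel₀ (pow_ne_zero 2 hl) ?_
      rw [← mul_pow, ← pow_succ, Nat.sub_add_cancel hq1, h, one_mul]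
    · exfalso
      apply hl2
      set y := l ^ 2
      have h1 : y ^ (q + 2) = 1 := by
        rw [pow_add, ← h, show y ^ q = (l ^ q) ^ 2 by simp only [y, ← pow_mul, mul_comm], ← pow_mul l 2 2]
      have h2 : y ^ q = (y ^ 2)⁻¹ := eq_inv_of_mul_eq_one_left (by rw [← pow_add, h1])
      have h15 : y ^ 15 = 1 := by
        have h4 : y ^ (q ^ 2) = y ^ 4 := by
          rw [sq q, pow_mul, h2, inv_pow, pow_right_comm, h2, inv_pow, inv_inv, ← pow_mul]
        have hh : y ^ q ^ 4 = y ^ 16 := by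
          rw [show q ^ 4 = q ^ 2 * q ^ 2 by ring, pow_mul, h4, pow_right_comm, h4, ← pow_mul]
        refine mul_right_cancel₀ (pow_ne_zero 2 hl) ?_
        rw [one_mul, ← pow_succ, ← hh, hy4]
      have hg : Nat.gcd 15 (q + 2) = 1 := by
        rw [Nat.gcd_rec]; rcases hmod with hh | hh <;> rw [Nat.add_mod, hh] <;> rfl
      have := pow_gcd_eq_one.2 (And.intro h15 h1)
      rwa [hg, pow_one] at this
    · exfalso
      apply hl2
      set y := l ^ 2
      have h2 : y ^ q = y ^ 2 := by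
        rw [show y ^ q = (l ^ q) ^ 2 by simp only [y, ← pow_mul, mul_comm], h, ← pow_mul]
      have h15 : y ^ 15 = 1 := by
        have h4 : y ^ (q ^ 2) = y ^ 4 := by
          rw [sq q, pow_mul, h2, pow_right_comm, h2, ← pow_mul]
        have hh : y ^ q ^ 4 = y ^ 16 := by
          rw [show q ^ 4 = q ^ 2 * q ^ 2 by ring, pow_mul, h4, pow_right_comm, h4, ← pow_mul]
        refine mul_right_cancel₀ (pow_ne_zero 2 hl) ?_
        rw [one_mul, ← pow_succ, ← hh, hy4]
      have hq2 : 2 ≤ q := by omega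
      have h1 : y ^ (q - 2) = 1 := mul_right_cancel₀ (pow_ne_zero 2 (pow_ne_zero 2 hl)) (by
        rw [← pow_add, Nat.sub_add_cancel hq2, h2, one_mul])
      have hg : Nat.gcd 15 (q - 2) = 1 := by
        rw [Nat.gcd_rec]
        rcases hmod with hh | hh
        · rw [show (q - 2) % 15 = 7 by omega]; rfl
        · rw [show (q - 2) % 15 = 4 by omega]; rfl
      have := pow_gcd_eq_one.2 (And.intro h15 h1)
      rwa [hg, pow_one] at this

end Cfsg.Agent.GenA.Spec
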