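import Mathlib
import Cfsg.Agent.GenA.Spec.Three

/-!
# The large groups for `q` an even power of `3`
-/

set_option autoImplicit false

namespace Cfsg.Agent.GenA.Spec

open Matrix Finset
open scoped Kronecker

variable {K : Type} [Field K] [Fintype K] {k : ℕ} [CharP K 3] [Fact (Nat.Prime 3)]

theorem three_torus (hK : Fintype.card K = 3 ^ (2 * k)) (hk : 1 ≤ k) (δ : ℕ)
    (hδ : δ = (3 ^ k) ^ 2 + 1 ∨ δ = (3 ^ k) ^ 2 - 1) :
    ∃ A : Matrix.SpecialLinearGroup (Fin 2) K,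
      δ / Nat.gcd 2 (3 ^ k - 1) ∣ orderOf (triEnd K k (A : Matrix (Fin 2) (Fin 2) K)) := by
  set q := 3 ^ k with hq
  have hQ : Fintype.card K = q ^ 2 := by rw [hK, hq, ← pow_mul, mul_comm]
  have hQ2 : 2 ≤ q ^ 2 := hQ ▸ Fintype.one_lt_card
  set Ω := AlgebraicClosure K
  have : CharP Ω 3 := charP_of_injective_algebraMap (algebraMap K Ω).injective 3
  have hQ0 : ((q ^ 2 : ℕ) : Ω) = 0 := by
    rw [CharP.cast_eq_zero_iff Ω 3, hq, ← pow_mul]
    exact dvd_pow_self 3 (by omega)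
  have hδ0 : (δ : Ω) ≠ 0 := by
    rcases hδ with h | h <;> rw [h]
    · rw [Nat.cast_add, hQ0, zero_add, Nat.cast_one]; exact one_ne_zero
    · rw [Nat.cast_sub (by omega), hQ0, zero_sub, Nat.cast_one]; exact neg_ne_zero.2 one_ne_zero
  obtain ⟨l, hl⟩ := exists_prim (Ω := Ω) δ hδ0
  have hl0 : l ≠ 0 := hl.ne_zero (fun h => hδ0 (by rw [h, Nat.cast_zero]))
  have hll : l ^ Fintype.card K = l ∨ l ^ Fintype.card K = l⁻¹ := by
    rcases hδ with h | h
    · right
      refine eq_inv_of_mul_eq_one_left ?_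
      rw [← pow_succ, hQ, ← h, hl.pow_eq_one]
    · left
      rw [hQ, show q ^ 2 = δ + 1 by omega, pow_succ, hl.pow_eq_one, one_mul]
  obtain ⟨A, w, hw0, hw⟩ := exists_companion (algebraMap K Ω) 3 (2 * k) hK hl0 hll
  refine ⟨A, ?_⟩
  obtain ⟨e, he, hAd⟩ := triEnd_order (k := k) A
  set d := orderOf (triEnd K k (A : Matrix (Fin 2) (Fin 2) K))
  have hld := eigen_of_pow_eq_smul (algebraMap K Ω) hw0 hw hAd
  obtain ⟨m, hm⟩ : Odd q := hq ▸ (by decide : Odd 3).pow
  have hg : Nat.gcd 2 (q - 1) = 2 := Nat.gcd_eq_left ⟨m, by omega⟩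
  have hdvd : δ ∣ d * 2 := hl.dvd_of_pow_eq_one _ (by rw [pow_mul, hld, ← map_pow, he, map_one])
  have h2 : 2 ∣ δ := by
    have hq2 : q ^ 2 = 2 * (2 * m * m + 2 * m) + 1 := by rw [hm]; ring
    rcases hδ with h | h <;> omega
  rw [hg]
  exact (Nat.div_dvd_iff_dvd_mul h2 two_pos).2 (by rwa [mul_comm] at hdvd)

theorem three_block (hK : Fintype.card K = 3 ^ (2 * k)) (hk : 1 ≤ k) (δ : ℕ)
    (hδ : δ = 3 ^ k + 1 ∨ δ = 3 ^ k - 1) :
    ∃ A : Matrix.SpecialLinearGroup (Fin 2) K,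
      δ ∣ orderOf (triEnd K k (A : Matrix (Fin 2) (Fin 2) K)) ∧
      ∑ i ∈ range (orderOf (triEnd K k (A : Matrix (Fin 2) (Fin 2) K))),
        triEnd K k (A : Matrix (Fin 2) (Fin 2) K) ^ i ≠ 0 := by
  set q := 3 ^ k with hq
  obtain ⟨m, hm⟩ : Odd q := hq ▸ (by decide : Odd 3).pow
  have hq3 : 3 ≤ q := hq ▸ Nat.le_self_pow (by omega) 3
  have hQ : Fintype.card K = q ^ 2 := by rw [hK, hq, ← pow_mul, mul_comm]
  obtain ⟨a, ha⟩ : ∃ a : Kˣ, orderOf a = 2 * δ := by
    obtain ⟨g, hg⟩ := IsCyclic.exists_ofOrder_eq_natCard (α := Kˣ)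
    rw [Nat.card_units, Nat.card_eq_fintype_card] at hg
    have := Fintype.one_lt_card (α := K)
    refine ⟨g ^ ((Fintype.card K - 1) / (2 * δ)), ?_⟩
    rw [← hg]
    refine orderOf_pow_orderOf_div (by rw [hg]; omega) ?_
    rw [hg, hQ, show q ^ 2 - 1 = (q + 1) * (q - 1) by rw [← Nat.sq_sub_sq, one_pow]]
    rcases hδ with h | h
    · rw [h, mul_comm 2]
      exact mul_dvd_mul_left _ ⟨m, by omega⟩
    · rw [h]
      exact mul_dvd_mul_right ⟨m + 1, by omega⟩ _
  have haδ : (a : K) ^ δ = -1 := by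
    have h1 : ((a : K) ^ δ) ^ 2 = 1 := by
      rw [← pow_mul, mul_comm, ← Units.val_pow_eq_pow_val, ← ha, pow_orderOf_eq_one, Units.val_one]
    rcases sq_eq_one_iff.1 h1 with h | h
    · exfalso
      have h2 : a ^ δ = 1 := Units.ext (by rw [Units.val_pow_eq_pow_val, h, Units.val_one])
      have := Nat.le_of_dvd (by omega) (ha ▸ orderOf_dvd_of_pow_eq_one h2)
      omega
    · exact h
  have ha0 : (a : K) ≠ 0 := Units.ne_zero a
  let A : Matrix.SpecialLinearGroup (Fin 2) K :=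
    ⟨Matrix.diagonal ![(a : K), (a : K)⁻¹], by simp [Matrix.det_diagonal, ha0]⟩
  have hAn : ∀ n, (A : Matrix (Fin 2) (Fin 2) K) ^ n = Matrix.diagonal ![(a : K) ^ n, ((a : K) ^ n)⁻¹] := fun n => by
    rw [show (A : Matrix (Fin 2) (Fin 2) K) = Matrix.diagonal ![(a : K), (a : K)⁻¹] from rfl, Matrix.diagonal_pow]
    congr 1
    funext i
    fin_cases i <;> simp
  have hod : orderOf (triEnd K k (A : Matrix (Fin 2) (Fin 2) K)) ∣ δ :=
    orderOf_dvd_of_pow_eq_one (triEnd_pow_eq_one (e := -1) neg_one_sq (by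
      rw [hAn, haδ]
      ext i j
      fin_cases i <;> fin_cases j <;> simp))
  refine ⟨A, ?_, ?_⟩
  · obtain ⟨e, he, hAd⟩ := triEnd_order (k := k) A
    rw [hAn] at hAd
    have h00 := congrFun (congrFun hAd 0) 0
    simp at h00
    have h4 : a ^ (orderOf (triEnd K k (A : Matrix (Fin 2) (Fin 2) K)) * 2) = 1 := Units.ext (by
      rw [Units.val_pow_eq_pow_val, Units.val_one, pow_mul, h00, he])
    have h5 := orderOf_dvd_of_pow_eq_one h4
    rw [ha, mul_comm _ 2] at h5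
    exact Nat.dvd_of_mul_dvd_mul_left two_pos h5
  · have hps : ¬ 3 ∣ orderOf (triEnd K k (A : Matrix (Fin 2) (Fin 2) K)) := by
      intro h
      have h1 := h.trans hod
      have h2 : 3 ∣ q := hq ▸ dvd_pow_self 3 (by omega)
      omega
    let idx : Fin 2 × Fin 2 := if δ = q + 1 then (1, 0) else (0, 1)
    refine sum_ne_zero_of_fixed Nat.prime_three pi_exp hps (v := Pi.single (idx, (0 : Fin 3)) (1 : K))
      (fun h => one_ne_zero (α := K) (by simpa using congrFun h (idx, (0 : Fin 3)))) ?_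
    rw [triEnd, linEnd_apply, threeRep,
      show (A : Matrix (Fin 2) (Fin 2) K) = Matrix.diagonal ![(a : K), (a : K)⁻¹] from rfl,
      Matrix.diagonal_map (map_zero _), Matrix.diagonal_map (map_zero _),
      show (fun i => iterateFrobenius K 3 k (![(a : K), (a : K)⁻¹] i)) = ![(a : K) ^ q, ((a : K) ^ q)⁻¹] by
        funext i; fin_cases i <;> simp [iterateFrobenius_def, hq],
      symSq_diag, Matrix.diagonal_kronecker_diagonal, Matrix.diagonal_kronecker_diagonal,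
      Matrix.diagonal_mulVec_single, mul_one]
    congr 1
    rcases hδ with h | h
    · simp only [idx, if_pos h, Matrix.cons_val_zero, Matrix.cons_val_one, Matrix.cons_val_fin_one]
      rw [iterateFrobenius_def, pow_one,
        show ((a : K)⁻¹ * (a : K) ^ 3) = (a : K) ^ 2 by field_simp, ← mul_pow, ← pow_succ', ← h, haδ, neg_one_sq]
    · simp only [idx, if_neg (show ¬ δ = q + 1 by omega), Matrix.cons_val_zero, Matrix.cons_val_one,
        Matrix.cons_val_fin_one]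
      rw [iterateFrobenius_def, pow_one,
        show ((a : K) * ((a : K)⁻¹) ^ 3) = ((a : K)⁻¹) ^ 2 by field_simp,
        show q = δ + 1 by omega, pow_succ (a : K) δ, haδ, neg_one_mul, neg_sq, ← mul_pow, inv_mul_cancel₀ ha0, one_pow]

theorem exists_large_three (hK : Fintype.card K = 3 ^ (2 * k)) (hk : ∃ j, k = 2 * (j + 1)) (N : ℕ) :
    ∃ (H : Type) (_ : Group H) (_ : Fintype H), N < Fintype.card H ∧
      Set.range (orderOf : H → ℕ) = specSet 3 (3 ^ k) := by
  have hk1 : 1 ≤ k := by obtain ⟨j, rfl⟩ := hk; omega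
  have hmul : ∀ A B : Matrix (Fin 2) (Fin 2) K, triEnd K k (A * B) = triEnd K k A * triEnd K k B := fun A B => by
    rw [triEnd, triEnd, triEnd, threeRep_mul, linEnd_mul]
  have hone : triEnd K k (1 : Matrix (Fin 2) (Fin 2) K) = 1 := by rw [triEnd, threeRep_one, linEnd_one]
  let T : Submonoid (AddMonoid.End ((Fin 2 × Fin 2) × Fin 3 → K)) :=
    { carrier := {x | ∃ A : Matrix.SpecialLinearGroup (Fin 2) K, x = triEnd K k (A : Matrix (Fin 2) (Fin 2) K)}
      one_mem' := ⟨1, by rw [Matrix.SpecialLinearGroup.coe_one, hone]⟩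
      mul_mem' := by
        rintro _ _ ⟨A, rfl⟩ ⟨B, rfl⟩
        exact ⟨A * B, by rw [Matrix.SpecialLinearGroup.coe_mul, hmul]⟩ }
  refine exists_large_end Nat.prime_three pi_exp T ?_ _ ?_ ?_ ?_ N
  · rintro _ ⟨A, rfl⟩
    refine ⟨⟨triEnd K k A, triEnd K k (A⁻¹ : Matrix.SpecialLinearGroup (Fin 2) K), ?_, ?_⟩, rfl⟩
    · rw [← hmul, ← Matrix.SpecialLinearGroup.coe_mul, mul_inv_cancel, Matrix.SpecialLinearGroup.coe_one, hone]
    · rw [← hmul, ← Matrix.SpecialLinearGroup.coe_mul, inv_mul_cancel, Matrix.SpecialLinearGroup.coe_one, hone]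
  · rintro _ ⟨A, rfl⟩
    exact (three_upper hK hk A).1
  · rintro _ ⟨A, rfl⟩
    exact (three_upper hK hk A).2
  rintro d (h | h | h | h | ⟨-, h⟩)
  · obtain ⟨A, hA⟩ := three_torus (K := K) hK hk1 _ (Or.inl rfl)
    exact ⟨_, ⟨A, rfl⟩, Or.inl (h.trans hA)⟩
  · obtain ⟨A, hA⟩ := three_torus (K := K) hK hk1 _ (Or.inr rfl)
    exact ⟨_, ⟨A, rfl⟩, Or.inl (h.trans hA)⟩
  · obtain ⟨A, hA, hs⟩ := three_block (K := K) hK hk1 _ (Or.inl rfl)
    exact ⟨_, ⟨A, rfl⟩, Or.inr ⟨h.trans (mul_dvd_mul_left 3 hA), hs⟩⟩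
  · obtain ⟨A, hA, hs⟩ := three_block (K := K) hK hk1 _ (Or.inr rfl)
    exact ⟨_, ⟨A, rfl⟩, Or.inr ⟨h.trans (mul_dvd_mul_left 3 hA), hs⟩⟩
  · let A : Matrix.SpecialLinearGroup (Fin 2) K := ⟨!![1, 1; 0, 1], by simp [Matrix.det_fin_two]⟩
    have hAn : ∀ n : ℕ, (A : Matrix (Fin 2) (Fin 2) K) ^ n = !![1, (n : K); 0, 1] := by
      intro n
      induction n with
      | zero => ext i j; fin_cases i <;> fin_cases j <;> simp
      | succ n ih =>
        rw [pow_succ, ih]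
        ext i j
        fin_cases i <;> fin_cases j <;> simp [A, Matrix.mul_apply, Fin.sum_univ_two] <;> ring
    have hA3 : (A : Matrix (Fin 2) (Fin 2) K) ^ 3 = (1 : K) • (1 : Matrix (Fin 2) (Fin 2) K) := by
      rw [hAn, one_smul, CharP.cast_eq_zero]
      exact Matrix.one_fin_two.symm
    have hne : triEnd K k (A : Matrix (Fin 2) (Fin 2) K) ≠ 1 := by
      intro h1
      obtain ⟨e, he, hA⟩ := triEnd_order (k := k) A
      rw [h1, orderOf_one, hAn] at hA
      have h01 := congrFun (congrFun hA 0) 1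
      simp at h01
    have ho : orderOf (triEnd K k (A : Matrix (Fin 2) (Fin 2) K)) = 3 :=
      orderOf_eq_prime (triEnd_pow_eq_one (one_pow 2) hA3) hne
    refine ⟨_, ⟨A, rfl⟩, Or.inr ⟨by rw [ho]; exact h, ?_⟩⟩
    rw [ho]
    intro h0
    have hp : ∀ i : ℕ, triEnd K k (A : Matrix (Fin 2) (Fin 2) K) ^ i = triEnd K k !![1, (i : K); 0, 1] := fun i => by
      rw [← hAn, triEnd, triEnd, threeRep_pow, linEnd_pow]
    rw [sum_range_succ, sum_range_succ, sum_range_one, hp, hp, hp] at h0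
    let P : (Fin 2 × Fin 2) × Fin 3 := ((1, 1), 2)
    let Z : (Fin 2 × Fin 2) × Fin 3 := ((0, 0), 0)
    have hval : ∀ i : ℕ, (triEnd K k !![1, (i : K); 0, 1]) (Pi.single P 1) Z = (i : K) * (i : K) * (i : K) ^ 2 := by
      intro i
      rw [triEnd, linEnd_apply, Matrix.mulVec_single_one]
      simp [threeRep, symSq, P, Z, Matrix.col_apply, Matrix.kronecker_apply, frobenius_def]
    have h1 := congrFun (DFunLike.congr_fun h0 (Pi.single P 1)) Z
    change (triEnd K k !![1, ((0 : ℕ) : K); 0, 1]) (Pi.single P 1) Z + (triEnd K k !![1, ((1 : ℕ) : K); 0, 1]) (Pi.single P 1) Z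
      + (triEnd K k !![1, ((2 : ℕ) : K); 0, 1]) (Pi.single P 1) Z = 0 at h1
    rw [hval, hval, hval] at h1
    have h2 : ((17 : ℕ) : K) = 0 := by
      rw [← h1]
      push_cast
      ring
    rw [CharP.cast_eq_zero_iff K 3] at h2
    omega

end Cfsg.Agent.GenA.Spec
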